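import Mathlib

set_option autoImplicit false

open TensorProduct

namespace Groth.Agent.H71.QCoh

universe u

section Alg

/-- fibre dimension does not change along an extension of the field -/
lemma finrank_tensor_eq_of_ringHom {R : Type*} [CommRing R] {K L : Type*} [Field K] [Field L]
    [Algebra R K] [Algebra R L] (σ : K →+* L)
    (hσ : ∀ r, σ (algebraMap R K r) = algebraMap R L r)
    (N : Type*) [AddCommGroup N] [Module R N] :
    Module.finrank L (L ⊗[R] N) = Module.finrank K (K ⊗[R] N) := by
  letI : Algebra K L := σ.toAlgebra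
  haveI : IsScalarTower R K L := IsScalarTower.of_algebraMap_eq (fun r => (hσ r).symm)
  let e : L ⊗[K] (K ⊗[R] N) ≃ₗ[L] L ⊗[R] N :=
    TensorProduct.AlgebraTensorModule.cancelBaseChange R K L L N
  rw [← e.finrank_eq, Module.finrank_baseChange]

/-- the fibre dimension of a localized module at the closed point equals the fibre dimension
of the module at the prime -/
lemma finrank_residueField_tensor_eq_of_isLocalizedModule
    {R : Type*} [CommRing R] (p : Ideal R) [p.IsPrime] (O : Type*) [CommRing O] [IsLocalRing O]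
    [Algebra R O] [IsLocalization.AtPrime O p]
    {N N' : Type*} [AddCommGroup N] [Module R N] [AddCommGroup N'] [Module R N'] [Module O N']
    [IsScalarTower R O N'] (f : N →ₗ[R] N') [IsLocalizedModule p.primeCompl f] :
    Module.finrank (IsLocalRing.ResidueField O) (IsLocalRing.ResidueField O ⊗[O] N') =
      Module.finrank p.ResidueField (p.ResidueField ⊗[R] N) := by
  set κ := IsLocalRing.ResidueField O with hκ
  have hbc : IsBaseChange O f := IsLocalizedModule.isBaseChange p.primeCompl O f
  let e₁ : O ⊗[R] N ≃ₗ[O] N' := hbc.equiv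
  let e₂ : κ ⊗[O] (O ⊗[R] N) ≃ₗ[κ] κ ⊗[O] N' :=
    TensorProduct.AlgebraTensorModule.congr (LinearEquiv.refl κ κ) e₁
  let e₃ : κ ⊗[O] (O ⊗[R] N) ≃ₗ[κ] κ ⊗[R] N :=
    TensorProduct.AlgebraTensorModule.cancelBaseChange R O κ κ N
  rw [← e₂.finrank_eq, e₃.finrank_eq]
  have h1 : p ≤ RingHom.ker (algebraMap R κ) := by
    intro r hr
    rw [RingHom.mem_ker, IsScalarTower.algebraMap_apply R O κ]
    change IsLocalRing.residue O _ = 0
    rw [IsLocalRing.residue_eq_zero_iff]
    exact (IsLocalization.AtPrime.to_map_mem_maximal_iff O p r).2 hr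
  have h2 : p.primeCompl ≤ (IsUnit.submonoid κ).comap (algebraMap R κ) := by
    intro r hr
    change IsUnit (algebraMap R κ r)
    rw [IsScalarTower.algebraMap_apply R O κ]
    exact (IsLocalization.map_units O ⟨r, hr⟩).map _
  exact finrank_tensor_eq_of_ringHom (Ideal.ResidueField.lift p (algebraMap R κ) h1 h2)
    (fun r => Ideal.ResidueField.lift_algebraMap p _ h1 h2 r) N

end Alg

end Groth.Agent.H71.QCoh
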