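import Groth.Agent.H71.Fibre.Rank
import Groth.Agent.H71.QCoh.RankAlg

set_option autoImplicit false
set_option linter.unusedSectionVars false

open TensorProduct

namespace Groth.Agent.H71.QCoh

universe u

section FreeStalks

variable {R : Type u} [CommRing R] {M N : Type u} [AddCommGroup M] [Module R M]
  [AddCommGroup N] [Module R N]

/-- injectivity of `ψ_f` can be checked at the primes of `D(f)` -/
theorem localizedMap_away_injective_of_forall (ψ : M →ₗ[R] N) (f : R)
    (h : ∀ q : PrimeSpectrum R, f ∉ q.asIdeal →
      Function.Injective (LocalizedModule.map q.asIdeal.primeCompl ψ)) :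
    Function.Injective (LocalizedModule.map (Submonoid.powers f) ψ) := by
  -- key: an element of the kernel is killed by a power of `f`
  have key : ∀ y : M, ψ y = 0 → ∃ j : ℕ, f ^ j • y = 0 := by
    intro y hy
    set I : Ideal R := (Submodule.span R {y}).annihilator with hI
    have hfI : f ∈ I.radical := by
      rw [Ideal.radical_eq_sInf, Ideal.mem_sInf]
      rintro Q ⟨hIQ, hQ⟩
      by_contra hfQ
      have := hQ
      have hinj := h ⟨Q, hQ⟩ hfQ
      have h0 : LocalizedModule.map Q.primeCompl ψ (LocalizedModule.mk y 1) = 0 := by
        rw [LocalizedModule.map_mk, hy, LocalizedModule.zero_mk]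
      have h1 : (LocalizedModule.mk y 1 : LocalizedModule Q.primeCompl M) = 0 :=
        hinj (h0.trans (map_zero _).symm)
      rw [← LocalizedModule.zero_mk (1 : Q.primeCompl), LocalizedModule.mk_eq] at h1
      obtain ⟨u, hu⟩ := h1
      simp only [one_smul, smul_zero] at hu
      have hu' : (u : R) ∈ I := by
        rw [hI, Submodule.mem_annihilator_span_singleton]
        exact hu
      exact u.2 (hIQ hu')
    obtain ⟨j, hj⟩ := hfI
    refine ⟨j, ?_⟩
    rw [hI, Submodule.mem_annihilator_span_singleton] at hj
    exact hj
  rw [injective_iff_map_eq_zero]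
  intro z hz
  induction z using LocalizedModule.induction_on with
  | h x s =>
    rw [LocalizedModule.map_mk, ← LocalizedModule.zero_mk s, LocalizedModule.mk_eq] at hz
    obtain ⟨u, hu⟩ := hz
    rw [smul_zero, smul_zero] at hu
    have hy : ψ (((u : R) * (s : R)) • x) = 0 := by
      rw [map_smul, mul_smul]; exact hu
    obtain ⟨j, hj⟩ := key _ hy
    rw [← LocalizedModule.zero_mk s, LocalizedModule.mk_eq]
    refine ⟨⟨f ^ j, j, rfl⟩ * u, ?_⟩
    rw [smul_zero, smul_zero]
    change ((f ^ j * (u : R)) : R) • ((s : R) • x) = 0
    rw [mul_smul, ← mul_smul (u : R)]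
    exact hj

/-- a surjection `R^n → N` with `N_q` free of rank `n` at every `q ∈ D(f)` is injective over `D(f)` -/
theorem localizedMap_away_injective_of_free_stalks [Module.Finite R N] {n : ℕ}
    (ψ : (Fin n → R) →ₗ[R] N) (f : R)
    (hsurj : Function.Surjective (LocalizedModule.map (Submonoid.powers f) ψ))
    (hfree : ∀ q : PrimeSpectrum R, Module.Free (Localization.AtPrime q.asIdeal)
      (LocalizedModule q.asIdeal.primeCompl N))
    (hrank : ∀ q : PrimeSpectrum R, f ∉ q.asIdeal →
      Module.finrank q.asIdeal.ResidueField (q.asIdeal.ResidueField ⊗[R] N) = n) :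
    Function.Injective (LocalizedModule.map (Submonoid.powers f) ψ) := by
  apply localizedMap_away_injective_of_forall
  intro q hq
  have hloc := (Fib.localizedMap_away_surjective_iff ψ f).1 hsurj
  have hsq : Function.Surjective (LocalizedModule.map q.asIdeal.primeCompl ψ) := hloc hq
  have := hfree q
  have : Module.Finite (Localization.AtPrime q.asIdeal) (LocalizedModule q.asIdeal.primeCompl N) :=
    Module.Finite.of_isLocalizedModule q.asIdeal.primeCompl
      (LocalizedModule.mkLinearMap q.asIdeal.primeCompl N)
  have : Module.Free (Localization.AtPrime q.asIdeal)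
      (LocalizedModule q.asIdeal.primeCompl (Fin n → R)) :=
    Module.free_of_isLocalizedModule (Rₛ := Localization.AtPrime q.asIdeal) q.asIdeal.primeCompl
      (LocalizedModule.mkLinearMap q.asIdeal.primeCompl (Fin n → R))
  have : Module.Finite (Localization.AtPrime q.asIdeal)
      (LocalizedModule q.asIdeal.primeCompl (Fin n → R)) :=
    Module.Finite.of_isLocalizedModule q.asIdeal.primeCompl
      (LocalizedModule.mkLinearMap q.asIdeal.primeCompl (Fin n → R))
  -- ranks agree
  have hr1 : Module.finrank (Localization.AtPrime q.asIdeal)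
      (LocalizedModule q.asIdeal.primeCompl N) = n := by
    rw [← hrank q hq]
    have h1 := finrank_residueField_tensor_eq_of_isLocalizedModule q.asIdeal
      (Localization.AtPrime q.asIdeal) (LocalizedModule.mkLinearMap q.asIdeal.primeCompl N)
    rw [← h1, Module.finrank_baseChange]
  have hr2 : Module.finrank (Localization.AtPrime q.asIdeal)
      (LocalizedModule q.asIdeal.primeCompl (Fin n → R)) = n := by
    have := Module.finrank_of_isLocalizedModule_of_free (Localization.AtPrime q.asIdeal)
      q.asIdeal.primeCompl (LocalizedModule.mkLinearMap q.asIdeal.primeCompl (Fin n → R))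
    rw [this]
    have : Nontrivial R := PrimeSpectrum.nonempty_iff_nontrivial.1 ⟨q⟩
    exact Module.finrank_fin_fun R
  -- a surjection between free modules of the same finite rank is injective
  exact (OrzechProperty.bijective_of_surjective_of_finrank_le
    (LocalizedModule.map q.asIdeal.primeCompl ψ) hsq (by rw [hr1, hr2])).1

/-- a finite module with free stalks whose fibre rank is constant near `p` is free near `p` -/
theorem exists_away_free_of_free_stalks [Module.Finite R N] (p : PrimeSpectrum R)
    (hfree : ∀ q : PrimeSpectrum R, Module.Free (Localization.AtPrime q.asIdeal)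
      (LocalizedModule q.asIdeal.primeCompl N))
    (hconst : ∃ g : R, g ∉ p.asIdeal ∧ ∀ q : PrimeSpectrum R, g ∉ q.asIdeal →
      Module.finrank q.asIdeal.ResidueField (q.asIdeal.ResidueField ⊗[R] N) =
        Module.finrank p.asIdeal.ResidueField (p.asIdeal.ResidueField ⊗[R] N)) :
    ∃ h : R, h ∉ p.asIdeal ∧
      Module.Free (Localization.Away h) (LocalizedModule (Submonoid.powers h) N) := by
  obtain ⟨g, hg, hrank⟩ := hconst
  obtain ⟨f, ψ, hf, hsurj⟩ := Fib.exists_map_away_surjective (M := N) p
  refine ⟨f * g, fun h => (p.isPrime.mem_or_mem h).elim hf hg, ?_⟩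
  have hsub : (↑(PrimeSpectrum.basicOpen (f * g)) : Set (PrimeSpectrum R)) ⊆
      ↑(PrimeSpectrum.basicOpen f) := by
    intro q hq hfq
    exact hq (q.asIdeal.mul_mem_right _ hfq)
  have hsurj' : Function.Surjective (LocalizedModule.map (Submonoid.powers (f * g)) ψ) :=
    (Fib.localizedMap_away_surjective_iff ψ (f * g)).2
      (hsub.trans ((Fib.localizedMap_away_surjective_iff ψ f).1 hsurj))
  have hinj := localizedMap_away_injective_of_free_stalks ψ (f * g) hsurj' hfree (by
    intro q hq
    exact hrank q (fun h => hq (q.asIdeal.mul_mem_left _ h)))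
  have : Module.Free (Localization.Away (f * g))
      (LocalizedModule (Submonoid.powers (f * g))
        (Fin (Module.finrank p.asIdeal.ResidueField (p.asIdeal.ResidueField ⊗[R] N)) → R)) :=
    Module.free_of_isLocalizedModule (Rₛ := Localization.Away (f * g))
      (Submonoid.powers (f * g))
      (LocalizedModule.mkLinearMap (Submonoid.powers (f * g))
        (Fin (Module.finrank p.asIdeal.ResidueField (p.asIdeal.ResidueField ⊗[R] N)) → R))
  exact Module.Free.of_equiv (LinearEquiv.ofBijective
    (LocalizedModule.map (Submonoid.powers (f * g)) ψ) ⟨hinj, hsurj'⟩)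

/-- a finite module with free stalks and locally constant fibre rank is projective -/
theorem projective_of_free_stalks [Module.Finite R N]
    (hfree : ∀ q : PrimeSpectrum R, Module.Free (Localization.AtPrime q.asIdeal)
      (LocalizedModule q.asIdeal.primeCompl N))
    (hlc : IsLocallyConstant (fun p : PrimeSpectrum R =>
        Module.finrank p.asIdeal.ResidueField (p.asIdeal.ResidueField ⊗[R] N))) :
    Module.Projective R N := by
  apply Fib.projective_of_forall_exists_away_free
  intro p
  apply exists_away_free_of_free_stalks p hfree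
  have hopen := hlc.isOpen_fiber (Module.finrank p.asIdeal.ResidueField
    (p.asIdeal.ResidueField ⊗[R] N))
  obtain ⟨_, ⟨g, rfl⟩, hpg, hsub⟩ :=
    PrimeSpectrum.isTopologicalBasis_basic_opens.exists_subset_of_mem_open
      (a := p) (u := {x : PrimeSpectrum R | Module.finrank x.asIdeal.ResidueField
        (x.asIdeal.ResidueField ⊗[R] N) = Module.finrank p.asIdeal.ResidueField
        (p.asIdeal.ResidueField ⊗[R] N)}) rfl hopen
  exact ⟨g, hpg, fun q hq => hsub hq⟩

end FreeStalks

end Groth.Agent.H71.QCoh
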