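import Groth.Agent.H71.QCoh.StalkRank
import Groth.Agent.H71.QCoh.FreeStalks
import Groth.Agent.H71.Fibre.Inj

set_option autoImplicit false

open CategoryTheory Limits AlgebraicGeometry TopologicalSpace Opposite TensorProduct

namespace Groth.Agent.H71.QCoh

universe u

variable {X : Scheme.{u}} (F : X.Modules) [F.IsQuasicoherent]

/-- a quasi-coherent module with finite sections over all affine opens is of finite type -/
theorem isFiniteType_of_finite_sections
    (h : ∀ V : X.affineOpens, Module.Finite Γ(X, V.1) Γ(F, V.1)) :
    SheafOfModules.IsFiniteType (R := X.ringCatSheaf) F := by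
  have hfg : ∀ V : X.affineOpens, ∃ S : Finset Γ(F, V.1),
      Submodule.span Γ(X, V.1) (S : Set Γ(F, V.1)) = ⊤ := fun V => (h V).fg_top
  choose S hS using hfg
  refine Groth.Agent.H18.isFiniteType_of_isQuasicoherent_of_span_eq_top F
    (fun V : X.affineOpens => V.1) (iSup_affineOpens_eq_top X) (fun V => V.2)
    (fun V => ↥(S V)) (fun V m => m.1) ?_
  intro V
  have : (Set.range fun m : ↥(S V) => (m.1 : Γ(F, V.1))) = (S V : Set Γ(F, V.1)) :=
    Subtype.range_coe
  rw [this]
  exact hS V

/-- finite locally free quasi-coherent modules are of finite type -/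
theorem isFiniteType_of_isFinLocFree (hF : FlatMod.IsFinLocFree F) :
    SheafOfModules.IsFiniteType (R := X.ringCatSheaf) F :=
  isFiniteType_of_finite_sections F
    (fun V => (Groth.Agent.H44.finite_projective_of_isFinLocFree F hF V.2).1)

/-- the fibre rank of a finite locally free quasi-coherent module is locally constant -/
theorem isLocallyConstant_fibreRank_of_isFinLocFree (hF : FlatMod.IsFinLocFree F) :
    IsLocallyConstant (fibreRank F) := by
  apply isLocallyConstant_fibreRank
  intro V
  obtain ⟨h1, h2⟩ := Groth.Agent.H44.finite_projective_of_isFinLocFree F hF V.2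
  exact Groth.Agent.H71.Fib.isLocallyConstant_finrank_fibre' (R := Γ(X, V.1)) Γ(F, V.1)

end Groth.Agent.H71.QCoh
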