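import Groth.Agent.H71.QCoh.PushOpen

/-!
# A module whose sections over all affine opens vanish is zero
-/

set_option autoImplicit false

open CategoryTheory Limits AlgebraicGeometry TopologicalSpace Opposite

namespace Groth.Agent.H71.QCoh

universe u

theorem subsingleton_sections_of_affine {X : Scheme.{u}} (F : X.Modules)
    (h : ∀ V : X.affineOpens, Subsingleton Γ(F, V.1)) (W : X.Opens) : Subsingleton Γ(F, W) := by
  refine ⟨fun s t => ?_⟩
  refine TopCat.Presheaf.section_ext ⟨F.presheaf, F.isSheaf⟩ W s t (fun x hx => ?_)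
  obtain ⟨_, ⟨V, hV, rfl⟩, hxV, hVW⟩ :=
    X.isBasis_affineOpens.exists_subset_of_mem_open hx W.2
  haveI := h ⟨V, hV⟩
  have hs := TopCat.Presheaf.germ_res_apply F.presheaf (homOfLE hVW) x hxV s
  have ht := TopCat.Presheaf.germ_res_apply F.presheaf (homOfLE hVW) x hxV t
  have : (F.presheaf.map (homOfLE hVW).op) s = (F.presheaf.map (homOfLE hVW).op) t :=
    Subsingleton.elim (α := Γ(F, V)) _ _
  exact hs.symm.trans ((congrArg _ this).trans ht)

theorem isZero_of_subsingleton_sections_affine {X : Scheme.{u}} (F : X.Modules)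
    (h : ∀ V : X.affineOpens, Subsingleton Γ(F, V.1)) : IsZero F :=
  isZero_of_subsingleton_sections F (subsingleton_sections_of_affine F h)

end Groth.Agent.H71.QCoh
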