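import Groth.Agent.H12.QCohAbelian
import Groth.Agent.H92.LocFreeRank
import Groth.Agent.H71.QCoh.LocFreeRank
import Groth.Agent.H71.QCoh.ZeroAffine

/-!
# Sections of epimorphisms / monomorphisms of quasi-coherent modules over affine opens

* `app_surjective_of_epi` : an epimorphism of quasi-coherent modules is surjective on sections over
  affine opens.
* `isFiniteType_of_epi` : quotients of quasi-coherent modules of finite type are of finite type.
* `isFiniteType_of_mono` : on a locally Noetherian scheme, quasi-coherent submodules of
  quasi-coherent modules of finite type are of finite type.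
* `isZero_of_subsingleton_sections_cover`, `isIso_of_mono_of_app_surjective_cover`.
-/

set_option autoImplicit false

open CategoryTheory Limits AlgebraicGeometry TopologicalSpace Opposite

namespace Groth.Agent.H71.QCoh

universe u

variable {X : Scheme.{u}}

/-- an epimorphism of quasi-coherent modules is surjective on sections over affine opens -/
theorem app_surjective_of_epi {M N : X.Modules} [M.IsQuasicoherent] [N.IsQuasicoherent]
    (φ : M ⟶ N) [Epi φ] {U : X.Opens} (hU : IsAffineOpen U) :
    Function.Surjective (φ.app U) := by
  let S : ShortComplex X.Modules := ShortComplex.mk (kernel.ι φ) φ (kernel.condition φ)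
  have hS : S.ShortExact :=
    { exact := ShortComplex.exact_of_f_is_kernel S (kernelIsKernel φ)
      mono_f := inferInstanceAs (Mono (kernel.ι φ))
      epi_g := inferInstanceAs (Epi φ) }
  haveI : S.X₁.IsQuasicoherent := Groth.Agent.H12.QCohAbelian.isQuasicoherent_kernel φ
  exact Groth.Agent.H12.QCohExt.app_surjective_of_isAffineOpen S hS hU

/-- quotients of quasi-coherent modules of finite type are of finite type -/
theorem isFiniteType_of_epi {M N : X.Modules} [M.IsQuasicoherent] [N.IsQuasicoherent]
    [SheafOfModules.IsFiniteType (R := X.ringCatSheaf) M] (φ : M ⟶ N) [Epi φ] :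
    SheafOfModules.IsFiniteType (R := X.ringCatSheaf) N := by
  refine isFiniteType_of_finite_sections N (fun V => ?_)
  haveI := Groth.Agent.H44.finite_sections_of_isFiniteType M V.2
  exact Module.Finite.of_surjective (Groth.Agent.H92.LocFreeRank.appLin φ V.1)
    (app_surjective_of_epi φ V.2)

/-- on a locally Noetherian scheme, quasi-coherent submodules of quasi-coherent modules of finite
type are of finite type -/
theorem isFiniteType_of_mono [IsLocallyNoetherian X] {M N : X.Modules} [M.IsQuasicoherent]
    [N.IsQuasicoherent] [SheafOfModules.IsFiniteType (R := X.ringCatSheaf) N] (φ : M ⟶ N)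
    [Mono φ] : SheafOfModules.IsFiniteType (R := X.ringCatSheaf) M := by
  refine isFiniteType_of_finite_sections M (fun V => ?_)
  haveI := Groth.Agent.H44.finite_sections_of_isFiniteType N V.2
  haveI : IsNoetherianRing Γ(X, V.1) := IsLocallyNoetherian.component_noetherian V
  haveI : IsNoetherian Γ(X, V.1) Γ(N, V.1) := isNoetherian_of_isNoetherianRing_of_finite _ _
  exact Module.Finite.of_injective (Groth.Agent.H92.LocFreeRank.appLin φ V.1)
    (Groth.Agent.H12.QCohAbelian.app_injective_of_mono φ V.1)

/-- a quasi-coherent module whose sections over the members of an affine open cover vanish is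
zero -/
theorem isZero_of_subsingleton_sections_cover (F : X.Modules) [F.IsQuasicoherent]
    {ι : Type*} (U : ι → X.Opens) (hU : ∀ x : X, ∃ i, x ∈ U i) (hUa : ∀ i, IsAffineOpen (U i))
    (h : ∀ i, Subsingleton Γ(F, U i)) : IsZero F := by
  refine isZero_of_subsingleton_sections F (fun W => ?_)
  refine subsingleton_sections_of_stalks F W (fun x _ => ?_)
  obtain ⟨i, hxi⟩ := hU x
  letI := Groth.Agent.H8.stalkModule F hxi
  haveI := Groth.Agent.H8.isLocalizedModule_germₗ F (hUa i) hxi
  haveI := h i
  exact (IsLocalizedModule.iso ((hUa i).primeIdealOf ⟨x, hxi⟩).asIdeal.primeCompl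
    (Groth.Agent.H8.germₗ F hxi)).symm.toEquiv.subsingleton

/-- a morphism of quasi-coherent modules which is surjective on sections over the members of an
affine open cover is an epimorphism -/
theorem epi_of_app_surjective_cover {M N : X.Modules} [M.IsQuasicoherent] [N.IsQuasicoherent]
    (φ : M ⟶ N) {ι : Type*} (U : ι → X.Opens) (hU : ∀ x : X, ∃ i, x ∈ U i)
    (hUa : ∀ i, IsAffineOpen (U i)) (h : ∀ i, Function.Surjective (φ.app (U i))) : Epi φ := by
  haveI : (cokernel φ).IsQuasicoherent := Groth.Agent.H12.QCohAbelian.isQuasicoherent_cokernel φ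
  have hz : IsZero (cokernel φ) := by
    refine isZero_of_subsingleton_sections_cover _ U hU hUa (fun i => ?_)
    have hsurj := app_surjective_of_epi (cokernel.π φ) (hUa i)
    refine ⟨fun a b => ?_⟩
    have key : ∀ c : Γ(cokernel φ, U i), c = 0 := by
      intro c
      obtain ⟨n, rfl⟩ := hsurj c
      obtain ⟨m, rfl⟩ := h i n
      exact Groth.Agent.H12.QCohExt.app_zero_apply
        (ShortComplex.mk φ (cokernel.π φ) (cokernel.condition φ)) (U i) m
    rw [key a, key b]
  exact Preadditive.epi_of_isZero_cokernel φ hz

/-- a monomorphism of quasi-coherent modules which is surjective on sections over the members of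
an affine open cover is an isomorphism -/
theorem isIso_of_mono_of_app_surjective_cover {M N : X.Modules} [M.IsQuasicoherent]
    [N.IsQuasicoherent] (φ : M ⟶ N) [Mono φ] {ι : Type*} (U : ι → X.Opens)
    (hU : ∀ x : X, ∃ i, x ∈ U i) (hUa : ∀ i, IsAffineOpen (U i))
    (h : ∀ i, Function.Surjective (φ.app (U i))) : IsIso φ := by
  haveI := epi_of_app_surjective_cover φ U hU hUa h
  exact isIso_of_mono_of_epi φ

end Groth.Agent.H71.QCoh
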