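import Groth.Agent.H44.FPSections

/-!
# Criterion for finite presentation of quasi-coherent modules (helper71)

Converse of `H44/FPSections`: a quasi-coherent module whose sections over the members of an affine
open cover are finitely presented modules is a finitely presented `O_X`-module.
-/

set_option autoImplicit false
universe u
open CategoryTheory Limits AlgebraicGeometry Scheme.Modules TopologicalSpace Opposite

namespace Groth.Agent.H71.QCoh

open Groth.Agent.H44

set_option backward.isDefEq.respectTransparency false in
/-- a quasi-coherent module on `Spec R` with finitely presented global sections has a finite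
global presentation -/
theorem exists_finite_presentation_Spec {R : CommRingCat.{u}} (N : (Spec R).Modules)
    [N.IsQuasicoherent] (h : Module.FinitePresentation R (gammaSpec N : Type u)) :
    ∃ P : N.Presentation, P.IsFinite := by
  obtain ⟨s, hs, ht⟩ := h.out
  obtain ⟨t, ht'⟩ := ht
  let P := presentationTilde (gammaSpec N) (s : Set (gammaSpec N : Type u)) hs
    (t : Set ((s : Set (gammaSpec N : Type u)) →₀ R)) ht'
  haveI : P.IsFinite :=
    { isFiniteType_generators := ⟨inferInstanceAs (Finite (s : Set (gammaSpec N : Type u)))⟩
      isFiniteType_relations :=
        ⟨inferInstanceAs (Finite (t : Set ((s : Set (gammaSpec N : Type u)) →₀ R)))⟩ }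
  have : IsIso N.fromTildeΓ := inferInstance
  exact ⟨P.ofIsIso N.fromTildeΓ, inferInstance⟩

set_option backward.isDefEq.respectTransparency false in
/-- a quasi-coherent module with finitely presented sections over an affine open `V` has a finite
presentation over `V` -/
theorem exists_finite_presentation_restrict {X : Scheme.{u}} (M : X.Modules) [M.IsQuasicoherent]
    {V : X.Opens} (hV : IsAffineOpen V) (h : Module.FinitePresentation Γ(X, V) Γ(M, V)) :
    ∃ P : (M.restrict V.ι).Presentation, P.IsFinite := by
  have h1 : Module.FinitePresentation Γ(X, V)
      (gammaSpec (R := Γ(X, V)) (M.restrict hV.fromSpec) : Type u) :=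
    Module.FinitePresentation.of_equiv (sectionsSpecEquiv M hV).symm
  obtain ⟨P, hP⟩ := exists_finite_presentation_Spec (R := Γ(X, V)) (M.restrict hV.fromSpec) h1
  have : PreservesColimitsOfSize.{u, u} (restrictFunctor hV.isoSpec.hom) := inferInstance
  have := presentation_map_isFinite P (restrictFunctor hV.isoSpec.hom)
    (Scheme.Modules.restrictUnitIso _).symm
  let e : restrictFunctor V.ι ≅
      restrictFunctor hV.fromSpec ⋙ restrictFunctor hV.isoSpec.hom :=
    restrictFunctorCongr (hV.isoSpec_hom_fromSpec).symm ≪≫ restrictFunctorComp _ _
  exact ⟨SheafOfModules.Presentation.ofIsIso.{u, u, u} (e.app M).inv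
    (P.map (restrictFunctor hV.isoSpec.hom) (Scheme.Modules.restrictUnitIso _).symm),
    inferInstance⟩

set_option backward.isDefEq.respectTransparency false in
/-- a finite presentation of the restriction of `M` to `U` gives a finite presentation of
`M.over U` -/
theorem exists_finite_presentation_over {X : Scheme.{u}} (M : X.Modules) (U : X.Opens)
    (P : (M.restrict U.ι).Presentation) [P.IsFinite] :
    ∃ Q : (M.over U).Presentation, Q.IsFinite := by
  let e := Scheme.Modules.overEquiv U
  let P1 : (e.functor.obj (M.over U)).Presentation :=
    SheafOfModules.Presentation.ofIsIso.{u, u, u} ((Scheme.Modules.overFunctorEquiv U).app M).inv P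
  have hP1 : P1.IsFinite := inferInstance
  have : PreservesColimitsOfSize.{u, u} e.inverse := inferInstance
  let η : SheafOfModules.unit (X.ringCatSheaf.over U) ≅
      e.inverse.obj (SheafOfModules.unit (U : Scheme.{u}).ringCatSheaf) :=
    (U.sheafOfModulesEquivOverInverseUnit X.ringCatSheaf).symm
  let P2 : (e.inverse.obj (e.functor.obj (M.over U))).Presentation := P1.map e.inverse η
  have hP2 : P2.IsFinite := presentation_map_isFinite P1 e.inverse η
  exact ⟨SheafOfModules.Presentation.ofIsIso.{u, u, u} (e.unitIso.app (M.over U)).inv P2,
    inferInstance⟩

/-- finite presentation is local: finite presentations of the restrictions to the members of an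
open cover give finite presentation -/
theorem isFinitePresentation_of_cover {X : Scheme.{u}} (M : X.Modules) {ι : Type u}
    (U : ι → X.Opens) (hU : IsOpenCover U)
    (h : ∀ i, ∃ P : (M.restrict (U i).ι).Presentation, P.IsFinite) :
    SheafOfModules.IsFinitePresentation (R := X.ringCatSheaf) M := by
  have hcov : (Opens.grothendieckTopology X).CoversTop U :=
    (_root_.Opens.coversTop_iff _ U).mpr hU
  have h' : ∀ i, ∃ Q : (M.over (U i)).Presentation, Q.IsFinite := fun i => by
    obtain ⟨P, hP⟩ := h i
    exact exists_finite_presentation_over M (U i) P
  choose Q hQ using h'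
  let σ : SheafOfModules.QuasicoherentData (R := X.ringCatSheaf) M :=
    { I := ι, X := U, coversTop := hcov, presentation := Q }
  have hσ : σ.IsFinitePresentation := { isFinite_presentation := hQ }
  exact { exists_quasicoherentData := ⟨σ, hσ⟩ }

/-- **A quasi-coherent module whose sections over the members of an affine open cover are finitely
presented is a finitely presented `O_X`-module.** -/
theorem isFinitePresentation_of_finitePresentation_sections {X : Scheme.{u}} (M : X.Modules)
    [M.IsQuasicoherent] {ι : Type u} (U : ι → X.Opens) (hU : IsOpenCover U)
    (hUa : ∀ i, IsAffineOpen (U i))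
    (h : ∀ i, Module.FinitePresentation Γ(X, U i) Γ(M, U i)) :
    SheafOfModules.IsFinitePresentation (R := X.ringCatSheaf) M :=
  isFinitePresentation_of_cover M U hU
    (fun i => exists_finite_presentation_restrict M (hUa i) (h i))

end Groth.Agent.H71.QCoh
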