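import Groth.Agent.H71.QCoh.LocFreeRank
import Groth.Agent.H8.PushQCoh

set_option autoImplicit false

open CategoryTheory Limits AlgebraicGeometry TopologicalSpace Opposite TensorProduct

namespace Groth.Agent.H71.QCoh

universe u

/-- a quasi-coherent module with finite sections over the members of an affine open cover is of
finite type -/
theorem isFiniteType_of_finite_sections_cover {X : Scheme.{u}} (F : X.Modules) [F.IsQuasicoherent]
    {ι : Type u} (U : ι → X.Opens) (hU : IsOpenCover U) (hUa : ∀ i, IsAffineOpen (U i))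
    (h : ∀ i, Module.Finite Γ(X, U i) Γ(F, U i)) :
    SheafOfModules.IsFiniteType (R := X.ringCatSheaf) F := by
  have hfg : ∀ i, ∃ S : Finset Γ(F, U i),
      Submodule.span Γ(X, U i) (S : Set Γ(F, U i)) = ⊤ := fun i => (h i).fg_top
  choose S hS using hfg
  refine Groth.Agent.H18.isFiniteType_of_isQuasicoherent_of_span_eq_top F U hU hUa
    (fun i => ↥(S i)) (fun i m => m.1) ?_
  intro i
  have : (Set.range fun m : ↥(S i) => (m.1 : Γ(F, U i))) = (S i : Set Γ(F, U i)) :=
    Subtype.range_coe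
  rw [this]
  exact hS i

section Push

variable {X Y : Scheme.{u}} (f : X ⟶ Y) (F : X.Modules)

/-- sections of the pushforward are finite over the base iff they are finite upstairs, when the
ring map is finite -/
theorem finite_sections_pushforward_iff (V : Y.Opens) (hfin : (f.app V).hom.Finite) :
    Module.Finite Γ(Y, V) Γ((Scheme.Modules.pushforward f).obj F, V) ↔
      Module.Finite Γ(X, f ⁻¹ᵁ V) Γ(F, f ⁻¹ᵁ V) := by
  letI : Algebra Γ(Y, V) Γ(X, f ⁻¹ᵁ V) := (f.app V).hom.toAlgebra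
  letI : Module Γ(Y, V) Γ(F, f ⁻¹ᵁ V) :=
    (inferInstance : Module Γ(Y, V) Γ((Scheme.Modules.pushforward f).obj F, V))
  haveI : IsScalarTower Γ(Y, V) Γ(X, f ⁻¹ᵁ V) Γ(F, f ⁻¹ᵁ V) :=
    IsScalarTower.of_algebraMap_smul (fun r m => rfl)
  haveI : Module.Finite Γ(Y, V) Γ(X, f ⁻¹ᵁ V) := hfin
  constructor
  · intro h
    haveI : Module.Finite Γ(Y, V) Γ(F, f ⁻¹ᵁ V) := h
    exact Module.Finite.of_restrictScalars_finite Γ(Y, V) Γ(X, f ⁻¹ᵁ V) Γ(F, f ⁻¹ᵁ V)
  · intro h
    exact Module.Finite.trans (R := Γ(Y, V)) Γ(X, f ⁻¹ᵁ V) Γ(F, f ⁻¹ᵁ V)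

end Push

end Groth.Agent.H71.QCoh
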