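import Groth.Agent.H71.QCoh.NilImmersion
import Groth.Agent.H12.QCohExt

/-!
# Infinitesimal thickenings and quasi-coherent modules

Let `J` be an ideal sheaf on `X` and `i_n : V(J^(n+1)) → X` the thickenings.
* `exists_sub_one_mem_ker_smul_eq_zero`, `ker_le_ker_smul_top_of_tensor_equiv`,
  `exists_sub_one_mem_and_smul_eq_zero_of_forall_mem_pow_smul` : Nakayama / Krull algebra.
* `subsingleton_stalk_of_smul_eq_zero`, `isZero_restrict_of_subsingleton_stalks`,
  `mem_basicOpen_of_sub_one_mem_ideal`.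
* `exists_opens_isZero_restrict_of_isZero_pullback` : `C` quasi-coherent of finite type with
  `i_0^*C = 0` vanishes on a neighbourhood of `Supp J`.
* `exists_opens_isZero_restrict_image_of_pullback_map_eq_zero` : on a locally Noetherian scheme, if
  `i_n^*u = 0` for all `n` then the image of `u` vanishes on a neighbourhood of `Supp J`.
-/

set_option autoImplicit false

open CategoryTheory Limits AlgebraicGeometry TopologicalSpace Opposite TensorProduct

namespace Groth.Agent.H71.QCoh

universe u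

section Alg

variable {A A₀ N Q : Type u} [CommRing A] [CommRing A₀] [Algebra A A₀] [AddCommGroup N]
  [Module A N] [AddCommGroup Q] [Module A Q]

/-- if `1 ⊗ n = 0` in `A₀ ⊗ N` with `A → A₀` surjective, then `n ∈ ker • ⊤` -/
theorem mem_ker_smul_top_of_one_tmul_eq_zero (hsurj : Function.Surjective (algebraMap A A₀))
    (n : N) (h : (1 : A₀) ⊗ₜ[A] n = 0) :
    n ∈ RingHom.ker (algebraMap A A₀) • (⊤ : Submodule A N) := by
  have hsurj' : Function.Surjective (Algebra.ofId A A₀) := hsurj
  let e1 : (A ⧸ RingHom.ker (Algebra.ofId A A₀)) ≃ₐ[A] A₀ :=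
    Ideal.quotientKerAlgEquivOfSurjective hsurj'
  let e2 : (A ⧸ RingHom.ker (Algebra.ofId A A₀)) ⊗[A] N ≃ₗ[A] A₀ ⊗[A] N :=
    TensorProduct.congr e1.toLinearEquiv (LinearEquiv.refl A N)
  let e3 := TensorProduct.quotTensorEquivQuotSMul N (RingHom.ker (Algebra.ofId A A₀))
  have h1 : e2 ((1 : A ⧸ RingHom.ker (Algebra.ofId A A₀)) ⊗ₜ[A] n) = (1 : A₀) ⊗ₜ[A] n := by
    simp [e2, e1]
  have h2 : (1 : A ⧸ RingHom.ker (Algebra.ofId A A₀)) ⊗ₜ[A] n = 0 := by
    apply e2.injective
    rw [h1, h, map_zero]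
  have h3 := congrArg e3 h2
  rw [map_zero] at h3
  have h4 : e3 ((1 : A ⧸ RingHom.ker (Algebra.ofId A A₀)) ⊗ₜ[A] n) =
      Submodule.Quotient.mk n := by
    simp [e3]
  rw [h4, Submodule.Quotient.mk_eq_zero] at h3
  exact h3

/-- Nakayama: a finite module whose base change along a surjection `A → A₀` vanishes is killed by
an element of `1 + ker`. -/
theorem exists_sub_one_mem_ker_smul_eq_zero (hsurj : Function.Surjective (algebraMap A A₀))
    [Module.Finite A N] [Subsingleton (A₀ ⊗[A] N)] :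
    ∃ a : A, a - 1 ∈ RingHom.ker (algebraMap A A₀) ∧ ∀ n : N, a • n = 0 := by
  have htop : (⊤ : Submodule A N) ≤ RingHom.ker (algebraMap A A₀) • (⊤ : Submodule A N) := by
    intro n _
    exact mem_ker_smul_top_of_one_tmul_eq_zero hsurj n (Subsingleton.elim _ _)
  obtain ⟨a, ha, ha'⟩ := Submodule.exists_sub_one_mem_and_smul_eq_zero_of_fg_of_le_smul _
    (⊤ : Submodule A N) Module.Finite.fg_top htop
  exact ⟨a, ha, fun n => ha' n trivial⟩

/-- if the base changes of `N` and of its quotient `Q` along a surjection `A → A₀` are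
abstractly isomorphic (`N` finite), then `ker (N → Q) ⊆ ker(A → A₀) • N`. -/
theorem ker_le_ker_smul_top_of_tensor_equiv (hsurj : Function.Surjective (algebraMap A A₀))
    [Module.Finite A N] (p : N →ₗ[A] Q) (hp : Function.Surjective p)
    (e : A₀ ⊗[A] N ≃ₗ[A₀] A₀ ⊗[A] Q) :
    LinearMap.ker p ≤ RingHom.ker (algebraMap A A₀) • (⊤ : Submodule A N) := by
  intro k hk
  refine mem_ker_smul_top_of_one_tmul_eq_zero hsurj k ?_
  let π : A₀ ⊗[A] N →ₗ[A₀] A₀ ⊗[A] Q := LinearMap.baseChange A₀ p
  have hπ : Function.Surjective π := LinearMap.lTensor_surjective A₀ hp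
  let f : A₀ ⊗[A] N →ₗ[A₀] A₀ ⊗[A] N := e.symm.toLinearMap.comp π
  have hf : Function.Surjective f := e.symm.surjective.comp hπ
  have hinj : Function.Injective f := OrzechProperty.injective_of_surjective_endomorphism f hf
  apply hinj
  rw [map_zero]
  change e.symm (π ((1 : A₀) ⊗ₜ[A] k)) = 0
  have : π ((1 : A₀) ⊗ₜ[A] k) = 0 := by
    change LinearMap.baseChange A₀ p ((1 : A₀) ⊗ₜ[A] k) = 0
    rw [LinearMap.baseChange_tmul, LinearMap.mem_ker.mp hk, tmul_zero]
  rw [this, map_zero]

/-- Krull intersection, uniform form for modules. -/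
theorem exists_sub_one_mem_and_smul_eq_zero_of_forall_mem_pow_smul [IsNoetherianRing A]
    [Module.Finite A N] (I : Ideal A) :
    ∃ s : A, s - 1 ∈ I ∧ ∀ n : N, (∀ k : ℕ, n ∈ I ^ k • (⊤ : Submodule A N)) → s • n = 0 := by
  let N' : Submodule A N := ⨅ i : ℕ, I ^ i • ⊤
  have hN : ∀ k, (I.stableFiltration (⊤ : Submodule A N) ⊓ I.trivialFiltration N').N k = N' :=
    fun k => inf_eq_right.mpr ((iInf_le _ k).trans <| le_of_eq <| by simp)
  have hle : N' ≤ I • N' := by
    obtain ⟨k, hk⟩ := (I.stableFiltration_stable (⊤ : Submodule A N)).inter_right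
      (I.trivialFiltration N')
    have := hk k (le_refl _)
    rw [hN, hN] at this
    exact le_of_eq this.symm
  obtain ⟨s, hs, hs'⟩ := Submodule.exists_sub_one_mem_and_smul_eq_zero_of_fg_of_le_smul I N'
    (IsNoetherian.noetherian N') hle
  refine ⟨s, hs, fun a ha => hs' a ?_⟩
  rw [Submodule.mem_iInf]
  exact ha

end Alg

variable {X : Scheme.{u}}

/-- a quasi-coherent module whose sections over an affine open `V` are killed by `a` has zero
stalks on `D(a)` -/
theorem subsingleton_stalk_of_smul_eq_zero (C : X.Modules) [C.IsQuasicoherent] {V : X.Opens}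
    (hV : IsAffineOpen V) (a : Γ(X, V)) (ha : ∀ s : Γ(C, V), a • s = 0) {x : X}
    (hx : x ∈ X.basicOpen a) : Subsingleton (C.presheaf.stalk x) := by
  have hxV : x ∈ V := X.basicOpen_le a hx
  letI := Groth.Agent.H8.stalkModule C hxV
  haveI := Groth.Agent.H8.isLocalizedModule_germₗ C hV hxV
  have haS : a ∈ (hV.primeIdealOf ⟨x, hxV⟩).asIdeal.primeCompl :=
    (Groth.Agent.H8.notMem_primeIdealOf_iff hV hxV a).mpr hx
  have h0 : ∀ y : C.presheaf.stalk x, y = 0 := by
    intro y
    obtain ⟨⟨s, t⟩, hst⟩ := IsLocalizedModule.surj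
      (hV.primeIdealOf ⟨x, hxV⟩).asIdeal.primeCompl (Groth.Agent.H8.germₗ C hxV) y
    have h1 : Groth.Agent.H8.germₗ C hxV s = 0 := by
      rw [IsLocalizedModule.eq_zero_iff (hV.primeIdealOf ⟨x, hxV⟩).asIdeal.primeCompl]
      exact ⟨⟨a, haS⟩, ha s⟩
    rw [h1] at hst
    apply IsLocalizedModule.smul_injective (Groth.Agent.H8.germₗ C hxV) t
    simp only [smul_zero]
    exact hst
  exact ⟨fun y z => (h0 y).trans (h0 z).symm⟩

/-- a module with vanishing stalks on an open `U` restricts to zero on `U` -/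
theorem isZero_restrict_of_subsingleton_stalks (C : X.Modules) (U : X.Opens)
    (h : ∀ x ∈ U, Subsingleton (C.presheaf.stalk x)) :
    IsZero ((Scheme.Modules.restrictFunctor U.ι).obj C) := by
  refine isZero_of_subsingleton_sections _ (fun W => ?_)
  change Subsingleton Γ(C, U.ι ''ᵁ W)
  refine subsingleton_sections_of_stalks C _ (fun x hx => h x ?_)
  obtain ⟨y, -, rfl⟩ := hx
  exact y.2

/-- if `a - 1` lies in the ideal of `J` over the affine open `V`, then `D(a)` contains
`V ∩ Supp J` -/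
theorem mem_basicOpen_of_sub_one_mem_ideal (J : X.IdealSheafData) (V : X.affineOpens)
    (a : Γ(X, V.1)) (ha : a - 1 ∈ J.ideal V) {x : X} (hxV : x ∈ V.1) (hx : x ∈ J.support) :
    x ∈ X.basicOpen a := by
  rw [Scheme.mem_basicOpen X a x hxV]
  have hz : x ∈ X.zeroLocus (U := V.1) (J.ideal V : Set Γ(X, V.1)) :=
    (Scheme.IdealSheafData.mem_support_iff_of_mem (U := V) hxV).mp hx
  have hns : ¬ IsUnit (X.presheaf.germ V.1 x hxV (a - 1)) := by
    rw [← Scheme.mem_basicOpen X (a - 1) x hxV]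
    exact (X.mem_zeroLocus_iff _ x).mp hz (a - 1) ha
  have hone : IsUnit (X.presheaf.germ V.1 x hxV a + - X.presheaf.germ V.1 x hxV (a - 1)) := by
    rw [← map_neg, ← map_add]
    have : a + -(a - 1) = 1 := by ring
    rw [this, map_one]
    exact isUnit_one
  rcases IsLocalRing.isUnit_or_isUnit_of_isUnit_add hone with h1 | h1
  · exact h1
  · exact absurd (by simpa using h1.neg) hns

open Groth.Agent.H92.LocFreeRank in
/-- an isomorphism of modules induces linear equivalences on sections -/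
noncomputable def sectionsEquivOfIso {M N : X.Modules} (φ : M ≅ N) (W : X.Opens) :
    Γ(M, W) ≃ₗ[Γ(X, W)] Γ(N, W) :=
  LinearEquiv.ofLinearMap (appLin φ.hom W) (appLin φ.inv W)
    (by rw [← appLin_comp, φ.inv_hom_id, appLin_id])
    (by rw [← appLin_comp, φ.hom_inv_id, appLin_id])

section ClosedImm

variable {Z : Scheme.{u}} (i : Z ⟶ X) [IsClosedImmersion i]

/-- Nakayama on an affine open: if `i^*C = 0` for a closed immersion `i` and `C` quasi-coherent
of finite type, then `Γ(C,V)` is killed by some `a ∈ 1 + ker (i.app V)`. -/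
theorem exists_smul_eq_zero_of_isZero_pullback (C : X.Modules) [C.IsQuasicoherent]
    [SheafOfModules.IsFiniteType (R := X.ringCatSheaf) C]
    (h : IsZero ((Scheme.Modules.pullback i).obj C)) {V : X.Opens} (hV : IsAffineOpen V) :
    ∃ a : Γ(X, V), a - 1 ∈ RingHom.ker (i.app V).hom ∧ ∀ s : Γ(C, V), a • s = 0 := by
  have hU : IsAffineOpen (i ⁻¹ᵁ V) := hV.preimage i
  letI : Algebra Γ(X, V) Γ(Z, i ⁻¹ᵁ V) := (i.appLE V (i ⁻¹ᵁ V) le_rfl).hom.toAlgebra
  have happ : i.appLE V (i ⁻¹ᵁ V) le_rfl = i.app V := (Scheme.Hom.app_eq_appLE i).symm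
  haveI := Groth.Agent.H44.finite_sections_of_isFiniteType C hV
  haveI : Subsingleton Γ((Scheme.Modules.pullback i).obj C, i ⁻¹ᵁ V) :=
    subsingleton_sections_of_isZero h _
  haveI : Subsingleton (Γ(Z, i ⁻¹ᵁ V) ⊗[Γ(X, V)] Γ(C, V)) :=
    (Groth.Agent.H44.pullbackSectionsEquiv i C hU hV le_rfl).symm.toEquiv.subsingleton
  have hsurj : Function.Surjective (algebraMap Γ(X, V) Γ(Z, i ⁻¹ᵁ V)) := by
    change Function.Surjective (i.appLE V (i ⁻¹ᵁ V) le_rfl).hom
    rw [happ]
    exact i.app_surjective V hV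
  obtain ⟨a, ha, ha'⟩ := exists_sub_one_mem_ker_smul_eq_zero (A := Γ(X, V))
    (A₀ := Γ(Z, i ⁻¹ᵁ V)) (N := Γ(C, V)) hsurj
  refine ⟨a, ?_, ha'⟩
  change a - 1 ∈ RingHom.ker (i.appLE V (i ⁻¹ᵁ V) le_rfl).hom at ha
  rw [happ] at ha
  exact ha

open Groth.Agent.H92.LocFreeRank in
/-- if `i^*u = 0` for a closed immersion `i`, then over an affine open `V` the kernel of
`Γ(G,V) → Γ(coker u,V)` lies in `ker (i.app V) • Γ(G,V)`. -/
theorem ker_app_cokernel_le_of_pullback_map_eq_zero {F G : X.Modules} [F.IsQuasicoherent]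
    [G.IsQuasicoherent] [SheafOfModules.IsFiniteType (R := X.ringCatSheaf) G] (u : F ⟶ G)
    (h : (Scheme.Modules.pullback i).map u = 0) {V : X.Opens} (hV : IsAffineOpen V) :
    LinearMap.ker (appLin (cokernel.π u) V) ≤
      RingHom.ker (i.app V).hom • (⊤ : Submodule Γ(X, V) Γ(G, V)) := by
  have hU : IsAffineOpen (i ⁻¹ᵁ V) := hV.preimage i
  letI : Algebra Γ(X, V) Γ(Z, i ⁻¹ᵁ V) := (i.appLE V (i ⁻¹ᵁ V) le_rfl).hom.toAlgebra
  have happ : i.appLE V (i ⁻¹ᵁ V) le_rfl = i.app V := (Scheme.Hom.app_eq_appLE i).symm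
  haveI := Groth.Agent.H44.finite_sections_of_isFiniteType G hV
  have hq : (cokernel u).IsQuasicoherent :=
    Groth.Agent.H12.QCohAbelian.isQuasicoherent_cokernel u
  have hsurj : Function.Surjective (algebraMap Γ(X, V) Γ(Z, i ⁻¹ᵁ V)) := by
    change Function.Surjective (i.appLE V (i ⁻¹ᵁ V) le_rfl).hom
    rw [happ]
    exact i.app_surjective V hV
  have hp : Function.Surjective (appLin (cokernel.π u) V) :=
    app_surjective_of_epi (cokernel.π u) hV
  haveI : PreservesColimitsOfSize.{0, 0} (Scheme.Modules.pullback i) :=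
    (Scheme.Modules.pullbackPushforwardAdjunction i).leftAdjoint_preservesColimits
  haveI : (Scheme.Modules.pullback i).Additive :=
    (Scheme.Modules.pullbackPushforwardAdjunction i).left_adjoint_additive
  let φ : (Scheme.Modules.pullback i).obj (cokernel u) ≅ (Scheme.Modules.pullback i).obj G :=
    PreservesCokernel.iso (Scheme.Modules.pullback i) u ≪≫ cokernelIsoOfEq h ≪≫
      cokernelZeroIsoTarget
  let e : Γ(Z, i ⁻¹ᵁ V) ⊗[Γ(X, V)] Γ(G, V) ≃ₗ[Γ(Z, i ⁻¹ᵁ V)]
      Γ(Z, i ⁻¹ᵁ V) ⊗[Γ(X, V)] Γ(cokernel u, V) :=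
    (Groth.Agent.H44.pullbackSectionsEquiv i G hU hV le_rfl).symm ≪≫ₗ
      sectionsEquivOfIso φ.symm (i ⁻¹ᵁ V) ≪≫ₗ
      Groth.Agent.H44.pullbackSectionsEquiv i (cokernel u) hU hV le_rfl
  have key := ker_le_ker_smul_top_of_tensor_equiv (A := Γ(X, V)) (A₀ := Γ(Z, i ⁻¹ᵁ V)) hsurj
    (appLin (cokernel.π u) V) hp e
  intro m hm
  have := key hm
  change m ∈ RingHom.ker (i.appLE V (i ⁻¹ᵁ V) le_rfl).hom • (⊤ : Submodule Γ(X, V) Γ(G, V))
    at this
  rw [happ] at this
  exact this

end ClosedImm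


section Main

/-- a quasi-coherent module which is, on every affine open `V`, killed by an element of
`1 + J(V)` has vanishing stalks on an open neighbourhood of `Supp J` -/
theorem exists_opens_subsingleton_stalks (J : X.IdealSheafData) (C : X.Modules)
    [C.IsQuasicoherent]
    (h : ∀ V : X.affineOpens, ∃ a : Γ(X, V.1), a - 1 ∈ J.ideal V ∧ ∀ s : Γ(C, V.1), a • s = 0) :
    ∃ U : X.Opens, (J.support : Set X) ⊆ U ∧ ∀ x ∈ U, Subsingleton (C.presheaf.stalk x) := by
  choose a ha ha' using h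
  refine ⟨⨆ V : X.affineOpens, X.basicOpen (a V), ?_, ?_⟩
  · intro x hx
    obtain ⟨V, hV, hxV, -⟩ := Opens.isBasis_iff_nbhd.mp X.isBasis_affineOpens
      (show x ∈ (⊤ : X.Opens) from trivial)
    refine Opens.mem_iSup.mpr ⟨⟨V, hV⟩, ?_⟩
    exact mem_basicOpen_of_sub_one_mem_ideal J ⟨V, hV⟩ (a ⟨V, hV⟩) (ha ⟨V, hV⟩) hxV hx
  · intro x hx
    obtain ⟨V, hxV⟩ := Opens.mem_iSup.mp hx
    exact subsingleton_stalk_of_smul_eq_zero C V.2 (a V) (ha' V) hxV

/-- Nakayama: a quasi-coherent module of finite type whose pullback to `V(J)` vanishes has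
vanishing stalks on an open neighbourhood of `Supp J` -/
theorem exists_opens_subsingleton_stalks_of_isZero_pullback (J : X.IdealSheafData)
    (C : X.Modules) [C.IsQuasicoherent] [SheafOfModules.IsFiniteType (R := X.ringCatSheaf) C]
    (h : IsZero ((Scheme.Modules.pullback J.subschemeι).obj C)) :
    ∃ U : X.Opens, (J.support : Set X) ⊆ U ∧ ∀ x ∈ U, Subsingleton (C.presheaf.stalk x) := by
  refine exists_opens_subsingleton_stalks J C (fun V => ?_)
  obtain ⟨a, ha, ha'⟩ := exists_smul_eq_zero_of_isZero_pullback J.subschemeι C h V.2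
  refine ⟨a, ?_, ha'⟩
  rw [Scheme.IdealSheafData.ker_subschemeι_app] at ha
  exact ha

open Groth.Agent.H92.LocFreeRank in
/-- Krull: on a locally Noetherian scheme, if the pullbacks of `u : F ⟶ G` to all thickenings
`V(J^(n+1))` vanish, then the image of `u` has vanishing stalks on an open neighbourhood of
`Supp J` -/
theorem exists_opens_subsingleton_stalks_image [IsLocallyNoetherian X] (J : X.IdealSheafData)
    {F G : X.Modules} [F.IsQuasicoherent] [G.IsQuasicoherent]
    [SheafOfModules.IsFiniteType (R := X.ringCatSheaf) G] (u : F ⟶ G)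
    (h : ∀ n : ℕ, (Scheme.Modules.pullback (J ^ (n + 1)).subschemeι).map u = 0) :
    ∃ U : X.Opens, (J.support : Set X) ⊆ U ∧
      ∀ x ∈ U, Subsingleton ((kernel (cokernel.π u)).presheaf.stalk x) := by
  have hq : (cokernel u).IsQuasicoherent :=
    Groth.Agent.H12.QCohAbelian.isQuasicoherent_cokernel u
  have hk : (kernel (cokernel.π u)).IsQuasicoherent :=
    Groth.Agent.H12.QCohAbelian.isQuasicoherent_kernel (cokernel.π u)
  refine exists_opens_subsingleton_stalks J (kernel (cokernel.π u)) (fun V => ?_)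
  haveI : IsNoetherianRing Γ(X, V.1) := IsLocallyNoetherian.component_noetherian V
  haveI := Groth.Agent.H44.finite_sections_of_isFiniteType G V.2
  obtain ⟨a, ha, ha'⟩ := exists_sub_one_mem_and_smul_eq_zero_of_forall_mem_pow_smul
    (A := Γ(X, V.1)) (N := Γ(G, V.1)) (J.ideal V)
  refine ⟨a, ha, fun s => ?_⟩
  have hinj : Function.Injective (appLin (kernel.ι (cokernel.π u)) V.1) :=
    (mono_iff_app_injective (kernel.ι (cokernel.π u))).mp inferInstance V.1
  apply hinj
  rw [map_smul, map_zero]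
  refine ha' _ (fun k => ?_)
  have hmem : appLin (kernel.ι (cokernel.π u)) V.1 s ∈
      LinearMap.ker (appLin (cokernel.π u) V.1) := by
    rw [LinearMap.mem_ker, ← LinearMap.comp_apply, ← appLin_comp, kernel.condition, appLin_zero]
    rfl
  rcases k with _ | n
  · rw [pow_zero, Ideal.one_eq_top, Submodule.top_smul]
    trivial
  · have h1 := ker_app_cokernel_le_of_pullback_map_eq_zero (J ^ (n + 1)).subschemeι u (h n) V.2
      hmem
    rw [Scheme.IdealSheafData.ker_subschemeι_app, Scheme.IdealSheafData.ideal_pow] at h1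
    exact h1

end Main

/-- left exactness of sections: a section killed by `φ` comes from the kernel -/
theorem exists_app_kernel_ι_eq {M N : X.Modules} (φ : M ⟶ N) (U : X.Opens) (y : Γ(M, U))
    (hy : φ.app U y = 0) : ∃ x : Γ(kernel φ, U), (kernel.ι φ).app U x = y := by
  let S : ShortComplex X.Modules := ShortComplex.mk (kernel.ι φ) φ (kernel.condition φ)
  have hS : S.Exact := ShortComplex.exact_of_f_is_kernel S (kernelIsKernel φ)
  have h : (S.map (Groth.Agent.H12.QCohExt.secFunctor U)).Exact :=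
    hS.map_of_mono_of_preservesKernel (Groth.Agent.H12.QCohExt.secFunctor U)
      (inferInstanceAs (Mono (kernel.ι φ))) inferInstance
  rw [ShortComplex.ab_exact_iff] at h
  exact h y hy

section Restrict

variable (U : X.Opens)

theorem epi_restrict_of_isZero_restrict_cokernel {F G : X.Modules} (u : F ⟶ G)
    (hz : IsZero ((Scheme.Modules.restrictFunctor U.ι).obj (cokernel u))) :
    Epi ((Scheme.Modules.restrictFunctor U.ι).map u) := by
  haveI : (Scheme.Modules.restrictFunctor U.ι).Additive :=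
    (Scheme.Modules.restrictAdjunction U.ι).left_adjoint_additive
  refine Preadditive.epi_of_isZero_cokernel _ ?_
  exact IsZero.of_iso hz (PreservesCokernel.iso (Scheme.Modules.restrictFunctor U.ι) u).symm

theorem restrict_map_eq_zero_of_isZero_restrict_image {F G : X.Modules} (u : F ⟶ G)
    (hz : IsZero ((Scheme.Modules.restrictFunctor U.ι).obj (kernel (cokernel.π u)))) :
    (Scheme.Modules.restrictFunctor U.ι).map u = 0 := by
  rw [← kernel.lift_ι (cokernel.π u) u (cokernel.condition u), Functor.map_comp,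
    hz.eq_of_tgt ((Scheme.Modules.restrictFunctor U.ι).map _) 0, zero_comp]

open Groth.Agent.H92.LocFreeRank in
theorem mono_restrict_of_restrict_map_kernel_ι_eq_zero {F G : X.Modules} (u : F ⟶ G)
    (hz : (Scheme.Modules.restrictFunctor U.ι).map (kernel.ι u) = 0) :
    Mono ((Scheme.Modules.restrictFunctor U.ι).map u) := by
  rw [mono_iff_app_injective]
  intro W
  change Function.Injective (u.app (U.ι ''ᵁ W))
  have hadd : ∀ s t : Γ(F, U.ι ''ᵁ W), u.app (U.ι ''ᵁ W) (s - t) =
      u.app (U.ι ''ᵁ W) s - u.app (U.ι ''ᵁ W) t := fun s t => map_sub _ s t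
  intro s t hst
  have h0 : u.app (U.ι ''ᵁ W) (s - t) = 0 := by rw [hadd, hst, sub_self]
  obtain ⟨x, hx⟩ := exists_app_kernel_ι_eq u (U.ι ''ᵁ W) (s - t) h0
  have h1 : (kernel.ι u).app (U.ι ''ᵁ W) x = 0 := by
    have := congrArg (fun k => (Scheme.Modules.Hom.app k W) x) hz
    exact this
  rw [h1] at hx
  exact sub_eq_zero.mp hx.symm

end Restrict

section Results

variable (J : X.IdealSheafData) {F G : X.Modules} [F.IsQuasicoherent] [G.IsQuasicoherent]

/-- if the cokernel projection of `u` pulls back to zero on `V(J)`, then `u` is an epimorphism on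
an open neighbourhood of `Supp J` -/
theorem exists_opens_epi_restrict [SheafOfModules.IsFiniteType (R := X.ringCatSheaf) G]
    (u : F ⟶ G)
    (h : (Scheme.Modules.pullback (J ^ (0 + 1)).subschemeι).map (cokernel.π u) = 0) :
    ∃ U : X.Opens, (J.support : Set X) ⊆ U ∧
      Epi ((Scheme.Modules.restrictFunctor U.ι).map u) := by
  have hq : (cokernel u).IsQuasicoherent :=
    Groth.Agent.H12.QCohAbelian.isQuasicoherent_cokernel u
  have hft := isFiniteType_of_epi (cokernel.π u)
  have hz : IsZero ((Scheme.Modules.pullback (J ^ (0 + 1)).subschemeι).obj (cokernel u)) := by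
    haveI : PreservesColimitsOfSize.{0, 0}
        (Scheme.Modules.pullback (J ^ (0 + 1)).subschemeι) :=
      (Scheme.Modules.pullbackPushforwardAdjunction _).leftAdjoint_preservesColimits
    haveI : Epi ((Scheme.Modules.pullback (J ^ (0 + 1)).subschemeι).map (cokernel.π u)) :=
      inferInstance
    exact IsZero.of_epi_eq_zero _ h
  obtain ⟨U, hU, hst⟩ := exists_opens_subsingleton_stalks_of_isZero_pullback (J ^ (0 + 1))
    (cokernel u) hz
  exact ⟨U, hU, epi_restrict_of_isZero_restrict_cokernel U u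
    (isZero_restrict_of_subsingleton_stalks _ U hst)⟩

/-- if `u` pulls back to zero on all thickenings `V(J^(n+1))`, then `u` vanishes on an open
neighbourhood of `Supp J` -/
theorem exists_opens_restrict_map_eq_zero [IsLocallyNoetherian X]
    [SheafOfModules.IsFiniteType (R := X.ringCatSheaf) G] (u : F ⟶ G)
    (h : ∀ n : ℕ, (Scheme.Modules.pullback (J ^ (n + 1)).subschemeι).map u = 0) :
    ∃ U : X.Opens, (J.support : Set X) ⊆ U ∧
      (Scheme.Modules.restrictFunctor U.ι).map u = 0 := by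
  obtain ⟨U, hU, hst⟩ := exists_opens_subsingleton_stalks_image J u h
  exact ⟨U, hU, restrict_map_eq_zero_of_isZero_restrict_image U u
    (isZero_restrict_of_subsingleton_stalks _ U hst)⟩

/-- if the kernel inclusion of `u` pulls back to zero on all thickenings `V(J^(n+1))`, then `u` is
a monomorphism on an open neighbourhood of `Supp J` -/
theorem exists_opens_mono_restrict [IsLocallyNoetherian X]
    [SheafOfModules.IsFiniteType (R := X.ringCatSheaf) F] (u : F ⟶ G)
    (h : ∀ n : ℕ, (Scheme.Modules.pullback (J ^ (n + 1)).subschemeι).map (kernel.ι u) = 0) :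
    ∃ U : X.Opens, (J.support : Set X) ⊆ U ∧
      Mono ((Scheme.Modules.restrictFunctor U.ι).map u) := by
  have hk : (kernel u).IsQuasicoherent :=
    Groth.Agent.H12.QCohAbelian.isQuasicoherent_kernel u
  obtain ⟨U, hU, hz⟩ := exists_opens_restrict_map_eq_zero J (kernel.ι u) h
  exact ⟨U, hU, mono_restrict_of_restrict_map_kernel_ι_eq_zero U u hz⟩

end Results

end Groth.Agent.H71.QCoh
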