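/-
H71 helper library: sections of `i_* G` are killed by the kernel of `i`; hence if the unit
`F ⟶ i_* i^* F` is injective on sections (e.g. an isomorphism), the kernel of `i` kills `F`.
(Mathlib-only imports, so that it can be combined with any other library.)
-/
import Mathlib.AlgebraicGeometry.Modules.Sheaf
import Mathlib.AlgebraicGeometry.Morphisms.ClosedImmersion

set_option autoImplicit false

open CategoryTheory Limits AlgebraicGeometry TopologicalSpace Opposite

namespace Groth.Agent.H71.QCoh

universe u

section UnitKilled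

variable {Z X : Scheme.{u}} (i : Z ⟶ X)

/-- sections of `i_* G` are killed by the kernel of `i` -/
theorem pushforward_smul_eq_zero_of_mem_ker (G : Z.Modules) (U : X.Opens) (a : Γ(X, U))
    (ha : a ∈ RingHom.ker (i.app U).hom) (s : Γ((Scheme.Modules.pushforward i).obj G, U)) :
    a • s = 0 := by
  change (i.app U).hom a • (show Γ(G, i ⁻¹ᵁ U) from s) = 0
  rw [RingHom.mem_ker.mp ha, zero_smul]

variable (F : X.Modules)

/-- if the unit `F ⟶ i_*i^*F` is injective on sections over `U`, the kernel of `i` kills the
sections of `F` over `U` -/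
theorem smul_eq_zero_of_unit_app_injective (U : X.Opens)
    (hinj : Function.Injective
      (((Scheme.Modules.pullbackPushforwardAdjunction i).unit.app F).app U))
    (a : Γ(X, U)) (ha : a ∈ RingHom.ker (i.app U).hom) (s : Γ(F, U)) : a • s = 0 := by
  apply hinj
  rw [map_zero]
  have h1 : ((Scheme.Modules.pullbackPushforwardAdjunction i).unit.app F).app U (a • s) =
      a • ((Scheme.Modules.pullbackPushforwardAdjunction i).unit.app F).app U s :=
    Scheme.Modules.Hom.app_smul _ _ _
  rw [h1]
  exact pushforward_smul_eq_zero_of_mem_ker i _ U a ha _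

/-- an isomorphism of modules is bijective on sections -/
theorem app_bijective_of_isIso {M N : X.Modules} (φ : M ⟶ N) [IsIso φ] (U : X.Opens) :
    Function.Bijective (φ.app U) := by
  have h1 : φ.app U ≫ (inv φ).app U = 𝟙 _ := by
    rw [← Scheme.Modules.Hom.comp_app, IsIso.hom_inv_id]
    rfl
  have h2 : (inv φ).app U ≫ φ.app U = 𝟙 _ := by
    rw [← Scheme.Modules.Hom.comp_app, IsIso.inv_hom_id]
    rfl
  refine ⟨fun a b hab => ?_, fun b => ⟨(inv φ).app U b, ?_⟩⟩
  · have := congrArg ((inv φ).app U) hab
    rw [← ConcreteCategory.comp_apply, ← ConcreteCategory.comp_apply, h1] at this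
    exact this
  · rw [← ConcreteCategory.comp_apply, h2]
    rfl

/-- if the unit `F ⟶ i_*i^*F` is an isomorphism, the kernel of `i` kills `F` -/
theorem smul_eq_zero_of_isIso_unit_app
    (h : IsIso ((Scheme.Modules.pullbackPushforwardAdjunction i).unit.app F)) (U : X.Opens)
    (a : Γ(X, U)) (ha : a ∈ RingHom.ker (i.app U).hom) (s : Γ(F, U)) : a • s = 0 :=
  smul_eq_zero_of_unit_app_injective i F U (app_bijective_of_isIso _ U).1 a ha s

end UnitKilled

end Groth.Agent.H71.QCoh
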