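/-
H71 helper library: for a closed immersion `i : Z ⟶ X` and a quasi-coherent `O_X`-module `F`,
the unit `F ⟶ i_* i^* F` is an isomorphism iff the kernel of `i` kills `F` (no finiteness
hypothesis; uses helper44's unit tracking `H44.PullUnit`).  -/
import Groth.Agent.H44.UnitClosed
import Groth.Agent.H71.QCoh.UnitKilled

set_option autoImplicit false

open CategoryTheory Limits AlgebraicGeometry TopologicalSpace Opposite TensorProduct

namespace Groth.Agent.H71.QCoh

universe u

section UnitClosed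

variable {Z X : Scheme.{u}} (i : Z ⟶ X)

variable [IsClosedImmersion i] (F : X.Modules)

variable [F.IsQuasicoherent]

/-- the unit `F ⟶ i_*i^*F` is bijective over an affine open `U` as soon as the kernel of `i`
kills the sections of `F` over `U` -/
theorem unit_app_bijective_of_killed {U : X.Opens} (hU : IsAffineOpen U)
    (hk : ∀ a : Γ(X, U), a ∈ RingHom.ker (i.app U).hom → ∀ m : Γ(F, U), a • m = 0) :
    Function.Bijective
      (((Scheme.Modules.pullbackPushforwardAdjunction i).unit.app F).app U) := by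
  have hW : IsAffineOpen (i ⁻¹ᵁ U) := hU.preimage i
  letI := (i.appLE U (i ⁻¹ᵁ U) le_rfl).hom.toAlgebra
  have halg : (algebraMap Γ(X, U) Γ(Z, i ⁻¹ᵁ U)) = (i.app U).hom := by
    change (i.appLE U (i ⁻¹ᵁ U) le_rfl).hom = _
    rw [← Scheme.Hom.app_eq_appLE]
  have hE : ∀ m : Γ(F, U), Groth.Agent.H44.pullbackSectionsEquiv i F hW hU le_rfl
      (OmegaSh.pullSect i F U m) = (1 : Γ(Z, i ⁻¹ᵁ U)) ⊗ₜ[Γ(X, U)] m := by
    intro m
    have := Groth.Agent.H44.pullbackSectionsEquiv_pullSectLE i F hW hU le_rfl m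
    rwa [Groth.Agent.H44.pullSectLE_self] at this
  have hb := Groth.Agent.H44.bijective_one_tmul (A := Γ(X, U)) (B := Γ(Z, i ⁻¹ᵁ U)) Γ(F, U)
    (by rw [halg]; exact i.app_surjective U hU)
    (by
      intro a ha m
      refine hk a ?_ m
      rw [RingHom.mem_ker, ← halg]
      exact ha)
  have hfun : ∀ m : Γ(F, U),
      ((Scheme.Modules.pullbackPushforwardAdjunction i).unit.app F).app U m =
        OmegaSh.pullSect i F U m := fun m => rfl
  refine ⟨fun m m' h => hb.1 ?_, fun t => ?_⟩
  · change (1 : Γ(Z, i ⁻¹ᵁ U)) ⊗ₜ[Γ(X, U)] m = 1 ⊗ₜ[Γ(X, U)] m'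
    rw [hfun, hfun] at h
    rw [← hE m, ← hE m', h]
  · let t' : Γ((Scheme.Modules.pullback i).obj F, i ⁻¹ᵁ U) := t
    obtain ⟨m, hm⟩ := hb.2 (Groth.Agent.H44.pullbackSectionsEquiv i F hW hU le_rfl t')
    refine ⟨m, ?_⟩
    rw [hfun]
    change OmegaSh.pullSect i F U m = t'
    apply (Groth.Agent.H44.pullbackSectionsEquiv i F hW hU le_rfl).injective
    rw [hE m]
    exact hm

/-- for a closed immersion `i` and `F` quasi-coherent, the unit `F ⟶ i_*i^*F` is an isomorphism
iff the kernel of `i` kills `F` -/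
theorem isIso_unit_app_iff_killed :
    IsIso ((Scheme.Modules.pullbackPushforwardAdjunction i).unit.app F) ↔
      ∀ (U : X.affineOpens) (a : Γ(X, U.1)), a ∈ RingHom.ker (i.app U.1).hom →
        ∀ s : Γ(F, U.1), a • s = 0 := by
  constructor
  · intro h U a ha s
    exact smul_eq_zero_of_isIso_unit_app i F h U.1 a ha s
  · intro hk
    haveI : ((Scheme.Modules.pushforward i).obj ((Scheme.Modules.pullback i).obj F)).IsQuasicoherent :=
      Groth.Agent.H8.isQuasicoherent_pushforward_of_isAffineHom i _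
    refine Groth.Agent.H12.QCohIso.isIso_of_bijective_on_cover
      (M := F) (N := (Scheme.Modules.pushforward i).obj ((Scheme.Modules.pullback i).obj F))
      ((Scheme.Modules.pullbackPushforwardAdjunction i).unit.app F)
      (fun V : X.affineOpens => V.1) (fun x => ?_) (fun V => V.2)
      (fun V => unit_app_bijective_of_killed i F V.2 (hk V))
    obtain ⟨V, hV, hxV, -⟩ := Opens.isBasis_iff_nbhd.mp X.isBasis_affineOpens
      (show x ∈ (⊤ : X.Opens) from trivial)
    exact ⟨⟨V, hV⟩, hxV⟩

end UnitClosed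

end Groth.Agent.H71.QCoh
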