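import Groth.Agent.H71.QCoh.AnnIdeal
import Groth.Agent.H5.Stalk.Exact
import Groth.Agent.H4.ProperOver2
import Groth.Agent.S0791

/-!
# Supports of quasi-coherent modules of finite type and properness over a base

* `isClosed_support` : the support of a quasi-coherent module of finite type is closed.
* `support_eq_union_of_shortExact` : `Supp X₂ = Supp X₁ ∪ Supp X₃` for a short exact sequence.
* `isProperOver_mono`, `isProperOver_union`.
* `isProperOver_support_shortExact`.
-/

set_option autoImplicit false

open CategoryTheory Limits AlgebraicGeometry TopologicalSpace Opposite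

namespace Groth.Agent.H71.QCoh

universe u

variable {X S : Scheme.{u}}

theorem isClosed_support (F : X.Modules) [F.IsQuasicoherent]
    [SheafOfModules.IsFiniteType (R := X.ringCatSheaf) F] : IsClosed (CohB1.support F) := by
  rw [← support_annIdeal F]
  exact (annIdeal F).support.isClosed

open Groth.Agent.H5.Stalk in
theorem support_eq_union_of_shortExact (E : ShortComplex X.Modules) (hE : E.ShortExact) :
    CohB1.support E.X₂ = CohB1.support E.X₁ ∪ CohB1.support E.X₃ := by
  ext x
  have h := stalkFunctor_map_shortExact x E hE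
  have hinj : Function.Injective ((stalkFunctor x).map E.f).hom :=
    (ModuleCat.mono_iff_injective _).mp h.mono_f
  have hsurj : Function.Surjective ((stalkFunctor x).map E.g).hom :=
    (ModuleCat.epi_iff_surjective _).mp h.epi_g
  have hex := (ShortComplex.moduleCat_exact_iff _).mp h.exact
  change ¬ Subsingleton (E.X₂.presheaf.stalk x) ↔
    (¬ Subsingleton (E.X₁.presheaf.stalk x) ∨ ¬ Subsingleton (E.X₃.presheaf.stalk x))
  rw [← not_and_or, not_iff_not]
  constructor
  · intro h2
    haveI : Subsingleton ((stalkFunctor x).obj E.X₂) := h2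
    exact ⟨hinj.subsingleton, hsurj.subsingleton⟩
  · rintro ⟨h1, h3⟩
    haveI : Subsingleton ((E.map (stalkFunctor x)).X₁) := h1
    haveI : Subsingleton ((E.map (stalkFunctor x)).X₃) := h3
    have h0 : ∀ m : E.X₂.presheaf.stalk x, m = 0 := by
      intro m
      obtain ⟨m', hm'⟩ := hex m (Subsingleton.elim _ _)
      rw [← hm', Subsingleton.elim m' 0]
      exact map_zero _
    exact ⟨fun a b => (h0 a).trans (h0 b).symm⟩

open Scheme.IdealSheafData in
theorem isProperOver_mono (f : X ⟶ S) {Z Z' : Set X} (hZ : ClSub.IsProperOver f Z)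
    (hZ' : IsClosed Z') (hle : Z' ⊆ Z) : ClSub.IsProperOver f Z' := by
  obtain ⟨hcl, hp⟩ := hZ
  refine ⟨hZ', ?_⟩
  have hI : vanishingIdeal ⟨Z, hcl⟩ ≤ vanishingIdeal ⟨Z', hZ'⟩ := vanishingIdeal_antimono hle
  rw [← inclusion_subschemeι hI, Category.assoc]
  infer_instance

theorem isProperOver_union (f : X ⟶ S) [LocallyOfFiniteType f] {Z₁ Z₂ : Set X}
    (h₁ : ClSub.IsProperOver f Z₁) (h₂ : ClSub.IsProperOver f Z₂) :
    ClSub.IsProperOver f (Z₁ ∪ Z₂) := by
  have := Groth.Agent.S0791.result f Bool (fun b => if b then Z₁ else Z₂)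
    (fun b => by cases b <;> simpa)
  have hU : (⋃ b : Bool, if b then Z₁ else Z₂) = Z₁ ∪ Z₂ := by
    ext x
    simp only [Set.mem_iUnion, Bool.exists_bool, Set.mem_union]
    tauto
  rwa [hU] at this

theorem isProperOver_support_shortExact (f : X ⟶ S) [LocallyOfFiniteType f]
    (E : ShortComplex X.Modules) (hE : E.ShortExact)
    [E.X₁.IsQuasicoherent] [E.X₂.IsQuasicoherent] [E.X₃.IsQuasicoherent]
    [SheafOfModules.IsFiniteType (R := X.ringCatSheaf) E.X₁]
    [SheafOfModules.IsFiniteType (R := X.ringCatSheaf) E.X₂]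
    [SheafOfModules.IsFiniteType (R := X.ringCatSheaf) E.X₃] :
    ClSub.IsProperOver f (CohB1.support E.X₂) ↔
      ClSub.IsProperOver f (CohB1.support E.X₁) ∧ ClSub.IsProperOver f (CohB1.support E.X₃) := by
  have hsupp := support_eq_union_of_shortExact E hE
  constructor
  · intro h
    exact ⟨isProperOver_mono f h (isClosed_support E.X₁) (hsupp ▸ Set.subset_union_left),
      isProperOver_mono f h (isClosed_support E.X₃) (hsupp ▸ Set.subset_union_right)⟩
  · rintro ⟨h1, h3⟩
    rw [hsupp]
    exact isProperOver_union f h1 h3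

end Groth.Agent.H71.QCoh

namespace Groth.Agent.H71.QCoh

universe u

variable {X S : Scheme.{u}}

/-- a module whose sections over all opens inside an open `U` vanish has zero stalks on `U` -/
theorem subsingleton_stalk_of_subsingleton_sections (F : X.Modules) (U : X.Opens)
    (h : ∀ W : X.Opens, W ≤ U → Subsingleton Γ(F, W)) {x : X} (hx : x ∈ U) :
    Subsingleton (F.presheaf.stalk x) := by
  have h0 : ∀ t : F.presheaf.stalk x, t = 0 := by
    intro t
    obtain ⟨W, hxW, s, rfl⟩ := TopCat.Presheaf.exists_germ_eq F.presheaf t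
    haveI := h (W ⊓ U) inf_le_right
    rw [← germ_mres x F (inf_le_left : W ⊓ U ≤ W) ⟨hxW, hx⟩ s,
      Subsingleton.elim (Groth.Agent.H18.mres F (inf_le_left : W ⊓ U ≤ W) s) 0, map_zero]
  exact ⟨fun a b => (h0 a).trans (h0 b).symm⟩

/-- the support of a pushforward along a closed immersion lies in its range -/
theorem support_subset_range_of_iso_pushforward {Z : Scheme.{u}} (i : Z ⟶ X)
    [IsClosedImmersion i] (G : Z.Modules) (F : X.Modules)
    (e : (Scheme.Modules.pushforward i).obj G ≅ F) : CohB1.support F ⊆ Set.range i := by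
  intro x hx
  by_contra hxr
  apply hx
  let U : X.Opens := ⟨(Set.range i)ᶜ, i.isClosedEmbedding.isClosed_range.isOpen_compl⟩
  refine subsingleton_stalk_of_subsingleton_sections F U (fun W hW => ?_) (show x ∈ U from hxr)
  have hbot : i ⁻¹ᵁ W = ⊥ := by
    ext z
    simp only [Opens.coe_bot, Set.mem_empty_iff_false, iff_false]
    intro hz
    exact hW hz ⟨z, rfl⟩
  haveI : Subsingleton Γ((Scheme.Modules.pushforward i).obj G, W) := by
    change Subsingleton Γ(G, i ⁻¹ᵁ W)
    rw [hbot]
    exact subsingleton_sections_of_stalks G ⊥ (fun z hz => hz.elim)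
  exact (sectionsEquivOfIso e.symm W).toEquiv.subsingleton

theorem isProperOver_support_iff_pushforward (f : X ⟶ S) [LocallyOfFiniteType f]
    (F : X.Modules) [F.IsQuasicoherent] [SheafOfModules.IsFiniteType (R := X.ringCatSheaf) F] :
    ClSub.IsProperOver f (CohB1.support F) ↔
      ∃ (Z : Scheme.{u}) (i : Z ⟶ X), IsClosedImmersion i ∧ IsProper (i ≫ f) ∧
        ∃ G : Z.Modules, G.IsQuasicoherent ∧
          SheafOfModules.IsFiniteType (R := Z.ringCatSheaf) G ∧
          Nonempty ((Scheme.Modules.pushforward i).obj G ≅ F) := by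
  constructor
  · intro h
    have hr : Set.range (annIdeal F).subschemeι = CohB1.support F := by
      rw [Scheme.IdealSheafData.range_subschemeι, support_annIdeal]
    haveI := isIso_unit_app_annIdeal F
    refine ⟨(annIdeal F).subscheme, (annIdeal F).subschemeι, inferInstance,
      Groth.Agent.H4.isProper_of_isProperOver f _ (hr ▸ h),
      (Scheme.Modules.pullback (annIdeal F).subschemeι).obj F, inferInstance, inferInstance,
      ⟨(asIso ((Scheme.Modules.pullbackPushforwardAdjunction
        (annIdeal F).subschemeι).unit.app F)).symm⟩⟩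
  · rintro ⟨Z, i, hi, hp, G, -, -, ⟨e⟩⟩
    exact isProperOver_mono f (Groth.Agent.H4.isProperOver_of_closedImmersion f i)
      (isClosed_support F) (support_subset_range_of_iso_pushforward i G F e)

end Groth.Agent.H71.QCoh
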