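import Groth.Agent.H71.QCoh.PushFT
import Groth.Agent.H44.Retract
import Groth.Agent.H18.QCohCriterion

set_option autoImplicit false

open CategoryTheory Limits AlgebraicGeometry TopologicalSpace Opposite TensorProduct

namespace Groth.Agent.H71.QCoh

universe u

/-- sections over an open on which all stalks vanish are zero -/
theorem subsingleton_sections_of_stalks {X : Scheme.{u}} (F : X.Modules) (W : X.Opens)
    (h : ∀ x ∈ W, Subsingleton (F.presheaf.stalk x)) : Subsingleton Γ(F, W) := by
  refine ⟨fun s t => ?_⟩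
  refine TopCat.Presheaf.section_ext ⟨F.presheaf, F.isSheaf⟩ W s t (fun x hx => ?_)
  haveI := h x hx
  exact Subsingleton.elim _ _

/-- a module all of whose sections vanish is a zero object -/
theorem isZero_of_subsingleton_sections {X : Scheme.{u}} (F : X.Modules)
    (h : ∀ W : X.Opens, Subsingleton Γ(F, W)) : IsZero F := by
  rw [IsZero.iff_id_eq_zero]
  ext W x
  haveI := h W
  exact Subsingleton.elim _ _

/-- zero objects are quasi-coherent -/
theorem isQuasicoherent_of_isZero {X : Scheme.{u}} (F : X.Modules) (h : IsZero F) :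
    F.IsQuasicoherent :=
  Groth.Agent.H44.isQuasicoherent_of_retract (P := FlatMod.freeMod X 0) 0 0 (h.eq_of_src _ _)

section PushOpen

variable {X : Scheme.{u}} (U : X.Opens) (T : Set X) (hT : IsClosed T) (hTU : T ⊆ (U : Set X))
  (F : (↑U : Scheme.{u}).Modules)
  (hs : ∀ x : ↥U, ¬ Subsingleton (F.presheaf.stalk x) → (x : X) ∈ T)

include hs in
/-- sections of the pushforward over opens missing `T` vanish -/
theorem subsingleton_sections_pushforward (V : X.Opens) (hV : (V : Set X) ⊆ Tᶜ) :
    Subsingleton Γ(F, U.ι ⁻¹ᵁ V) := by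
  apply subsingleton_sections_of_stalks
  intro x hx
  by_contra hne
  exact hV hx (hs x hne)

lemma isIso_ι_app_of_le (V : X.Opens) (hVU : V ≤ U) : IsIso (U.ι.app V) := by
  rw [Scheme.Opens.ι_app]
  have e : U.ι ''ᵁ U.ι ⁻¹ᵁ V = V := by
    rw [Scheme.Hom.image_preimage_eq_opensRange_inf, Scheme.Opens.opensRange_ι]
    exact inf_eq_right.mpr hVU
  have : homOfLE (x := U.ι ''ᵁ U.ι ⁻¹ᵁ V) (y := V) (Set.image_preimage_subset _ _) =
      eqToHom e := Subsingleton.elim _ _
  rw [this]
  have h1 : IsIso (eqToHom e).op := inferInstance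
  exact Functor.map_isIso X.presheaf (eqToHom e).op

include hT hTU hs in
/-- the pushforward of a finite type quasi-coherent module supported in a closed subset `T ⊆ U` of
`X` is of finite type -/
theorem isFiniteType_pushforward_open [F.IsQuasicoherent]
    [SheafOfModules.IsFiniteType (R := (↑U : Scheme.{u}).ringCatSheaf) F]
    [((Scheme.Modules.pushforward U.ι).obj F).IsQuasicoherent] :
    SheafOfModules.IsFiniteType (R := X.ringCatSheaf) ((Scheme.Modules.pushforward U.ι).obj F) := by
  let W : X.Opens := ⟨Tᶜ, hT.isOpen_compl⟩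
  refine isFiniteType_of_finite_sections_cover ((Scheme.Modules.pushforward U.ι).obj F)
    (fun V : {V : X.affineOpens // V.1 ≤ U ∨ V.1 ≤ W} => V.1.1) ?_ (fun V => V.1.2) ?_
  · rw [IsOpenCover, eq_top_iff]
    intro x _
    rw [Opens.mem_iSup]
    by_cases hx : x ∈ U
    · obtain ⟨_, ⟨V, hV, rfl⟩, hxV, hVU⟩ :=
        X.isBasis_affineOpens.exists_subset_of_mem_open hx U.isOpen
      exact ⟨⟨⟨V, hV⟩, Or.inl hVU⟩, hxV⟩
    · have hxW : x ∈ W := fun hxT => hx (hTU hxT)
      obtain ⟨_, ⟨V, hV, rfl⟩, hxV, hVW⟩ :=
        X.isBasis_affineOpens.exists_subset_of_mem_open hxW W.isOpen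
      exact ⟨⟨⟨V, hV⟩, Or.inr hVW⟩, hxV⟩
  · rintro ⟨V, hV | hV⟩
    · have hfin : (U.ι.app V.1).hom.Finite := by
        haveI := isIso_ι_app_of_le U V.1 hV
        exact RingHom.Finite.of_surjective _
          (ConcreteCategory.bijective_of_isIso (U.ι.app V.1)).2
      rw [finite_sections_pushforward_iff U.ι F V.1 hfin]
      exact Groth.Agent.H44.finite_sections_of_isFiniteType F
        (V.2.preimage_of_isOpenImmersion U.ι (by rw [Scheme.Opens.opensRange_ι]; exact hV))
    · haveI : Subsingleton Γ((Scheme.Modules.pushforward U.ι).obj F, V.1) :=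
        subsingleton_sections_pushforward U T F hs V.1 hV
      exact Module.Finite.of_finite

include hT hTU hs in
/-- the pushforward of a quasi-coherent module supported in a closed subset `T ⊆ U` of `X` is
quasi-coherent -/
theorem isQuasicoherent_pushforward_open [F.IsQuasicoherent] :
    ((Scheme.Modules.pushforward U.ι).obj F).IsQuasicoherent := by
  let W : X.Opens := ⟨Tᶜ, hT.isOpen_compl⟩
  refine Groth.Agent.H18.isQuasicoherent_of_isOpenCover _
    (fun b : ULift.{u} Bool => if b.down then U else W) ?_ ?_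
  · rw [IsOpenCover, eq_top_iff]
    intro x _
    rw [Opens.mem_iSup]
    by_cases hx : x ∈ U
    · exact ⟨⟨true⟩, by simpa using hx⟩
    · exact ⟨⟨false⟩, by
        have hxW : x ∈ W := fun hxT => hx (hTU hxT)
        simpa using hxW⟩
  · rintro ⟨_ | _⟩
    · change (((Scheme.Modules.pushforward U.ι).obj F).restrict W.ι).IsQuasicoherent
      apply isQuasicoherent_of_isZero
      apply isZero_of_subsingleton_sections
      intro W'
      exact subsingleton_sections_pushforward U T F hs (W.ι ''ᵁ W') (by
        rintro _ ⟨y, -, rfl⟩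
        exact y.2)
    · change (((Scheme.Modules.pushforward U.ι).obj F).restrict U.ι).IsQuasicoherent
      exact (SheafOfModules.isQuasicoherent (↑U : Scheme.{u}).ringCatSheaf).prop_of_iso
        ((Scheme.Modules.restrictFunctorAdjCounitIso U.ι).app F).symm
        (show F.IsQuasicoherent from inferInstance)

end PushOpen

end Groth.Agent.H71.QCoh
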