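import Groth.Agent.H71.QCoh.FlatSections
import Groth.Agent.H44.PullbackFT
import Groth.Agent.H44.LocFree

/-!
# Properties of quasi-coherent modules preserved by pullback

* `isFlat_pullback` : pullback of a flat quasi-coherent module is flat.
* `isFinLocFree_pullback` : pullback of a finite locally free (quasi-coherent) module is finite
  locally free.
* `subsingleton_sections_of_isZero`.
-/

set_option autoImplicit false

open CategoryTheory Limits AlgebraicGeometry TopologicalSpace Opposite TensorProduct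
  Scheme.Modules

namespace Groth.Agent.H71.QCoh

universe u

variable {X Y : Scheme.{u}} (f : X ⟶ Y) (G : Y.Modules) [G.IsQuasicoherent]

/-- every point of `X` has an affine neighbourhood mapping into an affine open of `Y` -/
theorem exists_affine_pair (x : X) :
    ∃ (U : X.Opens) (V : Y.Opens), IsAffineOpen U ∧ IsAffineOpen V ∧ x ∈ U ∧ U ≤ f ⁻¹ᵁ V := by
  obtain ⟨_, ⟨V, hV, rfl⟩, hxV, -⟩ :=
    Y.isBasis_affineOpens.exists_subset_of_mem_open (Set.mem_univ (f.base x)) isOpen_univ
  obtain ⟨_, ⟨U, hU, rfl⟩, hxU, hUV⟩ :=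
    X.isBasis_affineOpens.exists_subset_of_mem_open (show x ∈ (f ⁻¹ᵁ V : Set X) from hxV)
      (f ⁻¹ᵁ V).2
  exact ⟨U, V, hU, hV, hxU, hUV⟩

theorem flat_sections_pullback {U : X.Opens} {V : Y.Opens}
    (hU : IsAffineOpen U) (hV : IsAffineOpen V) (e : U ≤ f ⁻¹ᵁ V)
    (h : Module.Flat Γ(Y, V) Γ(G, V)) :
    Module.Flat Γ(X, U) Γ((Scheme.Modules.pullback f).obj G, U) := by
  letI := (f.appLE V U e).hom.toAlgebra
  exact Module.Flat.of_linearEquiv (Groth.Agent.H44.pullbackSectionsEquiv f G hU hV e)

theorem projective_sections_pullback {U : X.Opens} {V : Y.Opens}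
    (hU : IsAffineOpen U) (hV : IsAffineOpen V) (e : U ≤ f ⁻¹ᵁ V)
    (h : Module.Projective Γ(Y, V) Γ(G, V)) :
    Module.Projective Γ(X, U) Γ((Scheme.Modules.pullback f).obj G, U) := by
  letI := (f.appLE V U e).hom.toAlgebra
  exact Module.Projective.of_equiv (Groth.Agent.H44.pullbackSectionsEquiv f G hU hV e).symm

theorem finite_sections_pullback' {U : X.Opens} {V : Y.Opens}
    (hU : IsAffineOpen U) (hV : IsAffineOpen V) (e : U ≤ f ⁻¹ᵁ V)
    (h : Module.Finite Γ(Y, V) Γ(G, V)) :
    Module.Finite Γ(X, U) Γ((Scheme.Modules.pullback f).obj G, U) := by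
  letI := (f.appLE V U e).hom.toAlgebra
  exact Module.Finite.equiv (Groth.Agent.H44.pullbackSectionsEquiv f G hU hV e).symm

/-- the pullback of a flat quasi-coherent module is flat -/
theorem isFlat_pullback (h : FlatMod.IsFlat G) : FlatMod.IsFlat ((Scheme.Modules.pullback f).obj G) := by
  intro x
  obtain ⟨U, V, hU, hV, hxU, hUV⟩ := exists_affine_pair f x
  exact isFlatAt_of_flat_sections _ hU
    (flat_sections_pullback f G hU hV hUV (flat_sections_of_isFlatAt G hV (fun y _ => h y))) hxU

/-- the pullback of a finite locally free module is finite locally free -/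
theorem isFinLocFree_pullback (h : FlatMod.IsFinLocFree G) :
    FlatMod.IsFinLocFree ((Scheme.Modules.pullback f).obj G) := by
  refine Groth.Agent.H44.isFinLocFree_of_forall_exists_affine _ (fun x => ?_)
  obtain ⟨U, V, hU, hV, hxU, hUV⟩ := exists_affine_pair f x
  obtain ⟨h1, h2⟩ := Groth.Agent.H44.finite_projective_of_isFinLocFree G h hV
  exact ⟨U, hU, hxU, finite_sections_pullback' f G hU hV hUV h1,
    projective_sections_pullback f G hU hV hUV h2⟩

omit [G.IsQuasicoherent] in
/-- sections of a zero module vanish -/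
theorem subsingleton_sections_of_isZero {M : X.Modules} (h : IsZero M) (U : X.Opens) :
    Subsingleton Γ(M, U) := by
  refine ⟨fun a b => ?_⟩
  have h0 : (𝟙 M : M ⟶ M) = 0 := h.eq_of_src _ _
  have key : ∀ s : Γ(M, U), s = 0 := by
    intro s
    have : (Scheme.Modules.Hom.app (𝟙 M) U) s = (Scheme.Modules.Hom.app (0 : M ⟶ M) U) s := by
      rw [h0]
    simpa using this
  rw [key a, key b]

end Groth.Agent.H71.QCoh
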