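import Groth.Agent.H71.QCoh.LocFreeRank

set_option autoImplicit false

open CategoryTheory Limits AlgebraicGeometry TopologicalSpace Opposite TensorProduct

namespace Groth.Agent.H71.QCoh

universe u

section Models

/-- freeness does not depend on the model of the localization -/
theorem free_of_models {R : Type*} [CommRing R] (S : Submonoid R) {M : Type*} [AddCommGroup M]
    [Module R M]
    (A : Type*) [CommRing A] [Algebra R A] [IsLocalization S A] {N : Type*} [AddCommGroup N]
    [Module R N] [Module A N] [IsScalarTower R A N] (f : M →ₗ[R] N) [IsLocalizedModule S f]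
    (A' : Type*) [CommRing A'] [Algebra R A'] [IsLocalization S A'] {N' : Type*}
    [AddCommGroup N']
    [Module R N'] [Module A' N'] [IsScalarTower R A' N'] (f' : M →ₗ[R] N')
    [IsLocalizedModule S f'] [Module.Free A N] : Module.Free A' N' := by
  let φ : A ≃ₐ[R] A' := IsLocalization.algEquiv S A A'
  letI : Module A N' := Module.compHom N' (φ : A →+* A')
  haveI : IsScalarTower R A N' := by
    refine ⟨fun a c n => ?_⟩
    change (φ (a • c)) • n = a • (φ c • n)
    rw [_root_.map_smul, smul_assoc]
  let e : N ≃ₗ[R] N' := IsLocalizedModule.linearEquiv S f f'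
  let e' : N ≃ₗ[A] N' := e.extendScalarsOfIsLocalization S A
  let b := Module.Free.chooseBasis A N
  exact Module.Free.of_basis ((b.map e').mapCoeffs φ.toRingEquiv (fun _ _ => rfl))

end Models

variable {X : Scheme.{u}} (F : X.Modules) [F.IsQuasicoherent]

/-- the stalk is free iff the localization of the sections over an affine open is -/
theorem free_localizedModule_of_free_stalk {V : X.Opens} (hV : IsAffineOpen V) {x : X}
    (hxV : x ∈ V) (h : Module.Free (X.presheaf.stalk x) (F.presheaf.stalk x)) :
    Module.Free (Localization.AtPrime (hV.primeIdealOf ⟨x, hxV⟩).asIdeal)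
      (LocalizedModule (hV.primeIdealOf ⟨x, hxV⟩).asIdeal.primeCompl Γ(F, V)) := by
  letI := Groth.Agent.H8.stalkModule F hxV
  letI : Algebra Γ(X, V) (X.presheaf.stalk x) :=
    TopCat.Presheaf.algebra_section_stalk X.presheaf ⟨x, hxV⟩
  haveI : IsScalarTower Γ(X, V) (X.presheaf.stalk x) (F.presheaf.stalk x) :=
    IsScalarTower.of_algebraMap_smul (fun r m => rfl)
  haveI := hV.isLocalization_stalk ⟨x, hxV⟩
  haveI := Groth.Agent.H8.isLocalizedModule_germₗ F hV hxV
  exact free_of_models (hV.primeIdealOf ⟨x, hxV⟩).asIdeal.primeCompl (X.presheaf.stalk x)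
    (Groth.Agent.H8.germₗ F hxV) (Localization.AtPrime (hV.primeIdealOf ⟨x, hxV⟩).asIdeal)
    (LocalizedModule.mkLinearMap (hV.primeIdealOf ⟨x, hxV⟩).asIdeal.primeCompl Γ(F, V))

theorem free_localizedModule_of_free_stalks {V : X.Opens} (hV : IsAffineOpen V)
    (h : ∀ x : X, Module.Free (X.presheaf.stalk x) (F.presheaf.stalk x))
    (q : PrimeSpectrum Γ(X, V)) :
    Module.Free (Localization.AtPrime q.asIdeal) (LocalizedModule q.asIdeal.primeCompl Γ(F, V)) := by
  have := free_localizedModule_of_free_stalk F hV (fromSpec_mem hV q) (h _)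
  rwa [primeIdealOf_fromSpec] at this

/-- stalks of a quasi-coherent module with finite projective sections are free -/
theorem free_stalk_of_finite_projective {V : X.Opens} (hV : IsAffineOpen V) {x : X}
    (hxV : x ∈ V) [Module.Finite Γ(X, V) Γ(F, V)] [Module.Projective Γ(X, V) Γ(F, V)] :
    Module.Free (X.presheaf.stalk x) (F.presheaf.stalk x) := by
  letI := Groth.Agent.H8.stalkModule F hxV
  letI : Algebra Γ(X, V) (X.presheaf.stalk x) :=
    TopCat.Presheaf.algebra_section_stalk X.presheaf ⟨x, hxV⟩
  haveI : IsScalarTower Γ(X, V) (X.presheaf.stalk x) (F.presheaf.stalk x) :=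
    IsScalarTower.of_algebraMap_smul (fun r m => rfl)
  haveI := hV.isLocalization_stalk ⟨x, hxV⟩
  haveI := Groth.Agent.H8.isLocalizedModule_germₗ F hV hxV
  haveI : Module.Finite (X.presheaf.stalk x) (F.presheaf.stalk x) :=
    Module.Finite.of_isLocalizedModule (hV.primeIdealOf ⟨x, hxV⟩).asIdeal.primeCompl
      (Groth.Agent.H8.germₗ F hxV)
  haveI : Module.Flat (X.presheaf.stalk x) (F.presheaf.stalk x) :=
    Module.Flat.isBaseChange _ _ _ _ (IsLocalizedModule.isBaseChange
      (hV.primeIdealOf ⟨x, hxV⟩).asIdeal.primeCompl (X.presheaf.stalk x)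
      (Groth.Agent.H8.germₗ F hxV))
  exact Module.free_of_flat_of_isLocalRing

theorem free_stalks_of_isFinLocFree (hF : FlatMod.IsFinLocFree F) (x : X) :
    Module.Free (X.presheaf.stalk x) (F.presheaf.stalk x) := by
  obtain ⟨_, ⟨V, hV, rfl⟩, hxV, -⟩ :=
    X.isBasis_affineOpens.exists_subset_of_mem_open (Set.mem_univ x) isOpen_univ
  obtain ⟨h1, h2⟩ := Groth.Agent.H44.finite_projective_of_isFinLocFree F hF hV
  exact free_stalk_of_finite_projective F hV hxV

end Groth.Agent.H71.QCoh
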