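import Groth.Agent.H71.QCoh.StalkRank
import Groth.Prelude.Def_FlatMod2

/-!
# Flatness of a quasi-coherent module: stalks versus sections over affine opens

For a quasi-coherent `O_X`-module `M` and an affine open `V`:
`Γ(M, V)` is flat over `Γ(X, V)` iff all stalks `M_x`, `x ∈ V`, are flat over `O_{X,x}`.
-/

set_option autoImplicit false

open CategoryTheory Limits AlgebraicGeometry TopologicalSpace Opposite TensorProduct

namespace Groth.Agent.H71.QCoh

universe u

variable {X : Scheme.{u}} (M : X.Modules) [M.IsQuasicoherent]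

/-- flat sections over an affine open give flat stalks at its points -/
theorem isFlatAt_of_flat_sections {V : X.Opens} (hV : IsAffineOpen V)
    (h : Module.Flat Γ(X, V) Γ(M, V)) {x : X} (hxV : x ∈ V) : FlatMod.IsFlatAt M x := by
  letI := Groth.Agent.H8.stalkModule M hxV
  letI : Algebra Γ(X, V) (X.presheaf.stalk x) :=
    TopCat.Presheaf.algebra_section_stalk X.presheaf ⟨x, hxV⟩
  haveI : IsScalarTower Γ(X, V) (X.presheaf.stalk x) (M.presheaf.stalk x) :=
    IsScalarTower.of_algebraMap_smul (fun r m => rfl)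
  haveI := hV.isLocalization_stalk ⟨x, hxV⟩
  haveI := Groth.Agent.H8.isLocalizedModule_germₗ M hV hxV
  exact Module.Flat.of_isLocalizedModule (X.presheaf.stalk x)
    (hV.primeIdealOf ⟨x, hxV⟩).asIdeal.primeCompl (Groth.Agent.H8.germₗ M hxV)

/-- flat stalks at all points of an affine open give flat sections -/
theorem flat_sections_of_isFlatAt {V : X.Opens} (hV : IsAffineOpen V)
    (h : ∀ x ∈ V, FlatMod.IsFlatAt M x) : Module.Flat Γ(X, V) Γ(M, V) := by
  apply Module.flat_of_localized_maximal
  intro P hP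
  let q : PrimeSpectrum Γ(X, V) := ⟨P, inferInstance⟩
  have hxV : hV.fromSpec q ∈ V := fromSpec_mem hV q
  have hq : (hV.primeIdealOf ⟨hV.fromSpec q, hxV⟩).asIdeal.primeCompl = P.primeCompl := by
    ext r
    rw [Ideal.mem_primeCompl_iff, Ideal.mem_primeCompl_iff, primeIdealOf_fromSpec]
  letI := Groth.Agent.H8.stalkModule M hxV
  letI : Algebra Γ(X, V) (X.presheaf.stalk (hV.fromSpec q)) :=
    TopCat.Presheaf.algebra_section_stalk X.presheaf ⟨hV.fromSpec q, hxV⟩
  haveI : IsScalarTower Γ(X, V) (X.presheaf.stalk (hV.fromSpec q))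
      (M.presheaf.stalk (hV.fromSpec q)) :=
    IsScalarTower.of_algebraMap_smul (fun r m => rfl)
  haveI := hV.isLocalization_stalk ⟨hV.fromSpec q, hxV⟩
  haveI hloc := Groth.Agent.H8.isLocalizedModule_germₗ M hV hxV
  have hflat : Module.Flat (X.presheaf.stalk (hV.fromSpec q))
      (M.presheaf.stalk (hV.fromSpec q)) := h _ hxV
  have hflat' : Module.Flat Γ(X, V) (M.presheaf.stalk (hV.fromSpec q)) :=
    (Module.flat_iff_of_isLocalization (X.presheaf.stalk (hV.fromSpec q))
      (hV.primeIdealOf ⟨hV.fromSpec q, hxV⟩).asIdeal.primeCompl _).1 hflat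
  rw [hq] at hloc
  exact Module.Flat.of_linearEquiv
    (IsLocalizedModule.iso P.primeCompl (Groth.Agent.H8.germₗ M hxV))

/-- a quasi-coherent module is flat iff its sections over every affine open are flat -/
theorem isFlat_iff_flat_sections :
    FlatMod.IsFlat M ↔ ∀ V : X.affineOpens, Module.Flat Γ(X, V.1) Γ(M, V.1) := by
  constructor
  · intro h V
    exact flat_sections_of_isFlatAt M V.2 (fun x _ => h x)
  · intro h x
    obtain ⟨_, ⟨V, hV, rfl⟩, hxV, -⟩ :=
      X.isBasis_affineOpens.exists_subset_of_mem_open (Set.mem_univ x) isOpen_univ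
    exact isFlatAt_of_flat_sections M hV (h ⟨V, hV⟩) hxV

end Groth.Agent.H71.QCoh
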