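import Groth.Agent.H71.QCoh.FlatSections
import Groth.Agent.H71.FlatOver.Alg
import Groth.Agent.H71.QCoh.PullbackProps
import Groth.Agent.H71.QCoh.ExactSections

/-!
# `FlatMod.IsFlatOverAt` via sections over affine opens

For `f : X ⟶ Y`, `V ⊆ Y` affine, `x : X` with `f x ∈ V`:
* `baseModuleStalk` : the `Γ(Y,V)`-module structure on the stalk `M_x`;
* `isFlatOverAt_iff_flat_base` : `M` is flat over `Y` at `x` iff `M_x` is flat over `Γ(Y,V)`;
* for `M` quasi-coherent and `U ≤ f⁻¹V` affine: `Γ(M,U)` is flat over `Γ(Y,V)` iff `M` is flat over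
  `Y` at all points of `U`.
-/

set_option autoImplicit false

open CategoryTheory Limits AlgebraicGeometry TopologicalSpace Opposite TensorProduct

namespace Groth.Agent.H71.QCoh

universe u

variable {X Y : Scheme.{u}} (f : X ⟶ Y) (M : X.Modules)

/-- the `Γ(Y,V)`-module structure on the stalk `M_x` (via `Γ(Y,V) → O_{Y,f x} → O_{X,x}`) -/
@[reducible] noncomputable def baseModuleStalk {V : Y.Opens} {x : X} (hfx : f x ∈ V) :
    Module Γ(Y, V) (M.presheaf.stalk x) :=
  letI := FlatMod.moduleStalkOver f M x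
  Module.compHom _ (Y.presheaf.germ V (f x) hfx).hom

theorem isFlatOverAt_iff_flat_base {V : Y.Opens} (hV : IsAffineOpen V) {x : X} (hfx : f x ∈ V) :
    FlatMod.IsFlatOverAt f M x ↔
      @Module.Flat Γ(Y, V) (M.presheaf.stalk x) _ _ (baseModuleStalk f M hfx) := by
  letI := FlatMod.moduleStalkOver f M x
  letI := baseModuleStalk f M hfx
  letI : Algebra Γ(Y, V) (Y.presheaf.stalk (f x)) :=
    TopCat.Presheaf.algebra_section_stalk Y.presheaf ⟨f x, hfx⟩
  haveI : IsScalarTower Γ(Y, V) (Y.presheaf.stalk (f x)) (M.presheaf.stalk x) :=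
    IsScalarTower.of_algebraMap_smul (fun r m => rfl)
  haveI := hV.isLocalization_stalk ⟨f x, hfx⟩
  exact Module.flat_iff_of_isLocalization (Y.presheaf.stalk (f x))
    (hV.primeIdealOf ⟨f x, hfx⟩).asIdeal.primeCompl (M.presheaf.stalk x)

theorem stalkMap_germ_eq_germ_appLE {U : X.Opens} {V : Y.Opens} (e : U ≤ f ⁻¹ᵁ V) {x : X}
    (hxU : x ∈ U) (a : Γ(Y, V)) :
    (f.stalkMap x).hom ((Y.presheaf.germ V (f x) (e hxU)).hom a) =
      (X.presheaf.germ U x hxU).hom ((f.appLE V U e).hom a) := by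
  have h1 := Scheme.Hom.germ_stalkMap_apply f V x (e hxU) a
  have h2 : (X.presheaf.germ U x hxU).hom ((f.appLE V U e).hom a) =
      (X.presheaf.germ (f ⁻¹ᵁ V) x (e hxU)).hom ((f.app V).hom a) := by
    rw [Scheme.Hom.appLE]
    exact TopCat.Presheaf.germ_res_apply X.presheaf (homOfLE e) x hxU _
  exact h1.trans h2.symm

variable [M.IsQuasicoherent]

/-- if `Γ(M,U)` is flat over `Γ(Y,V)` then `M` is flat over `Y` at the points of `U` -/
theorem isFlatOverAt_of_flat_sections_base {U : X.Opens} {V : Y.Opens} (hU : IsAffineOpen U)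
    (hV : IsAffineOpen V) (e : U ≤ f ⁻¹ᵁ V)
    (h : letI : Module Γ(Y, V) Γ(M, U) := Module.compHom _ (f.appLE V U e).hom
      Module.Flat Γ(Y, V) Γ(M, U)) {x : X} (hxU : x ∈ U) :
    FlatMod.IsFlatOverAt f M x := by
  rw [isFlatOverAt_iff_flat_base f M hV (e hxU)]
  letI : Algebra Γ(Y, V) Γ(X, U) := (f.appLE V U e).hom.toAlgebra
  letI : Module Γ(Y, V) Γ(M, U) := Module.compHom _ (f.appLE V U e).hom
  haveI : IsScalarTower Γ(Y, V) Γ(X, U) Γ(M, U) :=
    IsScalarTower.of_algebraMap_smul (fun r m => rfl)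
  letI := baseModuleStalk f M (e hxU)
  letI := Groth.Agent.H8.stalkModule M hxU
  haveI : IsScalarTower Γ(Y, V) Γ(X, U) (M.presheaf.stalk x) :=
    IsScalarTower.of_algebraMap_smul (fun r m => by
      change (X.presheaf.germ U x hxU).hom ((f.appLE V U e).hom r) • m =
        (f.stalkMap x).hom ((Y.presheaf.germ V (f x) (e hxU)).hom r) • m
      rw [stalkMap_germ_eq_germ_appLE f e hxU r])
  haveI := Groth.Agent.H8.isLocalizedModule_germₗ M hU hxU
  haveI : Module.Flat Γ(Y, V) Γ(M, U) := h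
  exact Groth.Agent.H71.FlatOver.flat_of_isLocalizedModule
    (hU.primeIdealOf ⟨x, hxU⟩).asIdeal.primeCompl (Groth.Agent.H8.germₗ M hxU)

/-- if `M` is flat over `Y` at all points of `U` then `Γ(M,U)` is flat over `Γ(Y,V)` -/
theorem flat_sections_base_of_isFlatOverAt {U : X.Opens} {V : Y.Opens} (hU : IsAffineOpen U)
    (hV : IsAffineOpen V) (e : U ≤ f ⁻¹ᵁ V) (h : ∀ x ∈ U, FlatMod.IsFlatOverAt f M x) :
    letI : Module Γ(Y, V) Γ(M, U) := Module.compHom _ (f.appLE V U e).hom
    Module.Flat Γ(Y, V) Γ(M, U) := by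
  letI : Algebra Γ(Y, V) Γ(X, U) := (f.appLE V U e).hom.toAlgebra
  letI : Module Γ(Y, V) Γ(M, U) := Module.compHom _ (f.appLE V U e).hom
  haveI : IsScalarTower Γ(Y, V) Γ(X, U) Γ(M, U) :=
    IsScalarTower.of_algebraMap_smul (fun r m => rfl)
  apply Groth.Agent.H71.FlatOver.flat_of_localized_maximal (B := Γ(X, U))
  intro P hP
  let q : PrimeSpectrum Γ(X, U) := ⟨P, inferInstance⟩
  have hxU : hU.fromSpec q ∈ U := fromSpec_mem hU q
  have hq : (hU.primeIdealOf ⟨hU.fromSpec q, hxU⟩).asIdeal.primeCompl = P.primeCompl := by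
    ext r
    rw [Ideal.mem_primeCompl_iff, Ideal.mem_primeCompl_iff, primeIdealOf_fromSpec]
  have hflat := (isFlatOverAt_iff_flat_base f M hV (e hxU)).1 (h _ hxU)
  letI := baseModuleStalk f M (e hxU)
  letI := Groth.Agent.H8.stalkModule M hxU
  haveI : IsScalarTower Γ(Y, V) Γ(X, U) (M.presheaf.stalk (hU.fromSpec q)) :=
    IsScalarTower.of_algebraMap_smul (fun r m => by
      change (X.presheaf.germ U _ hxU).hom ((f.appLE V U e).hom r) • m =
        (f.stalkMap _).hom ((Y.presheaf.germ V (f _) (e hxU)).hom r) • m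
      rw [stalkMap_germ_eq_germ_appLE f e hxU r])
  haveI hloc := Groth.Agent.H8.isLocalizedModule_germₗ M hU hxU
  rw [hq] at hloc
  exact Module.Flat.of_linearEquiv
    ((IsLocalizedModule.iso P.primeCompl (Groth.Agent.H8.germₗ M hxU)).restrictScalars Γ(Y, V))

/-- a quasi-coherent module is flat over `Y` iff its sections over affine opens `U ≤ f⁻¹V` are flat
over `Γ(Y,V)` -/
theorem isFlatOver_iff_flat_sections_base :
    FlatMod.IsFlatOver f M ↔ ∀ (U : X.Opens) (V : Y.Opens) (_ : IsAffineOpen U)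
      (_ : IsAffineOpen V) (e : U ≤ f ⁻¹ᵁ V),
      letI : Module Γ(Y, V) Γ(M, U) := Module.compHom _ (f.appLE V U e).hom
      Module.Flat Γ(Y, V) Γ(M, U) := by
  constructor
  · intro h U V hU hV e
    exact flat_sections_base_of_isFlatOverAt f M hU hV e (fun x _ => h x)
  · intro h x
    obtain ⟨U, V, hU, hV, hxU, hUV⟩ := exists_affine_pair f x
    exact isFlatOverAt_of_flat_sections_base f M hU hV hUV (h U V hU hV hUV) hxU

omit [M.IsQuasicoherent] in
open Groth.Agent.H92.LocFreeRank in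
/-- two out of three for flatness over the base in a short exact sequence of quasi-coherent
modules with flat cokernel -/
theorem isFlatOver_iff_of_shortExact (S : ShortComplex X.Modules) (hS : S.ShortExact)
    [S.X₁.IsQuasicoherent] [S.X₂.IsQuasicoherent] [S.X₃.IsQuasicoherent]
    (hflat : FlatMod.IsFlatOver f S.X₃) :
    FlatMod.IsFlatOver f S.X₂ ↔ FlatMod.IsFlatOver f S.X₁ := by
  rw [isFlatOver_iff_flat_sections_base, isFlatOver_iff_flat_sections_base]
  refine forall_congr' fun U => forall_congr' fun V => forall_congr' fun hU =>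
    forall_congr' fun hV => forall_congr' fun e => ?_
  letI : Algebra Γ(Y, V) Γ(X, U) := (f.appLE V U e).hom.toAlgebra
  letI : Module Γ(Y, V) Γ(S.X₁, U) := Module.compHom _ (f.appLE V U e).hom
  letI : Module Γ(Y, V) Γ(S.X₂, U) := Module.compHom _ (f.appLE V U e).hom
  letI : Module Γ(Y, V) Γ(S.X₃, U) := Module.compHom _ (f.appLE V U e).hom
  haveI : IsScalarTower Γ(Y, V) Γ(X, U) Γ(S.X₁, U) :=
    IsScalarTower.of_algebraMap_smul (fun r m => rfl)
  haveI : IsScalarTower Γ(Y, V) Γ(X, U) Γ(S.X₂, U) :=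
    IsScalarTower.of_algebraMap_smul (fun r m => rfl)
  haveI : IsScalarTower Γ(Y, V) Γ(X, U) Γ(S.X₃, U) :=
    IsScalarTower.of_algebraMap_smul (fun r m => rfl)
  haveI : Module.Flat Γ(Y, V) Γ(S.X₃, U) :=
    flat_sections_base_of_isFlatOverAt f S.X₃ hU hV e (fun x _ => hflat x)
  refine Groth.Agent.H71.FlatOver.flat_iff_of_exact_of_flat_right
    ((appLin S.f U).restrictScalars Γ(Y, V)) ((appLin S.g U).restrictScalars Γ(Y, V)) ?_ ?_ ?_
  · exact Groth.Agent.H12.QCohExt.app_injective S hS U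
  · intro y
    constructor
    · intro hy
      obtain ⟨x, hx⟩ := Groth.Agent.H12.QCohExt.app_exact S hS U y hy
      exact ⟨x, hx⟩
    · rintro ⟨x, rfl⟩
      exact Groth.Agent.H12.QCohExt.app_zero_apply S U x
  · exact Groth.Agent.H12.QCohExt.app_surjective_of_isAffineOpen S hS hU

end Groth.Agent.H71.QCoh
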