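import Groth.Agent.H44.LocFree
import Groth.Agent.H8.QCohStalk
import Groth.Agent.H18.FTypeCriterion
import Groth.Agent.H71.QCoh.RankAlg

set_option autoImplicit false

open CategoryTheory Limits AlgebraicGeometry TopologicalSpace Opposite TensorProduct

namespace Groth.Agent.H71.QCoh

universe u

variable {X : Scheme.{u}} (F : X.Modules)

/-- the fibre rank of `F` at `x` -/
noncomputable def fibreRank (x : X) : ℕ :=
  Module.finrank (IsLocalRing.ResidueField (X.presheaf.stalk x))
    (TensorProduct (X.presheaf.stalk x) (IsLocalRing.ResidueField (X.presheaf.stalk x))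
      (F.presheaf.stalk x))

/-- the fibre rank on an affine open, as a function on the prime spectrum -/
noncomputable def affineRank (V : X.Opens) (q : PrimeSpectrum Γ(X, V)) : ℕ :=
  Module.finrank q.asIdeal.ResidueField (q.asIdeal.ResidueField ⊗[Γ(X, V)] Γ(F, V))

theorem fibreRank_eq [F.IsQuasicoherent] {V : X.Opens} (hV : IsAffineOpen V) {x : X}
    (hxV : x ∈ V) :
    fibreRank F x = affineRank F V (hV.primeIdealOf ⟨x, hxV⟩) := by
  letI := Groth.Agent.H8.stalkModule F hxV
  letI : Algebra Γ(X, V) (X.presheaf.stalk x) :=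
    TopCat.Presheaf.algebra_section_stalk X.presheaf ⟨x, hxV⟩
  haveI : IsScalarTower Γ(X, V) (X.presheaf.stalk x) (F.presheaf.stalk x) :=
    IsScalarTower.of_algebraMap_smul (fun r m => rfl)
  haveI := hV.isLocalization_stalk ⟨x, hxV⟩
  haveI := Groth.Agent.H8.isLocalizedModule_germₗ F hV hxV
  exact finrank_residueField_tensor_eq_of_isLocalizedModule _ (X.presheaf.stalk x)
    (Groth.Agent.H8.germₗ F hxV)

lemma fromSpec_mem {V : X.Opens} (hV : IsAffineOpen V) (q : PrimeSpectrum Γ(X, V)) :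
    hV.fromSpec q ∈ V := by
  have : hV.fromSpec q ∈ Set.range hV.fromSpec := ⟨q, rfl⟩
  rw [hV.range_fromSpec] at this
  exact this

lemma primeIdealOf_fromSpec {V : X.Opens} (hV : IsAffineOpen V) (q : PrimeSpectrum Γ(X, V)) :
    hV.primeIdealOf ⟨hV.fromSpec q, fromSpec_mem hV q⟩ = q :=
  hV.fromSpec.isOpenEmbedding.injective (hV.fromSpec_primeIdealOf ⟨hV.fromSpec q, fromSpec_mem hV q⟩)

theorem affineRank_eq [F.IsQuasicoherent] {V : X.Opens} (hV : IsAffineOpen V)
    (q : PrimeSpectrum Γ(X, V)) :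
    affineRank F V q = fibreRank F (hV.fromSpec q) := by
  rw [fibreRank_eq F hV (fromSpec_mem hV q), primeIdealOf_fromSpec]

theorem isLocallyConstant_affineRank [F.IsQuasicoherent] (h : IsLocallyConstant (fibreRank F))
    {V : X.Opens} (hV : IsAffineOpen V) : IsLocallyConstant (affineRank F V) := by
  have : affineRank F V = fibreRank F ∘ (fun q => hV.fromSpec q) := by
    funext q
    exact affineRank_eq F hV q
  rw [this]
  exact h.comp_continuous hV.fromSpec.continuous

theorem isLocallyConstant_fibreRank [F.IsQuasicoherent]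
    (h : ∀ V : X.affineOpens, IsLocallyConstant (affineRank F V.1)) :
    IsLocallyConstant (fibreRank F) := by
  rw [IsLocallyConstant.iff_exists_open]
  intro x
  obtain ⟨_, ⟨V, hV, rfl⟩, hxV, -⟩ :=
    X.isBasis_affineOpens.exists_subset_of_mem_open (Set.mem_univ x) isOpen_univ
  have hW := (h ⟨V, hV⟩).isOpen_fiber (affineRank F V (hV.primeIdealOf ⟨x, hxV⟩))
  refine ⟨hV.fromSpec '' _, hV.fromSpec.isOpenEmbedding.isOpenMap _ hW,
    ⟨hV.primeIdealOf ⟨x, hxV⟩, rfl, hV.fromSpec_primeIdealOf ⟨x, hxV⟩⟩, ?_⟩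
  rintro x' ⟨q, hq, rfl⟩
  rw [← affineRank_eq F hV q, fibreRank_eq F hV hxV]
  exact hq

end Groth.Agent.H71.QCoh
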