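/-
Support of a tensor product of quasi-coherent finite-type modules is the intersection of the
supports (stalk tensor iso + Nakayama), and the support of p^*F ⊗ q^*G on a fibre product.
-/
import Groth.Agent.S4357
import Groth.Agent.H5.Stalk.Tensor
import Groth.Agent.H13.QuasiFlat
import Groth.Agent.H44.PullbackFT
import Mathlib.RingTheory.LocalRing.Module
import Mathlib.RingTheory.Flat.FaithfullyFlat.Basic

set_option autoImplicit false
universe u
open CategoryTheory CategoryTheory.Limits AlgebraicGeometry TopologicalSpace Opposite TensorProduct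

namespace Groth.Agent.H71.QCoh

/-- over a local ring, the tensor product of two nonzero finite modules is nonzero -/
theorem subsingleton_tensor_iff_of_isLocalRing {R : Type u} [CommRing R] [IsLocalRing R]
    (M N : Type u) [AddCommGroup M] [Module R M] [AddCommGroup N] [Module R N]
    [Module.Finite R M] [Module.Finite R N] :
    Subsingleton (M ⊗[R] N) ↔ Subsingleton M ∨ Subsingleton N := by
  constructor
  · intro h
    by_contra hc
    obtain ⟨hM, hN⟩ := not_or.mp hc
    rw [not_subsingleton_iff_nontrivial] at hM hN
    let k := IsLocalRing.ResidueField R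
    haveI : Nontrivial (k ⊗[R] M) := by
      rw [← not_subsingleton_iff_nontrivial, IsLocalRing.subsingleton_tensorProduct]
      exact not_subsingleton M
    haveI : Nontrivial (k ⊗[R] N) := by
      rw [← not_subsingleton_iff_nontrivial, IsLocalRing.subsingleton_tensorProduct]
      exact not_subsingleton N
    haveI : Subsingleton (k ⊗[R] (M ⊗[R] N)) := inferInstance
    have e := TensorProduct.AlgebraTensorModule.distribBaseChange R k M N
    haveI : Subsingleton ((k ⊗[R] M) ⊗[k] (k ⊗[R] N)) := e.symm.toEquiv.subsingleton
    have h3 : Subsingleton (k ⊗[R] N) :=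
      (Module.FaithfullyFlat.subsingleton_tensorProduct_iff_right k (k ⊗[R] M)).mp inferInstance
    exact not_subsingleton _ h3
  · rintro (h | h) <;> infer_instance

/-- the support of a tensor product of quasi-coherent modules of finite type is the intersection
of the supports -/
theorem support_tensorMod {X : Scheme.{u}} (F G : X.Modules) (hF : Coh.IsCoh F)
    (hG : Coh.IsCoh G) :
    CohB1.support (CohB1.tensorMod F G) = CohB1.support F ∩ CohB1.support G := by
  ext z
  change ¬ Subsingleton ((CohB1.tensorMod F G).presheaf.stalk z) ↔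
    ¬ Subsingleton (F.presheaf.stalk z) ∧ ¬ Subsingleton (G.presheaf.stalk z)
  haveI := Groth.Agent.H13.finite_stalk_of_isCoh F hF z
  haveI := Groth.Agent.H13.finite_stalk_of_isCoh G hG z
  have e := (Groth.Agent.H5.Stalk.Tensor.stalkTensorIso z F G).toLinearEquiv
  have h1 : Subsingleton ((CohB1.tensorMod F G).presheaf.stalk z) ↔
      Subsingleton (F.presheaf.stalk z ⊗[X.presheaf.stalk z] G.presheaf.stalk z) :=
    ⟨fun h => @Equiv.subsingleton _ _ e.symm.toEquiv h, fun h => @Equiv.subsingleton _ _ e.toEquiv h⟩
  rw [h1, subsingleton_tensor_iff_of_isLocalRing, not_or]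

theorem support_tensorMod_pullback {S X Y : Scheme.{u}} (f : X ⟶ S) (g : Y ⟶ S)
    (F : X.Modules) (G : Y.Modules) [F.IsQuasicoherent] [G.IsQuasicoherent]
    (hF : CohB1.IsFT F) (hG : CohB1.IsFT G) :
    CohB1.support (CohB1.tensorMod ((Scheme.Modules.pullback (pullback.fst f g)).obj F)
        ((Scheme.Modules.pullback (pullback.snd f g)).obj G)) =
      (pullback.fst f g) ⁻¹' CohB1.support F ∩ (pullback.snd f g) ⁻¹' CohB1.support G := by
  haveI : SheafOfModules.IsFiniteType (R := X.ringCatSheaf) F := hF
  haveI : SheafOfModules.IsFiniteType (R := Y.ringCatSheaf) G := hG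
  have hF' : Coh.IsCoh ((Scheme.Modules.pullback (pullback.fst f g)).obj F) :=
    ⟨inferInstance, inferInstance⟩
  have hG' : Coh.IsCoh ((Scheme.Modules.pullback (pullback.snd f g)).obj G) :=
    ⟨inferInstance, inferInstance⟩
  rw [support_tensorMod _ _ hF' hG', Groth.Agent.S4357.result (pullback.fst f g) F hF,
    Groth.Agent.S4357.result (pullback.snd f g) G hG]

end Groth.Agent.H71.QCoh
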