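import Groth.Agent.H71.QCoh.FlatOver
import Groth.Agent.H71.FlatOver.StalkBC

/-!
# The stalk of the pullback of a quasi-coherent module

For `h : X ⟶ Y`, `G` quasi-coherent on `Y` and `x : X`:
`(h^*G)_x ≃ O_{X,x} ⊗[O_{Y,h x}] G_{h x}` (linear over `O_{X,x}`).
-/

set_option autoImplicit false

open CategoryTheory Limits AlgebraicGeometry TopologicalSpace Opposite TensorProduct

namespace Groth.Agent.H71.QCoh

universe u

variable {X Y : Scheme.{u}} (h : X ⟶ Y) (G : Y.Modules) [G.IsQuasicoherent]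

set_option maxHeartbeats 800000 in
theorem exists_stalkPullbackEquiv (x : X) :
    letI := (h.stalkMap x).hom.toAlgebra
    Nonempty ((X.presheaf.stalk x) ⊗[Y.presheaf.stalk (h x)] (G.presheaf.stalk (h x))
      ≃ₗ[X.presheaf.stalk x] ((Scheme.Modules.pullback h).obj G).presheaf.stalk x) := by
  obtain ⟨U, V, hU, hV, hxU, e⟩ := exists_affine_pair h x
  have hyV : h x ∈ V := e hxU
  letI algAB : Algebra Γ(Y, V) Γ(X, U) := (h.appLE V U e).hom.toAlgebra
  letI algAAq : Algebra Γ(Y, V) (Y.presheaf.stalk (h x)) :=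
    TopCat.Presheaf.algebra_section_stalk Y.presheaf ⟨h x, hyV⟩
  letI algBBp : Algebra Γ(X, U) (X.presheaf.stalk x) :=
    TopCat.Presheaf.algebra_section_stalk X.presheaf ⟨x, hxU⟩
  letI algAqBp : Algebra (Y.presheaf.stalk (h x)) (X.presheaf.stalk x) :=
    (h.stalkMap x).hom.toAlgebra
  letI algABp : Algebra Γ(Y, V) (X.presheaf.stalk x) :=
    ((algebraMap Γ(X, U) (X.presheaf.stalk x)).comp (algebraMap Γ(Y, V) Γ(X, U))).toAlgebra
  haveI : IsScalarTower Γ(Y, V) Γ(X, U) (X.presheaf.stalk x) :=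
    IsScalarTower.of_algebraMap_eq (fun _ => rfl)
  haveI : IsScalarTower Γ(Y, V) (Y.presheaf.stalk (h x)) (X.presheaf.stalk x) :=
    IsScalarTower.of_algebraMap_eq (fun a => (stalkMap_germ_eq_germ_appLE h e hxU a).symm)
  haveI := hV.isLocalization_stalk ⟨h x, hyV⟩
  haveI := hU.isLocalization_stalk ⟨x, hxU⟩
  -- modules
  letI : Module Γ(Y, V) (G.presheaf.stalk (h x)) := Groth.Agent.H8.stalkModule G hyV
  haveI : IsScalarTower Γ(Y, V) (Y.presheaf.stalk (h x)) (G.presheaf.stalk (h x)) :=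
    IsScalarTower.of_algebraMap_smul (fun r m => rfl)
  haveI := Groth.Agent.H8.isLocalizedModule_germₗ G hV hyV
  letI modBQ : Module Γ(X, U) (((Scheme.Modules.pullback h).obj G).presheaf.stalk x) :=
    Groth.Agent.H8.stalkModule _ hxU
  haveI : IsScalarTower Γ(X, U) (X.presheaf.stalk x)
      (((Scheme.Modules.pullback h).obj G).presheaf.stalk x) :=
    IsScalarTower.of_algebraMap_smul (fun r m => rfl)
  letI modAQ : Module Γ(Y, V) (((Scheme.Modules.pullback h).obj G).presheaf.stalk x) :=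
    Module.compHom _ (algebraMap Γ(Y, V) Γ(X, U))
  haveI : IsScalarTower Γ(Y, V) Γ(X, U)
      (((Scheme.Modules.pullback h).obj G).presheaf.stalk x) :=
    IsScalarTower.of_algebraMap_smul (fun r m => rfl)
  haveI : IsScalarTower Γ(Y, V) (X.presheaf.stalk x)
      (((Scheme.Modules.pullback h).obj G).presheaf.stalk x) :=
    IsScalarTower.of_algebraMap_smul (fun r m => rfl)
  haveI := Groth.Agent.H8.isLocalizedModule_germₗ ((Scheme.Modules.pullback h).obj G) hU hxU
  let gQ : Γ(X, U) ⊗[Γ(Y, V)] Γ(G, V) →ₗ[Γ(X, U)]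
      ((Scheme.Modules.pullback h).obj G).presheaf.stalk x :=
    (Groth.Agent.H8.germₗ ((Scheme.Modules.pullback h).obj G) hxU) ∘ₗ
      ((Groth.Agent.H44.pullbackSectionsEquiv h G hU hV e).symm :
        Γ(X, U) ⊗[Γ(Y, V)] Γ(G, V) →ₗ[Γ(X, U)] Γ((Scheme.Modules.pullback h).obj G, U))
  haveI : IsLocalizedModule (hU.primeIdealOf ⟨x, hxU⟩).asIdeal.primeCompl gQ :=
    IsLocalizedModule.of_linearEquiv_right _ _ _
  exact ⟨Groth.Agent.H71.FlatOver.stalkBaseChangeEquiv
    (hV.primeIdealOf ⟨h x, hyV⟩).asIdeal.primeCompl (hU.primeIdealOf ⟨x, hxU⟩).asIdeal.primeCompl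
    (Groth.Agent.H8.germₗ G hyV) gQ⟩

end Groth.Agent.H71.QCoh
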