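import Groth.Agent.H71.QCoh.StalkPullback
import Groth.Agent.H71.FlatOver.BaseChange

/-!
# Flat base change for quasi-coherent modules, pointwise

In a cartesian square `X' = S' ×_S X`, if `F` (quasi-coherent on `X`) is flat over `S` at `g' x'`
then `g'^*F` is flat over `S'` at `x'`.
-/

set_option autoImplicit false

open CategoryTheory Limits AlgebraicGeometry TopologicalSpace Opposite TensorProduct

namespace Groth.Agent.H71.QCoh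

universe u

variable {X S X' S' : Scheme.{u}} {f : X ⟶ S} {f' : X' ⟶ S'} {g' : X' ⟶ X} {g : S' ⟶ S}

/-- affine charts adapted to a point of a fibre product -/
theorem exists_affine_chart (hc : IsPullback g' f' f g) (x' : X') :
    ∃ (W : S.Opens) (W' : S'.Opens) (U : X.Opens) (hW'W : W' ≤ g ⁻¹ᵁ W) (hUW : U ≤ f ⁻¹ᵁ W),
      IsAffineOpen W ∧ IsAffineOpen W' ∧
      IsAffineOpen U ∧ g' x' ∈ U ∧ f' x' ∈ W' ∧
      IsAffineOpen (g' ⁻¹ᵁ U ⊓ f' ⁻¹ᵁ W') ∧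
      CategoryTheory.IsPushout (f.appLE W U hUW) (g.appLE W W' hW'W)
        (g'.appLE U (g' ⁻¹ᵁ U ⊓ f' ⁻¹ᵁ W') inf_le_left)
        (f'.appLE W' (g' ⁻¹ᵁ U ⊓ f' ⁻¹ᵁ W') inf_le_right) := by
  have hw : g (f' x') = f (g' x') := by
    have := congrArg (fun k => k.base x') hc.w
    simpa using this.symm
  obtain ⟨_, ⟨W, hW, rfl⟩, hsW, -⟩ :=
    S.isBasis_affineOpens.exists_subset_of_mem_open (Set.mem_univ (f (g' x'))) isOpen_univ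
  obtain ⟨_, ⟨W', hW', rfl⟩, hs'W', hW'W⟩ :=
    S'.isBasis_affineOpens.exists_subset_of_mem_open
      (show f' x' ∈ (g ⁻¹ᵁ W : Set S') by
        show g (f' x') ∈ W
        rw [hw]; exact hsW) (g ⁻¹ᵁ W).2
  obtain ⟨_, ⟨U, hU, rfl⟩, hxU, hUW⟩ :=
    X.isBasis_affineOpens.exists_subset_of_mem_open
      (show g' x' ∈ (f ⁻¹ᵁ W : Set X) from hsW) (f ⁻¹ᵁ W).2
  have hiso := AlgebraicGeometry.isIso_pushoutSection_of_isAffineOpen hc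
    (US := W) (UT := W') (UX := U) hW'W hUW (UY := g' ⁻¹ᵁ U ⊓ f' ⁻¹ᵁ W') rfl hW hW' hU
  have hpo := (AlgebraicGeometry.isIso_pushoutSection_iff hc hW'W hUW rfl).1 hiso
  have : IsAffine _ := hW
  have : IsAffine _ := hW'
  have : IsAffine _ := hU
  have hUY : IsAffineOpen (g' ⁻¹ᵁ U ⊓ f' ⁻¹ᵁ W') :=
    .of_isIso (Scheme.Hom.isPullback_resLE hc hW'W hUW rfl).isoPullback.hom
  exact ⟨W, W', U, hW'W, hUW, hW, hW', hU, hxU, hs'W', hUY, hpo⟩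

set_option maxHeartbeats 1600000 in
/-- pointwise flat base change for quasi-coherent modules -/
theorem isFlatOverAt_baseChange (hc : IsPullback g' f' f g) (F : X.Modules) [F.IsQuasicoherent]
    (x' : X') (h : FlatMod.IsFlatOverAt f F (g' x')) :
    FlatMod.IsFlatOverAt f' ((Scheme.Modules.pullback g').obj F) x' := by
  obtain ⟨W, W', U, hW'W, hUW, hW, hW', hU, hxU, hs'W', hU', hpo⟩ := exists_affine_chart hc x'
  have hx'U' : x' ∈ g' ⁻¹ᵁ U ⊓ f' ⁻¹ᵁ W' := ⟨hxU, hs'W'⟩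
  have e' : g' ⁻¹ᵁ U ⊓ f' ⁻¹ᵁ W' ≤ g' ⁻¹ᵁ U := inf_le_left
  have e'' : g' ⁻¹ᵁ U ⊓ f' ⁻¹ᵁ W' ≤ f' ⁻¹ᵁ W' := inf_le_right
  rw [isFlatOverAt_iff_flat_base f' _ hW' hs'W']
  have hflat := (isFlatOverAt_iff_flat_base f F hW (hUW hxU)).1 h
  -- rings
  letI algAB : Algebra Γ(S, W) Γ(X, U) := (f.appLE W U hUW).hom.toAlgebra
  letI algAA' : Algebra Γ(S, W) Γ(S', W') := (g.appLE W W' hW'W).hom.toAlgebra
  letI algA'B' : Algebra Γ(S', W') Γ(X', g' ⁻¹ᵁ U ⊓ f' ⁻¹ᵁ W') :=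
    (f'.appLE W' _ e'').hom.toAlgebra
  letI algBB' : Algebra Γ(X, U) Γ(X', g' ⁻¹ᵁ U ⊓ f' ⁻¹ᵁ W') := (g'.appLE U _ e').hom.toAlgebra
  letI algAB' : Algebra Γ(S, W) Γ(X', g' ⁻¹ᵁ U ⊓ f' ⁻¹ᵁ W') :=
    ((algebraMap Γ(X, U) Γ(X', g' ⁻¹ᵁ U ⊓ f' ⁻¹ᵁ W')).comp
      (algebraMap Γ(S, W) Γ(X, U))).toAlgebra
  haveI : IsScalarTower Γ(S, W) Γ(X, U) Γ(X', g' ⁻¹ᵁ U ⊓ f' ⁻¹ᵁ W') :=
    IsScalarTower.of_algebraMap_eq (fun _ => rfl)
  haveI : IsScalarTower Γ(S, W) Γ(S', W') Γ(X', g' ⁻¹ᵁ U ⊓ f' ⁻¹ᵁ W') :=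
    IsScalarTower.of_algebraMap_eq (fun a => by
      have := congrArg (fun k => k.hom a) hpo.w
      exact this)
  haveI hpo' : Algebra.IsPushout Γ(S, W) Γ(X, U) Γ(S', W') Γ(X', g' ⁻¹ᵁ U ⊓ f' ⁻¹ᵁ W') :=
    CommRingCat.isPushout_iff_isPushout.mp hpo
  haveI : Algebra.IsPushout Γ(S, W) Γ(S', W') Γ(X, U) Γ(X', g' ⁻¹ᵁ U ⊓ f' ⁻¹ᵁ W') := hpo'.symm
  -- modules: the stalk of `F`
  letI modBMp : Module Γ(X, U) (F.presheaf.stalk (g' x')) := Groth.Agent.H8.stalkModule F hxU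
  letI modAMp : Module Γ(S, W) (F.presheaf.stalk (g' x')) := baseModuleStalk f F (hUW hxU)
  haveI : IsScalarTower Γ(S, W) Γ(X, U) (F.presheaf.stalk (g' x')) :=
    IsScalarTower.of_algebraMap_smul (fun r m => by
      change (X.presheaf.germ U _ hxU).hom ((f.appLE W U hUW).hom r) • m =
        (f.stalkMap _).hom ((S.presheaf.germ W (f _) (hUW hxU)).hom r) • m
      rw [stalkMap_germ_eq_germ_appLE f hUW hxU r])
  haveI := Groth.Agent.H8.isLocalizedModule_germₗ F hU hxU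
  haveI : Module.Flat Γ(S, W) (F.presheaf.stalk (g' x')) := hflat
  -- modules: the stalk of the pullback
  letI modB'Q : Module Γ(X', g' ⁻¹ᵁ U ⊓ f' ⁻¹ᵁ W')
      (((Scheme.Modules.pullback g').obj F).presheaf.stalk x') :=
    Groth.Agent.H8.stalkModule _ hx'U'
  letI modBQ : Module Γ(X, U) (((Scheme.Modules.pullback g').obj F).presheaf.stalk x') :=
    Module.compHom _ (algebraMap Γ(X, U) Γ(X', g' ⁻¹ᵁ U ⊓ f' ⁻¹ᵁ W'))
  haveI : IsScalarTower Γ(X, U) Γ(X', g' ⁻¹ᵁ U ⊓ f' ⁻¹ᵁ W')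
      (((Scheme.Modules.pullback g').obj F).presheaf.stalk x') :=
    IsScalarTower.of_algebraMap_smul (fun r m => rfl)
  letI modA'Q : Module Γ(S', W') (((Scheme.Modules.pullback g').obj F).presheaf.stalk x') :=
    baseModuleStalk f' _ hs'W'
  haveI : IsScalarTower Γ(S', W') Γ(X', g' ⁻¹ᵁ U ⊓ f' ⁻¹ᵁ W')
      (((Scheme.Modules.pullback g').obj F).presheaf.stalk x') :=
    IsScalarTower.of_algebraMap_smul (fun r m => by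
      change (X'.presheaf.germ _ _ hx'U').hom ((f'.appLE W' _ e'').hom r) • m =
        (f'.stalkMap _).hom ((S'.presheaf.germ W' (f' _) hs'W').hom r) • m
      rw [stalkMap_germ_eq_germ_appLE f' e'' hx'U' r])
  haveI := Groth.Agent.H8.isLocalizedModule_germₗ ((Scheme.Modules.pullback g').obj F) hU' hx'U'
  let gQ : Γ(X', g' ⁻¹ᵁ U ⊓ f' ⁻¹ᵁ W') ⊗[Γ(X, U)] Γ(F, U) →ₗ[Γ(X', g' ⁻¹ᵁ U ⊓ f' ⁻¹ᵁ W')]
      ((Scheme.Modules.pullback g').obj F).presheaf.stalk x' :=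
    (Groth.Agent.H8.germₗ ((Scheme.Modules.pullback g').obj F) hx'U') ∘ₗ
      ((Groth.Agent.H44.pullbackSectionsEquiv g' F hU' hU e').symm :
        Γ(X', g' ⁻¹ᵁ U ⊓ f' ⁻¹ᵁ W') ⊗[Γ(X, U)] Γ(F, U) →ₗ[Γ(X', g' ⁻¹ᵁ U ⊓ f' ⁻¹ᵁ W')]
          Γ((Scheme.Modules.pullback g').obj F, g' ⁻¹ᵁ U ⊓ f' ⁻¹ᵁ W'))
  haveI : IsLocalizedModule (hU'.primeIdealOf ⟨x', hx'U'⟩).asIdeal.primeCompl gQ :=
    IsLocalizedModule.of_linearEquiv_right _ _ _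
  -- the multiplicative sets
  have hS : ∀ s ∈ (hU.primeIdealOf ⟨g' x', hxU⟩).asIdeal.primeCompl,
      algebraMap Γ(X, U) Γ(X', g' ⁻¹ᵁ U ⊓ f' ⁻¹ᵁ W') s ∈
        (hU'.primeIdealOf ⟨x', hx'U'⟩).asIdeal.primeCompl := by
    intro s hs
    rw [Ideal.mem_primeCompl_iff, Groth.Agent.H8.mem_primeIdealOf_iff, not_not] at hs ⊢
    have := stalkMap_germ_eq_germ_appLE g' e' hx'U' s
    change IsUnit ((X'.presheaf.germ _ x' hx'U').hom ((g'.appLE U _ e').hom s))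
    rw [← this]
    exact hs.map (g'.stalkMap x').hom
  exact Groth.Agent.H71.FlatOver.flat_baseChange_localized
    (A := Γ(S, W)) (A' := Γ(S', W')) (B := Γ(X, U)) (B' := Γ(X', g' ⁻¹ᵁ U ⊓ f' ⁻¹ᵁ W'))
    (hU.primeIdealOf ⟨g' x', hxU⟩).asIdeal.primeCompl
    (hU'.primeIdealOf ⟨x', hx'U'⟩).asIdeal.primeCompl hS
    (Groth.Agent.H8.germₗ F hxU) gQ

set_option maxHeartbeats 1600000 in
/-- flatness of a stalk map is stable under base change -/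
theorem flat_stalkMap_baseChange (hc : IsPullback g' f' f g) (x' : X')
    (hg : (g.stalkMap (f' x')).hom.Flat) : (g'.stalkMap x').hom.Flat := by
  obtain ⟨W, W', U, hW'W, hUW, hW, hW', hU, hxU, hs'W', hU', hpo⟩ := exists_affine_chart hc x'
  have hx'U' : x' ∈ g' ⁻¹ᵁ U ⊓ f' ⁻¹ᵁ W' := ⟨hxU, hs'W'⟩
  have e' : g' ⁻¹ᵁ U ⊓ f' ⁻¹ᵁ W' ≤ g' ⁻¹ᵁ U := inf_le_left
  have e'' : g' ⁻¹ᵁ U ⊓ f' ⁻¹ᵁ W' ≤ f' ⁻¹ᵁ W' := inf_le_right
  have hsW : g (f' x') ∈ W := hW'W hs'W'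
  -- rings
  letI algAB : Algebra Γ(S, W) Γ(X, U) := (f.appLE W U hUW).hom.toAlgebra
  letI algAA' : Algebra Γ(S, W) Γ(S', W') := (g.appLE W W' hW'W).hom.toAlgebra
  letI algA'B' : Algebra Γ(S', W') Γ(X', g' ⁻¹ᵁ U ⊓ f' ⁻¹ᵁ W') :=
    (f'.appLE W' _ e'').hom.toAlgebra
  letI algBB' : Algebra Γ(X, U) Γ(X', g' ⁻¹ᵁ U ⊓ f' ⁻¹ᵁ W') := (g'.appLE U _ e').hom.toAlgebra
  letI algAB' : Algebra Γ(S, W) Γ(X', g' ⁻¹ᵁ U ⊓ f' ⁻¹ᵁ W') :=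
    ((algebraMap Γ(X, U) Γ(X', g' ⁻¹ᵁ U ⊓ f' ⁻¹ᵁ W')).comp
      (algebraMap Γ(S, W) Γ(X, U))).toAlgebra
  haveI : IsScalarTower Γ(S, W) Γ(X, U) Γ(X', g' ⁻¹ᵁ U ⊓ f' ⁻¹ᵁ W') :=
    IsScalarTower.of_algebraMap_eq (fun _ => rfl)
  haveI : IsScalarTower Γ(S, W) Γ(S', W') Γ(X', g' ⁻¹ᵁ U ⊓ f' ⁻¹ᵁ W') :=
    IsScalarTower.of_algebraMap_eq (fun a => by
      have := congrArg (fun k => k.hom a) hpo.w
      exact this)
  haveI hpo' : Algebra.IsPushout Γ(S, W) Γ(X, U) Γ(S', W') Γ(X', g' ⁻¹ᵁ U ⊓ f' ⁻¹ᵁ W') :=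
    CommRingCat.isPushout_iff_isPushout.mp hpo
  -- the local rings
  letI algAAq : Algebra Γ(S, W) (S.presheaf.stalk (g (f' x'))) :=
    TopCat.Presheaf.algebra_section_stalk S.presheaf ⟨g (f' x'), hsW⟩
  letI algA'A'q : Algebra Γ(S', W') (S'.presheaf.stalk (f' x')) :=
    TopCat.Presheaf.algebra_section_stalk S'.presheaf ⟨f' x', hs'W'⟩
  letI algB'D : Algebra Γ(X', g' ⁻¹ᵁ U ⊓ f' ⁻¹ᵁ W') (X'.presheaf.stalk x') :=
    TopCat.Presheaf.algebra_section_stalk X'.presheaf ⟨x', hx'U'⟩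
  letI algBE : Algebra Γ(X, U) (X.presheaf.stalk (g' x')) :=
    TopCat.Presheaf.algebra_section_stalk X.presheaf ⟨g' x', hxU⟩
  letI algAqA'q : Algebra (S.presheaf.stalk (g (f' x'))) (S'.presheaf.stalk (f' x')) :=
    (g.stalkMap (f' x')).hom.toAlgebra
  letI algED : Algebra (X.presheaf.stalk (g' x')) (X'.presheaf.stalk x') :=
    (g'.stalkMap x').hom.toAlgebra
  haveI := hW.isLocalization_stalk ⟨g (f' x'), hsW⟩
  haveI := hW'.isLocalization_stalk ⟨f' x', hs'W'⟩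
  haveI := hU.isLocalization_stalk ⟨g' x', hxU⟩
  haveI := hU'.isLocalization_stalk ⟨x', hx'U'⟩
  -- `Mp = O_{S',s'}` as a module over `A'` and `A`
  letI modAMp : Module Γ(S, W) (S'.presheaf.stalk (f' x')) :=
    Module.compHom _ (algebraMap Γ(S, W) Γ(S', W'))
  haveI : IsScalarTower Γ(S, W) Γ(S', W') (S'.presheaf.stalk (f' x')) :=
    IsScalarTower.of_algebraMap_smul (fun r m => rfl)
  haveI : IsScalarTower Γ(S, W) (S.presheaf.stalk (g (f' x'))) (S'.presheaf.stalk (f' x')) :=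
    IsScalarTower.of_algebraMap_smul (fun r m => by
      change (g.stalkMap (f' x')).hom ((S.presheaf.germ W _ hsW).hom r) * m =
        (S'.presheaf.germ W' _ hs'W').hom ((g.appLE W W' hW'W).hom r) * m
      rw [stalkMap_germ_eq_germ_appLE g hW'W hs'W' r])
  haveI : Module.Flat Γ(S, W) (S.presheaf.stalk (g (f' x'))) :=
    IsLocalization.flat _ (hW.primeIdealOf ⟨g (f' x'), hsW⟩).asIdeal.primeCompl
  haveI : Module.Flat (S.presheaf.stalk (g (f' x'))) (S'.presheaf.stalk (f' x')) := hg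
  haveI : Module.Flat Γ(S, W) (S'.presheaf.stalk (f' x')) :=
    Module.Flat.trans Γ(S, W) (S.presheaf.stalk (g (f' x'))) (S'.presheaf.stalk (f' x'))
  -- `Q = O_{X',x'}` as a module over `B'`, `A'`, `B`
  letI modA'Q : Module Γ(S', W') (X'.presheaf.stalk x') :=
    Module.compHom _ (algebraMap Γ(S', W') Γ(X', g' ⁻¹ᵁ U ⊓ f' ⁻¹ᵁ W'))
  haveI : IsScalarTower Γ(S', W') Γ(X', g' ⁻¹ᵁ U ⊓ f' ⁻¹ᵁ W') (X'.presheaf.stalk x') :=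
    IsScalarTower.of_algebraMap_smul (fun r m => rfl)
  letI modBQ : Module Γ(X, U) (X'.presheaf.stalk x') :=
    Module.compHom _ (algebraMap Γ(X, U) Γ(X', g' ⁻¹ᵁ U ⊓ f' ⁻¹ᵁ W'))
  haveI : IsScalarTower Γ(X, U) Γ(X', g' ⁻¹ᵁ U ⊓ f' ⁻¹ᵁ W') (X'.presheaf.stalk x') :=
    IsScalarTower.of_algebraMap_smul (fun r m => rfl)
  let gQ : Γ(X', g' ⁻¹ᵁ U ⊓ f' ⁻¹ᵁ W') ⊗[Γ(S', W')] Γ(S', W') →ₗ[Γ(X', g' ⁻¹ᵁ U ⊓ f' ⁻¹ᵁ W')]
      X'.presheaf.stalk x' :=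
    (Algebra.linearMap Γ(X', g' ⁻¹ᵁ U ⊓ f' ⁻¹ᵁ W') (X'.presheaf.stalk x')) ∘ₗ
      ((TensorProduct.AlgebraTensorModule.rid Γ(S', W') Γ(X', g' ⁻¹ᵁ U ⊓ f' ⁻¹ᵁ W')
        Γ(X', g' ⁻¹ᵁ U ⊓ f' ⁻¹ᵁ W')) :
        Γ(X', g' ⁻¹ᵁ U ⊓ f' ⁻¹ᵁ W') ⊗[Γ(S', W')] Γ(S', W') →ₗ[Γ(X', g' ⁻¹ᵁ U ⊓ f' ⁻¹ᵁ W')]
          Γ(X', g' ⁻¹ᵁ U ⊓ f' ⁻¹ᵁ W'))
  haveI : IsLocalizedModule (hU'.primeIdealOf ⟨x', hx'U'⟩).asIdeal.primeCompl gQ :=
    IsLocalizedModule.of_linearEquiv_right _ _ _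
  have hS : ∀ s ∈ (hW'.primeIdealOf ⟨f' x', hs'W'⟩).asIdeal.primeCompl,
      algebraMap Γ(S', W') Γ(X', g' ⁻¹ᵁ U ⊓ f' ⁻¹ᵁ W') s ∈
        (hU'.primeIdealOf ⟨x', hx'U'⟩).asIdeal.primeCompl := by
    intro s hs
    rw [Ideal.mem_primeCompl_iff, Groth.Agent.H8.mem_primeIdealOf_iff, not_not] at hs ⊢
    have := stalkMap_germ_eq_germ_appLE f' e'' hx'U' s
    change IsUnit ((X'.presheaf.germ _ x' hx'U').hom ((f'.appLE W' _ e'').hom s))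
    rw [← this]
    exact hs.map (f'.stalkMap x').hom
  have hflatB : Module.Flat Γ(X, U) (X'.presheaf.stalk x') :=
    Groth.Agent.H71.FlatOver.flat_baseChange_localized
      (A := Γ(S, W)) (A' := Γ(X, U)) (B := Γ(S', W')) (B' := Γ(X', g' ⁻¹ᵁ U ⊓ f' ⁻¹ᵁ W'))
      (hW'.primeIdealOf ⟨f' x', hs'W'⟩).asIdeal.primeCompl
      (hU'.primeIdealOf ⟨x', hx'U'⟩).asIdeal.primeCompl hS
      (Algebra.linearMap Γ(S', W') (S'.presheaf.stalk (f' x'))) gQ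
  haveI : IsScalarTower Γ(X, U) (X.presheaf.stalk (g' x')) (X'.presheaf.stalk x') :=
    IsScalarTower.of_algebraMap_smul (fun r m => by
      change (g'.stalkMap x').hom ((X.presheaf.germ U _ hxU).hom r) * m =
        (X'.presheaf.germ _ _ hx'U').hom ((g'.appLE U _ e').hom r) * m
      rw [stalkMap_germ_eq_germ_appLE g' e' hx'U' r])
  exact (Module.flat_iff_of_isLocalization (X.presheaf.stalk (g' x'))
    (hU.primeIdealOf ⟨g' x', hxU⟩).asIdeal.primeCompl (X'.presheaf.stalk x')).2 hflatB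

end Groth.Agent.H71.QCoh
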