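/-
H71 helper library: splitting a coherent module along a decomposition of its support.

If `X` is locally Noetherian, `M` is coherent and `Supp M = Z ∪ Z'` with `Z`, `Z'` closed, then
`M` sits in a short exact sequence `0 ⟶ M' ⟶ M ⟶ M'' ⟶ 0` of coherent modules with
`Supp M' ⊆ Z'` and `Supp M'' ⊆ Z`: take `M' = ker (M ⟶ j_* (M|_W))` for `W = X \ Z'`.
-/
import Groth.Agent.H71.QCoh.SupportProper
import Groth.Agent.H8.QcqsPush

set_option autoImplicit false

open CategoryTheory Limits AlgebraicGeometry TopologicalSpace Opposite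

namespace Groth.Agent.H71.QCoh

universe u

variable {X : Scheme.{u}}

section SplitSupport

variable (M : X.Modules) (W : X.Opens)

/-- the unit `M ⟶ j_*(M|_W)` of the restriction adjunction for the open `W` -/
noncomputable abbrev unitOpen : M ⟶ (Scheme.Modules.pushforward W.ι).obj (M.restrict W.ι) :=
  (Scheme.Modules.restrictAdjunction W.ι).unit.app M

theorem unitOpen_app_injective_of_le (V : X.Opens) (hV : V ≤ W) :
    Function.Injective ((unitOpen M W).app V) := by
  have e : W.ι ''ᵁ W.ι ⁻¹ᵁ V = V := by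
    rw [Scheme.Hom.image_preimage_eq_opensRange_inf, Scheme.Opens.opensRange_ι]
    exact inf_eq_right.mpr hV
  have h1 : (unitOpen M W).app V = M.presheaf.map (homOfLE (W.ι.image_preimage_le V)).op :=
    Scheme.Modules.restrictAdjunction_unit_app_app W.ι M V
  rw [h1]
  have : homOfLE (W.ι.image_preimage_le V) = eqToHom e := Subsingleton.elim _ _
  rw [this]
  exact (ConcreteCategory.bijective_of_isIso (M.presheaf.map (eqToHom e).op)).1

/-- the kernel of `M ⟶ j_*(M|_W)` has zero stalks on `W` -/
theorem subsingleton_stalk_kernel_unitOpen {x : X} (hx : x ∈ W) :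
    Subsingleton ((kernel (unitOpen M W)).presheaf.stalk x) := by
  refine subsingleton_stalk_of_subsingleton_sections _ W (fun V hV => ?_) hx
  have hinj : Function.Injective ((kernel.ι (unitOpen M W)).app V) :=
    (Groth.Agent.H92.LocFreeRank.mono_iff_app_injective _).mp inferInstance V
  have h0 : ∀ t : Γ(kernel (unitOpen M W), V), t = 0 := by
    intro t
    apply hinj
    apply unitOpen_app_injective_of_le M W V hV
    have : (kernel.ι (unitOpen M W)).app V ≫ (unitOpen M W).app V = 0 := by
      rw [← Scheme.Modules.Hom.comp_app, kernel.condition]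
      rfl
    have h1 := congrArg (fun k => k.hom t) this
    simp only [map_zero]
    exact h1
  exact ⟨fun a b => (h0 a).trans (h0 b).symm⟩

open Groth.Agent.H92.LocFreeRank Groth.Agent.H18 in
/-- if all stalks of `M` vanish on `V ⊓ W`, the cokernel of `ker(M ⟶ j_*(M|_W)) ⟶ M` has zero
stalks on `V` -/
theorem subsingleton_stalk_cokernel_kernel_unitOpen [M.IsQuasicoherent]
    [(kernel (unitOpen M W)).IsQuasicoherent] (V : X.Opens)
    (hV : ∀ y ∈ V ⊓ W, Subsingleton (M.presheaf.stalk y)) {x : X} (hx : x ∈ V) :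
    Subsingleton ((cokernel (kernel.ι (unitOpen M W))).presheaf.stalk x) := by
  have hq : (cokernel (kernel.ι (unitOpen M W))).IsQuasicoherent :=
    Groth.Agent.H12.QCohAbelian.isQuasicoherent_cokernel _
  have h0 : ∀ c : (cokernel (kernel.ι (unitOpen M W))).presheaf.stalk x, c = 0 := by
    intro cx
    obtain ⟨V₀, hxV₀, c, rfl⟩ := TopCat.Presheaf.exists_germ_eq
      (cokernel (kernel.ι (unitOpen M W))).presheaf cx
    obtain ⟨V₁, hV₁, hxV₁, hle⟩ := Opens.isBasis_iff_nbhd.mp X.isBasis_affineOpens
      (show x ∈ V₀ ⊓ V from ⟨hxV₀, hx⟩)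
    have hle0 : V₁ ≤ V₀ := hle.trans inf_le_left
    have hleV : V₁ ≤ V := hle.trans inf_le_right
    obtain ⟨s, hs⟩ := app_surjective_of_epi (cokernel.π (kernel.ι (unitOpen M W))) hV₁
      (mres _ hle0 c)
    -- `η s = 0` since the target vanishes
    have hη : (unitOpen M W).app V₁ s = 0 := by
      haveI : Subsingleton Γ((Scheme.Modules.pushforward W.ι).obj (M.restrict W.ι), V₁) := by
        change Subsingleton Γ(M, W.ι ''ᵁ W.ι ⁻¹ᵁ V₁)
        refine subsingleton_sections_of_stalks M _ (fun y hy => hV y ?_)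
        have hy' : y ∈ V₁ ⊓ W := by
          have := Scheme.Hom.image_preimage_eq_opensRange_inf W.ι V₁
          rw [Scheme.Opens.opensRange_ι] at this
          rw [this] at hy
          exact ⟨hy.2, hy.1⟩
        exact ⟨hleV hy'.1, hy'.2⟩
      exact Subsingleton.elim _ _
    obtain ⟨t, ht⟩ := exists_app_kernel_ι_eq (unitOpen M W) V₁ s hη
    have h1 : mres _ hle0 c = 0 := by
      rw [← hs, ← ht]
      have : (kernel.ι (unitOpen M W)).app V₁ ≫
          (cokernel.π (kernel.ι (unitOpen M W))).app V₁ = 0 := by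
        rw [← Scheme.Modules.Hom.comp_app, cokernel.condition]
        rfl
      exact congrArg (fun k => k.hom t) this
    rw [← germ_mres x _ hle0 hxV₁ c, h1, map_zero]
  exact ⟨fun a b => (h0 a).trans (h0 b).symm⟩

end SplitSupport

/-- **Splitting the support.** On a locally Noetherian scheme, if the support of a coherent module
`M` is the union of closed sets `Z` and `Z'`, there is a short exact sequence
`0 → G' → M → G → 0` of coherent modules with `G'` supported in `Z'` and `G` supported in `Z`. -/
theorem exists_shortExact_split_support [IsLocallyNoetherian X] (M : X.Modules)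
    [M.IsQuasicoherent] [SheafOfModules.IsFiniteType (R := X.ringCatSheaf) M] (Z Z' : Set X)
    (hZ : IsClosed Z) (hZ' : IsClosed Z') (h : CohB1.support M = Z ∪ Z') :
    ∃ S : ShortComplex X.Modules, S.ShortExact ∧ Nonempty (S.X₂ ≅ M) ∧
      (S.X₁.IsQuasicoherent ∧ SheafOfModules.IsFiniteType (R := X.ringCatSheaf) S.X₁) ∧
      (S.X₃.IsQuasicoherent ∧ SheafOfModules.IsFiniteType (R := X.ringCatSheaf) S.X₃) ∧
      CohB1.support S.X₁ ⊆ Z' ∧ CohB1.support S.X₃ ⊆ Z := by
  let W : X.Opens := ⟨Z'ᶜ, hZ'.isOpen_compl⟩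
  let V : X.Opens := ⟨Zᶜ, hZ.isOpen_compl⟩
  haveI hR : (M.restrict W.ι).IsQuasicoherent := inferInstance
  haveI hP : ((Scheme.Modules.pushforward W.ι).obj (M.restrict W.ι)).IsQuasicoherent :=
    Groth.Agent.H8.isQuasicoherent_pushforward_of_qcqs W.ι _
  let η := unitOpen M W
  haveI hK : (kernel η).IsQuasicoherent := Groth.Agent.H12.QCohAbelian.isQuasicoherent_kernel η
  have hKf := isFiniteType_of_mono (kernel.ι η)
  have hC : (cokernel (kernel.ι η)).IsQuasicoherent :=
    Groth.Agent.H12.QCohAbelian.isQuasicoherent_cokernel _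
  have hCf := isFiniteType_of_epi (cokernel.π (kernel.ι η))
  let S : ShortComplex X.Modules :=
    ShortComplex.mk (kernel.ι η) (cokernel.π (kernel.ι η)) (cokernel.condition _)
  have hS : S.ShortExact :=
    { exact := ShortComplex.exact_of_g_is_cokernel S (cokernelIsCokernel _)
      mono_f := inferInstanceAs (Mono (kernel.ι η))
      epi_g := inferInstanceAs (Epi (cokernel.π (kernel.ι η))) }
  refine ⟨S, hS, ⟨Iso.refl _⟩, ⟨hK, hKf⟩, ⟨hC, hCf⟩, ?_, ?_⟩
  · intro x hx
    by_contra hxZ'
    exact hx (subsingleton_stalk_kernel_unitOpen M W (show x ∈ W from hxZ'))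
  · intro x hx
    by_contra hxZ
    refine hx (subsingleton_stalk_cokernel_kernel_unitOpen M W V (fun y hy => ?_)
      (show x ∈ V from hxZ))
    by_contra hne
    have hy' : y ∈ CohB1.support M := hne
    rw [h] at hy'
    rcases hy' with hy' | hy'
    · exact hy.1 hy'
    · exact hy.2 hy'

end Groth.Agent.H71.QCoh
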