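import Groth.Agent.H71.QCoh.FlatOver
import Groth.Agent.H8.PushQCoh

/-!
# Flatness over a base and affine pushforward

* `isFlatOver_comp_iff_pushforward` : for `f : X ⟶ Y` affine, `q : Y ⟶ S` and `F` quasi-coherent on `X`,
  `F` is flat over `S` along `f ≫ q` iff `f_*F` is flat over `S` along `q`.
-/
set_option autoImplicit false

open CategoryTheory Limits AlgebraicGeometry TopologicalSpace Opposite TensorProduct

namespace Groth.Agent.H71.QCoh

universe u

variable {X Y S : Scheme.{u}} (f : X ⟶ Y) (q : Y ⟶ S) (F : X.Modules)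

/-- the `Γ(S,V)`-module structures on `Γ(F, f⁻¹W) = Γ(f_*F, W)` coming from `f ≫ q` and `q`
agree -/
theorem pushforward_smul_eq {W : Y.Opens} {V : S.Opens} (e : W ≤ q ⁻¹ᵁ V)
    (e' : f ⁻¹ᵁ W ≤ (f ≫ q) ⁻¹ᵁ V) (a : Γ(S, V)) (m : Γ(F, f ⁻¹ᵁ W)) :
    (letI : Module Γ(S, V) Γ(F, f ⁻¹ᵁ W) :=
      Module.compHom _ ((f ≫ q).appLE V (f ⁻¹ᵁ W) e').hom
     a • m) =
    (letI : Module Γ(S, V) Γ((Scheme.Modules.pushforward f).obj F, W) :=
      Module.compHom _ (q.appLE V W e).hom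
     (a • (show Γ((Scheme.Modules.pushforward f).obj F, W) from m) :
        Γ((Scheme.Modules.pushforward f).obj F, W))) := by
  have h1 : (f ≫ q).appLE V (f ⁻¹ᵁ W) e' = q.appLE V W e ≫ f.app W := by
    rw [Scheme.Hom.app_eq_appLE, Scheme.Hom.appLE_comp_appLE]
  change ((f ≫ q).appLE V (f ⁻¹ᵁ W) e').hom a • m = _
  rw [h1]
  rfl

/-- flatness over `Γ(S,V)` of `Γ(F, f⁻¹W)` (via `f ≫ q`) and of `Γ(f_*F, W)` (via `q`) agree -/
theorem flat_pushforward_sections_iff {W : Y.Opens} {V : S.Opens} (e : W ≤ q ⁻¹ᵁ V)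
    (e' : f ⁻¹ᵁ W ≤ (f ≫ q) ⁻¹ᵁ V) :
    (letI : Module Γ(S, V) Γ(F, f ⁻¹ᵁ W) :=
      Module.compHom _ ((f ≫ q).appLE V (f ⁻¹ᵁ W) e').hom
     Module.Flat Γ(S, V) Γ(F, f ⁻¹ᵁ W)) ↔
    (letI : Module Γ(S, V) Γ((Scheme.Modules.pushforward f).obj F, W) :=
      Module.compHom _ (q.appLE V W e).hom
     Module.Flat Γ(S, V) Γ((Scheme.Modules.pushforward f).obj F, W)) := by
  letI m1 : Module Γ(S, V) Γ(F, f ⁻¹ᵁ W) :=
    Module.compHom _ ((f ≫ q).appLE V (f ⁻¹ᵁ W) e').hom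
  letI m2 : Module Γ(S, V) Γ((Scheme.Modules.pushforward f).obj F, W) :=
    Module.compHom _ (q.appLE V W e).hom
  let eqv : Γ(F, f ⁻¹ᵁ W) ≃ₗ[Γ(S, V)] Γ((Scheme.Modules.pushforward f).obj F, W) :=
    { toFun := fun m => m
      invFun := fun m => m
      map_add' := fun _ _ => rfl
      map_smul' := fun a m => pushforward_smul_eq f q F e e' a m
      left_inv := fun _ => rfl
      right_inv := fun _ => rfl }
  exact ⟨fun h => Module.Flat.of_linearEquiv eqv.symm, fun h => Module.Flat.of_linearEquiv eqv⟩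

theorem isFlatOver_comp_iff_pushforward [IsAffineHom f] [F.IsQuasicoherent] :
    FlatMod.IsFlatOver (f ≫ q) F ↔ FlatMod.IsFlatOver q ((Scheme.Modules.pushforward f).obj F) := by
  haveI : ((Scheme.Modules.pushforward f).obj F).IsQuasicoherent :=
    Groth.Agent.H8.isQuasicoherent_pushforward_of_isAffineHom f F
  constructor
  · intro h
    rw [isFlatOver_iff_flat_sections_base]
    intro W V hW hV e
    have e' : f ⁻¹ᵁ W ≤ (f ≫ q) ⁻¹ᵁ V := fun x hx => e hx
    rw [← flat_pushforward_sections_iff f q F e e']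
    exact flat_sections_base_of_isFlatOverAt (f ≫ q) F (hW.preimage f) hV e' (fun x _ => h x)
  · intro h x
    obtain ⟨W, V, hW, hV, hyW, e⟩ := exists_affine_pair q (f x)
    have e' : f ⁻¹ᵁ W ≤ (f ≫ q) ⁻¹ᵁ V := fun x hx => e hx
    refine isFlatOverAt_of_flat_sections_base (f ≫ q) F (hW.preimage f) hV e' ?_ hyW
    rw [flat_pushforward_sections_iff f q F e e']
    exact flat_sections_base_of_isFlatOverAt q _ hW hV e (fun y _ => h y)

end Groth.Agent.H71.QCoh
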