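import Groth.Agent.H71.QCoh.Thickening
import Groth.Agent.H71.QCoh.FlatOverPush
import Groth.Agent.H97.PushFaithful
import Groth.Agent.H44.PullbackFT

/-!
# Pushforward along a closed immersion: unit and counit on coherent modules

The unit and counit of `i^* ⊣ i_*` are shown to be isomorphisms without computing them, through the
"surjective endomorphism of a finite module is injective" trick applied to abstract isomorphisms of
sections over affine opens.

* `tensorSelfEquiv`, `tensorEquivOfKilled`, `bijective_of_surjective_of_equiv` : algebra.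
* `mono_of_app_injective_cover`.
* `counit_app_bijective`, `isIso_counit_app` : for a closed immersion `i` and `G` quasi-coherent of
  finite type on the source, `i^*i_*G ⟶ G` is an isomorphism.
* `isIso_unit_app_of_killed` : for `F` quasi-coherent of finite type killed by `ker i`,
  `F ⟶ i_*i^*F` is an isomorphism.
-/

set_option autoImplicit false

open CategoryTheory Limits AlgebraicGeometry TopologicalSpace Opposite TensorProduct

namespace Groth.Agent.H71.QCoh

universe u

section Alg

variable {A A₀ N : Type u} [CommRing A] [CommRing A₀] [Algebra A A₀] [AddCommGroup N]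
  [Module A N]

theorem exists_one_tmul_eq (hsurj : Function.Surjective (algebraMap A A₀)) (x : A₀ ⊗[A] N) :
    ∃ n : N, x = (1 : A₀) ⊗ₜ[A] n := by
  induction x using TensorProduct.induction_on with
  | zero => exact ⟨0, (tmul_zero _ _).symm⟩
  | tmul a₀ n =>
    obtain ⟨a, rfl⟩ := hsurj a₀
    refine ⟨a • n, ?_⟩
    rw [Algebra.algebraMap_eq_smul_one, smul_tmul]
  | add x y hx hy =>
    obtain ⟨n, rfl⟩ := hx
    obtain ⟨m, rfl⟩ := hy
    exact ⟨n + m, (tmul_add _ _ _).symm⟩

/-- for a surjection `A → A₀` and an `A₀`-module `N`, `A₀ ⊗[A] N ≃ N` -/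
noncomputable def tensorSelfEquiv [Module A₀ N] [IsScalarTower A A₀ N]
    (hsurj : Function.Surjective (algebraMap A A₀)) : A₀ ⊗[A] N ≃ₗ[A₀] N :=
  LinearEquiv.ofBijective (LinearMap.liftBaseChange A₀ (LinearMap.id : N →ₗ[A] N)) (by
    constructor
    · rw [← LinearMap.ker_eq_bot, eq_bot_iff]
      intro x hx
      obtain ⟨n, rfl⟩ := exists_one_tmul_eq hsurj x
      rw [LinearMap.mem_ker, LinearMap.liftBaseChange_one_tmul, LinearMap.id_apply] at hx
      rw [hx, tmul_zero]
      exact Submodule.zero_mem _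
    · intro n
      exact ⟨(1 : A₀) ⊗ₜ[A] n, by
        rw [LinearMap.liftBaseChange_one_tmul, LinearMap.id_apply]⟩)

/-- if `ker (A → A₀)` kills `N` then `A₀ ⊗[A] N ≃ N` (`A`-linearly) -/
noncomputable def tensorEquivOfKilled (hsurj : Function.Surjective (algebraMap A A₀))
    (hk : ∀ a ∈ RingHom.ker (algebraMap A A₀), ∀ n : N, a • n = 0) : A₀ ⊗[A] N ≃ₗ[A] N := by
  have hsurj' : Function.Surjective (Algebra.ofId A A₀) := hsurj
  let e1 : (A ⧸ RingHom.ker (Algebra.ofId A A₀)) ≃ₐ[A] A₀ :=
    Ideal.quotientKerAlgEquivOfSurjective hsurj'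
  let e2 : (A ⧸ RingHom.ker (Algebra.ofId A A₀)) ⊗[A] N ≃ₗ[A] A₀ ⊗[A] N :=
    TensorProduct.congr e1.toLinearEquiv (LinearEquiv.refl A N)
  let e3 := TensorProduct.quotTensorEquivQuotSMul N (RingHom.ker (Algebra.ofId A A₀))
  have hbot : RingHom.ker (Algebra.ofId A A₀) • (⊤ : Submodule A N) = ⊥ := by
    rw [eq_bot_iff, Submodule.smul_le]
    intro a ha n _
    rw [Submodule.mem_bot]
    exact hk a ha n
  exact e2.symm ≪≫ₗ e3 ≪≫ₗ Submodule.quotEquivOfEqBot _ hbot

/-- a surjective linear map from a finite module onto a module abstractly isomorphic to it is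
bijective -/
theorem bijective_of_surjective_of_equiv {R M M' : Type*} [CommRing R] [AddCommGroup M]
    [Module R M] [AddCommGroup M'] [Module R M'] [Module.Finite R M] (f : M →ₗ[R] M')
    (hf : Function.Surjective f) (e : M' ≃ₗ[R] M) : Function.Bijective f := by
  have h1 : Function.Surjective (e.toLinearMap.comp f) := e.surjective.comp hf
  have h2 : Function.Injective (e.toLinearMap.comp f) :=
    OrzechProperty.injective_of_surjective_endomorphism _ h1
  refine ⟨fun x y hxy => h2 ?_, hf⟩
  simp only [LinearMap.comp_apply, hxy]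

end Alg

variable {X : Scheme.{u}}

open Groth.Agent.H92.LocFreeRank in
/-- a morphism of quasi-coherent modules which is injective on sections over the members of an
affine open cover is a monomorphism -/
theorem mono_of_app_injective_cover {M N : X.Modules} [M.IsQuasicoherent] [N.IsQuasicoherent]
    (φ : M ⟶ N) {ι : Type*} (U : ι → X.Opens) (hU : ∀ x : X, ∃ i, x ∈ U i)
    (hUa : ∀ i, IsAffineOpen (U i)) (h : ∀ i, Function.Injective (φ.app (U i))) : Mono φ := by
  have hk : (kernel φ).IsQuasicoherent := Groth.Agent.H12.QCohAbelian.isQuasicoherent_kernel φ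
  have hz : IsZero (kernel φ) := by
    refine isZero_of_subsingleton_sections_cover _ U hU hUa (fun i => ?_)
    have hinj : Function.Injective ((kernel.ι φ).app (U i)) :=
      (mono_iff_app_injective (kernel.ι φ)).mp inferInstance (U i)
    have h0 : ∀ t : Γ(kernel φ, U i), t = 0 := by
      intro t
      apply hinj
      apply h i
      have : (kernel.ι φ).app (U i) ≫ φ.app (U i) = 0 := by
        rw [← Scheme.Modules.Hom.comp_app, kernel.condition]
        rfl
      have h1 := congrArg (fun k => k.hom t) this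
      simp only [map_zero]
      exact h1
    exact ⟨fun a b => (h0 a).trans (h0 b).symm⟩
  exact Preadditive.mono_of_isZero_kernel φ hz

section ClosedImm

variable {Z : Scheme.{u}} (i : Z ⟶ X) [IsClosedImmersion i]

instance pushforward_faithful_of_isClosedImmersion : (Scheme.Modules.pushforward i).Faithful :=
  Groth.Agent.H97.PushFaithful.pushforward_faithful i i.isClosedEmbedding.isInducing

/-- on sections over `i⁻¹V`, `V` affine, the counit `i^*i_*G ⟶ G` is bijective for `G`
quasi-coherent of finite type -/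
theorem counit_app_bijective (G : Z.Modules) [G.IsQuasicoherent]
    [SheafOfModules.IsFiniteType (R := Z.ringCatSheaf) G] {V : X.Opens} (hV : IsAffineOpen V) :
    Function.Bijective
      (((Scheme.Modules.pullbackPushforwardAdjunction i).counit.app G).app (i ⁻¹ᵁ V)) := by
  have hW : IsAffineOpen (i ⁻¹ᵁ V) := hV.preimage i
  haveI : ((Scheme.Modules.pushforward i).obj G).IsQuasicoherent :=
    Groth.Agent.H8.isQuasicoherent_pushforward_of_isAffineHom i G
  letI : Algebra Γ(X, V) Γ(Z, i ⁻¹ᵁ V) := (i.appLE V (i ⁻¹ᵁ V) le_rfl).hom.toAlgebra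
  have happ : i.appLE V (i ⁻¹ᵁ V) le_rfl = i.app V := (Scheme.Hom.app_eq_appLE i).symm
  have hsurj : Function.Surjective (algebraMap Γ(X, V) Γ(Z, i ⁻¹ᵁ V)) := by
    change Function.Surjective (i.appLE V (i ⁻¹ᵁ V) le_rfl).hom
    rw [happ]
    exact i.app_surjective V hV
  haveI := Groth.Agent.H44.finite_sections_of_isFiniteType G hW
  -- the `Γ(X,V)`-module structure on `Γ(G, i⁻¹V) = Γ(i_*G, V)`
  letI mA : Module Γ(X, V) Γ(G, i ⁻¹ᵁ V) :=
    (inferInstance : Module Γ(X, V) Γ((Scheme.Modules.pushforward i).obj G, V))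
  haveI : IsScalarTower Γ(X, V) Γ(Z, i ⁻¹ᵁ V) Γ(G, i ⁻¹ᵁ V) :=
    IsScalarTower.of_algebraMap_smul (fun r m => by
      change (i.appLE V (i ⁻¹ᵁ V) le_rfl).hom r • m = _
      rw [happ]
      rfl)
  let e1 := Groth.Agent.H44.pullbackSectionsEquiv i ((Scheme.Modules.pushforward i).obj G) hW hV
    le_rfl
  let e2 : Γ(Z, i ⁻¹ᵁ V) ⊗[Γ(X, V)] Γ(G, i ⁻¹ᵁ V) ≃ₗ[Γ(Z, i ⁻¹ᵁ V)] Γ(G, i ⁻¹ᵁ V) :=
    tensorSelfEquiv hsurj
  let ε : (Scheme.Modules.pullback i).obj ((Scheme.Modules.pushforward i).obj G) ⟶ G :=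
    (Scheme.Modules.pullbackPushforwardAdjunction i).counit.app G
  have hε : Function.Surjective (Groth.Agent.H92.LocFreeRank.appLin ε (i ⁻¹ᵁ V)) :=
    app_surjective_of_epi ε hW
  haveI : Module.Finite Γ(Z, i ⁻¹ᵁ V)
      Γ((Scheme.Modules.pullback i).obj ((Scheme.Modules.pushforward i).obj G), i ⁻¹ᵁ V) :=
    Module.Finite.equiv (e1 ≪≫ₗ e2).symm
  exact bijective_of_surjective_of_equiv (Groth.Agent.H92.LocFreeRank.appLin ε (i ⁻¹ᵁ V)) hε
    (e1 ≪≫ₗ e2).symm

/-- for a closed immersion `i`, the counit `i^*i_*G ⟶ G` is an isomorphism for `G` quasi-coherent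
of finite type -/
theorem isIso_counit_app (G : Z.Modules) [G.IsQuasicoherent]
    [SheafOfModules.IsFiniteType (R := Z.ringCatSheaf) G] :
    IsIso ((Scheme.Modules.pullbackPushforwardAdjunction i).counit.app G) := by
  haveI : ((Scheme.Modules.pushforward i).obj G).IsQuasicoherent :=
    Groth.Agent.H8.isQuasicoherent_pushforward_of_isAffineHom i G
  let ε : (Scheme.Modules.pullback i).obj ((Scheme.Modules.pushforward i).obj G) ⟶ G :=
    (Scheme.Modules.pullbackPushforwardAdjunction i).counit.app G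
  haveI hepi : Epi ε :=
    (Scheme.Modules.pullbackPushforwardAdjunction i).counit_epi_of_R_faithful G
  haveI hmono : Mono ε := by
    refine mono_of_app_injective_cover ε (fun V : X.affineOpens => i ⁻¹ᵁ V.1) (fun z => ?_)
      (fun V => V.2.preimage i) (fun V => (counit_app_bijective i G V.2).1)
    obtain ⟨V, hV, hzV, -⟩ := Opens.isBasis_iff_nbhd.mp X.isBasis_affineOpens
      (show i z ∈ (⊤ : X.Opens) from trivial)
    exact ⟨⟨V, hV⟩, hzV⟩
  exact isIso_of_mono_of_epi ε

open Groth.Agent.H92.LocFreeRank in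
/-- for a closed immersion `i` and `F` quasi-coherent of finite type killed by the kernel of `i`,
the unit `F ⟶ i_*i^*F` is an isomorphism -/
theorem isIso_unit_app_of_killed (F : X.Modules) [F.IsQuasicoherent]
    [SheafOfModules.IsFiniteType (R := X.ringCatSheaf) F]
    (hk : ∀ (V : X.affineOpens) (a : Γ(X, V.1)), a ∈ RingHom.ker (i.app V.1).hom →
      ∀ m : Γ(F, V.1), a • m = 0) :
    IsIso ((Scheme.Modules.pullbackPushforwardAdjunction i).unit.app F) := by
  let adj := Scheme.Modules.pullbackPushforwardAdjunction i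
  let G : Z.Modules := (Scheme.Modules.pullback i).obj F
  haveI hGq : G.IsQuasicoherent := inferInstance
  haveI hGf : SheafOfModules.IsFiniteType (R := Z.ringCatSheaf) G := inferInstance
  haveI hPq : ((Scheme.Modules.pushforward i).obj G).IsQuasicoherent :=
    Groth.Agent.H8.isQuasicoherent_pushforward_of_isAffineHom i G
  let η : F ⟶ (Scheme.Modules.pushforward i).obj G := adj.unit.app F
  -- `i^*η` is an isomorphism
  haveI hε : IsIso (adj.counit.app G) := isIso_counit_app i G
  have htri : (Scheme.Modules.pullback i).map η ≫ adj.counit.app G = 𝟙 _ :=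
    adj.left_triangle_components F
  haveI hiη : IsIso ((Scheme.Modules.pullback i).map η) := by
    haveI : IsIso ((Scheme.Modules.pullback i).map η ≫ adj.counit.app G) := by
      rw [htri]
      infer_instance
    exact IsIso.of_isIso_comp_right _ (adj.counit.app G)
  -- finiteness of sections of `i_*i^*F`
  have hfin : ∀ V : X.affineOpens, Module.Finite Γ(X, V.1)
      Γ((Scheme.Modules.pushforward i).obj G, V.1) := by
    intro V
    have hW : IsAffineOpen (i ⁻¹ᵁ V.1) := V.2.preimage i
    haveI := Groth.Agent.H44.finite_sections_of_isFiniteType G hW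
    letI : Algebra Γ(X, V.1) Γ(Z, i ⁻¹ᵁ V.1) := (i.app V.1).hom.toAlgebra
    letI mA : Module Γ(X, V.1) Γ(G, i ⁻¹ᵁ V.1) :=
      (inferInstance : Module Γ(X, V.1) Γ((Scheme.Modules.pushforward i).obj G, V.1))
    haveI : IsScalarTower Γ(X, V.1) Γ(Z, i ⁻¹ᵁ V.1) Γ(G, i ⁻¹ᵁ V.1) :=
      IsScalarTower.of_algebraMap_smul (fun r m => rfl)
    haveI : Module.Finite Γ(X, V.1) Γ(Z, i ⁻¹ᵁ V.1) :=
      Module.Finite.of_surjective (Algebra.linearMap Γ(X, V.1) Γ(Z, i ⁻¹ᵁ V.1))
        (i.app_surjective V.1 V.2)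
    have key : Module.Finite Γ(X, V.1) Γ(G, i ⁻¹ᵁ V.1) :=
      Module.Finite.trans Γ(Z, i ⁻¹ᵁ V.1) _
    exact key
  haveI hPf : SheafOfModules.IsFiniteType (R := X.ringCatSheaf)
      ((Scheme.Modules.pushforward i).obj G) := isFiniteType_of_finite_sections _ hfin
  -- the cokernel of `η` vanishes
  have hCq : (cokernel η).IsQuasicoherent :=
    Groth.Agent.H12.QCohAbelian.isQuasicoherent_cokernel η
  have hCf := isFiniteType_of_epi (cokernel.π η)
  have hCz : IsZero ((Scheme.Modules.pullback i).obj (cokernel η)) := by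
    haveI : PreservesColimitsOfSize.{0, 0} (Scheme.Modules.pullback i) :=
      adj.leftAdjoint_preservesColimits
    haveI : (Scheme.Modules.pullback i).Additive := adj.left_adjoint_additive
    refine IsZero.of_iso ?_ (PreservesCokernel.iso (Scheme.Modules.pullback i) η)
    exact isZero_cokernel_of_epi _
  have hC : IsZero (cokernel η) := by
    refine isZero_of_subsingleton_sections_affine _ (fun V => ?_)
    obtain ⟨a, ha, ha'⟩ := exists_smul_eq_zero_of_isZero_pullback i (cokernel η) hCz V.2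
    have hπ : Function.Surjective (appLin (cokernel.π η) V.1) :=
      app_surjective_of_epi (cokernel.π η) V.2
    have h0 : ∀ c : Γ(cokernel η, V.1), c = 0 := by
      intro c
      obtain ⟨s, rfl⟩ := hπ c
      have h1 : (a - 1) • s = 0 := by
        change (i.app V.1).hom (a - 1) • (show Γ(G, i ⁻¹ᵁ V.1) from s) = 0
        rw [RingHom.mem_ker.mp ha, zero_smul]
      have h2 : a • appLin (cokernel.π η) V.1 s = 0 := ha' _
      have h3 : (a - 1) • appLin (cokernel.π η) V.1 s = 0 := by
        rw [← map_smul, h1, map_zero]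
      have : appLin (cokernel.π η) V.1 s =
          a • appLin (cokernel.π η) V.1 s - (a - 1) • appLin (cokernel.π η) V.1 s := by
        rw [sub_smul, one_smul]
        abel
      rw [this, h2, h3, sub_zero]
    exact ⟨fun x y => (h0 x).trans (h0 y).symm⟩
  haveI hepi : Epi η := Preadditive.epi_of_isZero_cokernel η hC
  -- `η` is bijective on sections over affine opens
  have hbij : ∀ V : X.affineOpens, Function.Bijective (η.app V.1) := by
    intro V
    have hW : IsAffineOpen (i ⁻¹ᵁ V.1) := V.2.preimage i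
    haveI := Groth.Agent.H44.finite_sections_of_isFiniteType F V.2
    letI : Algebra Γ(X, V.1) Γ(Z, i ⁻¹ᵁ V.1) := (i.appLE V.1 (i ⁻¹ᵁ V.1) le_rfl).hom.toAlgebra
    have happ : i.appLE V.1 (i ⁻¹ᵁ V.1) le_rfl = i.app V.1 := (Scheme.Hom.app_eq_appLE i).symm
    have hsurj : Function.Surjective (algebraMap Γ(X, V.1) Γ(Z, i ⁻¹ᵁ V.1)) := by
      change Function.Surjective (i.appLE V.1 (i ⁻¹ᵁ V.1) le_rfl).hom
      rw [happ]
      exact i.app_surjective V.1 V.2
    letI mA : Module Γ(X, V.1) Γ(G, i ⁻¹ᵁ V.1) :=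
      (inferInstance : Module Γ(X, V.1) Γ((Scheme.Modules.pushforward i).obj G, V.1))
    haveI : IsScalarTower Γ(X, V.1) Γ(Z, i ⁻¹ᵁ V.1) Γ(G, i ⁻¹ᵁ V.1) :=
      IsScalarTower.of_algebraMap_smul (fun r m => by
        change (i.appLE V.1 (i ⁻¹ᵁ V.1) le_rfl).hom r • m = _
        rw [happ]
        rfl)
    let e1 : Γ(G, i ⁻¹ᵁ V.1) ≃ₗ[Γ(X, V.1)]
        Γ(Z, i ⁻¹ᵁ V.1) ⊗[Γ(X, V.1)] Γ(F, V.1) :=
      (Groth.Agent.H44.pullbackSectionsEquiv i F hW V.2 le_rfl).restrictScalars Γ(X, V.1)
    let e2 : Γ(Z, i ⁻¹ᵁ V.1) ⊗[Γ(X, V.1)] Γ(F, V.1) ≃ₗ[Γ(X, V.1)] Γ(F, V.1) :=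
      tensorEquivOfKilled hsurj (fun a ha m => by
        refine hk V a ?_ m
        change a ∈ RingHom.ker (i.appLE V.1 (i ⁻¹ᵁ V.1) le_rfl).hom at ha
        rwa [happ] at ha)
    exact bijective_of_surjective_of_equiv (appLin η V.1) (app_surjective_of_epi η V.2)
      (e1 ≪≫ₗ e2)
  haveI hmono : Mono η := by
    refine mono_of_app_injective_cover η (fun V : X.affineOpens => V.1) (fun x => ?_)
      (fun V => V.2) (fun V => (hbij V).1)
    obtain ⟨V, hV, hxV, -⟩ := Opens.isBasis_iff_nbhd.mp X.isBasis_affineOpens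
      (show x ∈ (⊤ : X.Opens) from trivial)
    exact ⟨⟨V, hV⟩, hxV⟩
  exact isIso_of_mono_of_epi η

end ClosedImm

end Groth.Agent.H71.QCoh
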