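import Groth.Agent.H71.QCoh.PushFT
import Groth.Agent.H71.QCoh.FPCriterion

set_option autoImplicit false

open CategoryTheory Limits AlgebraicGeometry TopologicalSpace Opposite TensorProduct

namespace Groth.Agent.H71.QCoh

universe u

section Alg

/-- a module over a module-finite `A`-algebra `B` which is finitely presented over `A` is finitely
presented over `B` -/
theorem finitePresentation_of_restrictScalars (A B M : Type*) [CommRing A] [CommRing B]
    [Algebra A B] [AddCommGroup M] [Module A M] [Module B M] [IsScalarTower A B M]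
    [Module.Finite A B] [Module.FinitePresentation A M] : Module.FinitePresentation B M := by
  haveI : Module.Finite A M := inferInstance
  haveI : Module.Finite B M := Module.Finite.of_restrictScalars_finite A B M
  obtain ⟨n, π, hπ⟩ := Module.Finite.exists_fin' B M
  haveI : Module.Finite A (Fin n → B) := Module.Finite.pi
  have hK : (LinearMap.ker (π.restrictScalars A)).FG :=
    Module.FinitePresentation.fg_ker (π.restrictScalars A) hπ
  have hK' : (LinearMap.ker π).FG := by
    apply Submodule.FG.of_restrictScalars A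
    rwa [← LinearMap.ker_restrictScalars]
  exact Module.finitePresentation_of_surjective π hπ hK'

end Alg

section Push

variable {X Y : Scheme.{u}} (f : X ⟶ Y) (F : X.Modules)

/-- sections of the pushforward are finitely presented over the base iff they are upstairs, when
the ring map is finite and of finite presentation -/
theorem finitePresentation_sections_pushforward_iff (V : Y.Opens) (hfin : (f.app V).hom.Finite)
    (hfp : (f.app V).hom.FinitePresentation) :
    Module.FinitePresentation Γ(Y, V) Γ((Scheme.Modules.pushforward f).obj F, V) ↔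
      Module.FinitePresentation Γ(X, f ⁻¹ᵁ V) Γ(F, f ⁻¹ᵁ V) := by
  letI : Algebra Γ(Y, V) Γ(X, f ⁻¹ᵁ V) := (f.app V).hom.toAlgebra
  letI : Module Γ(Y, V) Γ(F, f ⁻¹ᵁ V) :=
    (inferInstance : Module Γ(Y, V) Γ((Scheme.Modules.pushforward f).obj F, V))
  haveI : IsScalarTower Γ(Y, V) Γ(X, f ⁻¹ᵁ V) Γ(F, f ⁻¹ᵁ V) :=
    IsScalarTower.of_algebraMap_smul (fun r m => rfl)
  haveI : Module.Finite Γ(Y, V) Γ(X, f ⁻¹ᵁ V) := hfin
  haveI : Algebra.FinitePresentation Γ(Y, V) Γ(X, f ⁻¹ᵁ V) := hfp
  haveI : Module.FinitePresentation Γ(Y, V) Γ(X, f ⁻¹ᵁ V) :=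
    Module.FinitePresentation.of_finite_of_finitePresentation Γ(Y, V) Γ(X, f ⁻¹ᵁ V)
  constructor
  · intro h
    haveI : Module.FinitePresentation Γ(Y, V) Γ(F, f ⁻¹ᵁ V) := h
    exact finitePresentation_of_restrictScalars Γ(Y, V) Γ(X, f ⁻¹ᵁ V) Γ(F, f ⁻¹ᵁ V)
  · intro h
    exact Module.FinitePresentation.trans Γ(Y, V) Γ(F, f ⁻¹ᵁ V) Γ(X, f ⁻¹ᵁ V)

end Push

end Groth.Agent.H71.QCoh
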