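import Groth.Agent.H5.Stalk.Tensor
import Groth.Agent.H18.SectionHom
import Mathlib.RingTheory.PicardGroup
import Groth.Prelude.Def_Pic

/-
`L ⊗ N ≅ O_X` implies `L` is invertible (locally isomorphic to `O_X`).

Route: stalks.  `(L ⊗ N)_x ≅ L_x ⊗ N_x` (H5.Stalk.Tensor) gives a perfect pairing
`L_x ⊗ N_x ≃ O_{X,x}`; over a local ring some pure tensor pairs to a unit; spreading out
gives an open `U ∋ x`, sections `l, n` and `v` with `v * e(l ⊗ n) = 1` on `U`.  Then
`r ↦ r • l` is bijective on sections over every open inside `U` (checked on stalks via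
`Module.Invertible.rightInverse_of_leftInverse`), so `O_U ⟶ L|_U`, `1 ↦ l` is an isomorphism.
-/

set_option autoImplicit false
universe u
open CategoryTheory CategoryTheory.Limits AlgebraicGeometry TopologicalSpace Opposite TensorProduct

namespace Groth.Agent.H71.QCoh

open Groth.Agent.H5.Stalk Groth.Agent.H5.Stalk.Tensor
section UnitStalk

variable {X : Scheme.{u}} (x : X)

/-- `O_{X,x} → (O_X)_x` (stalk of the structure module), `r ↦ r • 1` -/
noncomputable def unitStalkMap :
    X.presheaf.stalk x →ₗ[X.presheaf.stalk x] ((stalkFunctor x).obj (Coh.structureModule X)) :=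
  LinearMap.toSpanSingleton _ _ (gm x (Coh.structureModule X) ⊤ trivial (1 : Γ(X, ⊤)))

theorem unitStalkMap_germ (V : X.Opens) (hx : x ∈ V) (w : Γ(X, V)) :
    unitStalkMap x (X.presheaf.germ V x hx w) = gm x (Coh.structureModule X) V hx w := by
  unfold unitStalkMap
  rw [LinearMap.toSpanSingleton_apply]
  have h1 : gm x (Coh.structureModule X) ⊤ trivial (1 : Γ(X, ⊤)) =
      gm x (Coh.structureModule X) V hx (1 : Γ(X, V)) := by
    rw [← gm_res x (Coh.structureModule X) (homOfLE (le_top : V ≤ ⊤)) hx (1 : Γ(X, ⊤))]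
    congr 1
    exact map_one (X.presheaf.map (homOfLE (le_top : V ≤ ⊤)).op).hom
  rw [h1]
  have h2 := gm_smul x (Coh.structureModule X) V hx w
    (show Γ(Coh.structureModule X, V) from (1 : Γ(X, V)))
  refine h2.symm.trans ?_
  congr 1
  exact mul_one w

theorem unitStalkMap_bijective : Function.Bijective (unitStalkMap x) := by
  constructor
  · rw [← LinearMap.ker_eq_bot, eq_bot_iff]
    intro r hr
    rw [LinearMap.mem_ker] at hr
    obtain ⟨V, hx, w, rfl⟩ := X.presheaf.exists_germ_eq r
    rw [unitStalkMap_germ] at hr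
    have h0 : gm x (Coh.structureModule X) V hx w =
        gm x (Coh.structureModule X) V hx (0 : Γ(Coh.structureModule X, V)) := by
      rw [hr, map_zero]
    obtain ⟨W, hxW, iU, iV, h⟩ := TopCat.Presheaf.germ_eq (Coh.structureModule X).presheaf x hx hx
      (show Γ(Coh.structureModule X, V) from w) (0 : Γ(Coh.structureModule X, V)) h0
    rw [map_zero] at h
    have h1 : X.presheaf.map iU.op w = 0 := h
    rw [Submodule.mem_bot, ← X.presheaf.germ_res_apply iU x hxW w, h1, map_zero]
  · intro a
    obtain ⟨V, hx, m, rfl⟩ := exists_gm_eq x (Coh.structureModule X) a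
    exact ⟨X.presheaf.germ V x hx (show Γ(X, V) from m), unitStalkMap_germ x V hx _⟩

/-- the stalk of the structure module is the local ring -/
noncomputable def unitStalkEquiv :
    ((stalkFunctor x).obj (Coh.structureModule X)) ≃ₗ[X.presheaf.stalk x] X.presheaf.stalk x :=
  (LinearEquiv.ofBijective (unitStalkMap x) (unitStalkMap_bijective x)).symm

theorem unitStalkEquiv_gm (V : X.Opens) (hx : x ∈ V) (w : Γ(X, V)) :
    unitStalkEquiv x (gm x (Coh.structureModule X) V hx w) = X.presheaf.germ V x hx w := by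
  unfold unitStalkEquiv
  rw [LinearEquiv.symm_apply_eq]
  exact (unitStalkMap_germ x V hx w).symm

end UnitStalk

section Pairing

variable {X : Scheme.{u}} {L N : X.Modules} (e : CohB1.tensorMod L N ≅ Coh.structureModule X)
  (x : X)

/-- the perfect pairing `L_x ⊗ N_x ≃ O_{X,x}` induced by `L ⊗ N ≅ O_X` -/
noncomputable def stalkPairing :
    (L.presheaf.stalk x) ⊗[X.presheaf.stalk x] (N.presheaf.stalk x) ≃ₗ[X.presheaf.stalk x]
      X.presheaf.stalk x :=
  ((stalkTensorIso x L N).symm ≪≫ (stalkFunctor x).mapIso e).toLinearEquiv ≪≫ₗ unitStalkEquiv x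

theorem stalkPairing_germ (V : X.Opens) (hx : x ∈ V) (s : Γ(L, V)) (t : Γ(N, V)) :
    stalkPairing e x (L.presheaf.germ V x hx s ⊗ₜ N.presheaf.germ V x hx t) =
      X.presheaf.germ V x hx (e.hom.app V (tm L N V s t)) := by
  change unitStalkEquiv x (((stalkFunctor x).map e.hom).hom
    ((β x L N).hom (gm x L V hx s ⊗ₜ gm x N V hx t))) = _
  rw [β_tmul, stalkFunctor_map_gm]
  exact unitStalkEquiv_gm x V hx _

/-- if `l ⊗ n` pairs to a unit at `x`, every element of `L_x` is a multiple of the germ of `l` -/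
theorem smul_germ_eq (V : X.Opens) (hx : x ∈ V) (l : Γ(L, V)) (n : Γ(N, V))
    (c : X.presheaf.stalk x)
    (hc : c * X.presheaf.germ V x hx (e.hom.app V (tm L N V l n)) = 1)
    (m : L.presheaf.stalk x) :
    (c * stalkPairing e x (m ⊗ₜ N.presheaf.germ V x hx n)) • L.presheaf.germ V x hx l = m := by
  haveI : Module.Invertible (X.presheaf.stalk x) (L.presheaf.stalk x) :=
    Module.Invertible.left (stalkPairing e x)
  let g : L.presheaf.stalk x →ₗ[X.presheaf.stalk x] X.presheaf.stalk x :=
    c • ((stalkPairing e x).toLinearMap ∘ₗ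
      (TensorProduct.mk (X.presheaf.stalk x) (L.presheaf.stalk x) (N.presheaf.stalk x)).flip
        (N.presheaf.germ V x hx n))
  let f : X.presheaf.stalk x →ₗ[X.presheaf.stalk x] L.presheaf.stalk x :=
    LinearMap.toSpanSingleton _ _ (L.presheaf.germ V x hx l)
  have hgf : Function.LeftInverse g f := by
    intro r
    change c * stalkPairing e x ((r • L.presheaf.germ V x hx l) ⊗ₜ N.presheaf.germ V x hx n) = r
    have h1 : (r • L.presheaf.germ V x hx l) ⊗ₜ[X.presheaf.stalk x] N.presheaf.germ V x hx n =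
        r • (L.presheaf.germ V x hx l ⊗ₜ[X.presheaf.stalk x] N.presheaf.germ V x hx n) :=
      (TensorProduct.smul_tmul' r _ _).symm
    rw [h1, map_smul, stalkPairing_germ, smul_eq_mul, mul_left_comm, hc, mul_one]
  exact Module.Invertible.rightInverse_of_leftInverse hgf m

end Pairing

section Sections

variable {X : Scheme.{u}} {L N : X.Modules} (e : CohB1.tensorMod L N ≅ Coh.structureModule X)

/-- sections of a module are determined by their germs -/
theorem modules_section_ext (F : X.Modules) {W : X.Opens} (s t : Γ(F, W))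
    (h : ∀ (z : X) (hz : z ∈ W), F.presheaf.germ W z hz s = F.presheaf.germ W z hz t) : s = t := by
  let Fs : TopCat.Sheaf AddCommGrpCat X.toTopCat := ⟨F.presheaf, F.isSheaf⟩
  exact TopCat.Presheaf.section_ext Fs W s t h

/-- if `l ⊗ n ↦ u` with `v * u = 1` over `W`, then `r ↦ r • l` is bijective `Γ(X,W) → Γ(L,W)` -/
theorem smul_section_bijective (W : X.Opens) (l : Γ(L, W)) (n : Γ(N, W)) (v : Γ(X, W))
    (hv : v * (show Γ(X, W) from e.hom.app W (tm L N W l n)) = 1) :
    Function.Bijective (fun r : Γ(X, W) => r • l) := by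
  have key : ∀ r : Γ(X, W), v * (show Γ(X, W) from e.hom.app W (tm L N W (r • l) n)) = r := by
    intro r
    have h1 : e.hom.app W (tm L N W (r • l) n) = r • e.hom.app W (tm L N W l n) := by
      rw [tm_smul_left]
      exact Scheme.Modules.Hom.app_smul _ _ _
    have h2 : (show Γ(X, W) from e.hom.app W (tm L N W (r • l) n)) =
        r * (show Γ(X, W) from e.hom.app W (tm L N W l n)) := h1
    rw [h2, mul_left_comm, hv, mul_one]
  constructor
  · intro r r' h
    have h' : r • l = r' • l := h
    rw [← key r, ← key r', h']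
  · intro t
    refine ⟨v * (show Γ(X, W) from e.hom.app W (tm L N W t n)), ?_⟩
    refine modules_section_ext L _ _ (fun z hz => ?_)
    change L.presheaf.germ W z hz
      ((v * (show Γ(X, W) from e.hom.app W (tm L N W t n))) • l) = _
    rw [Groth.Agent.H5.Stalk.germ_smul, map_mul, ← stalkPairing_germ e z W hz t n]
    refine smul_germ_eq e z W hz l n _ ?_ _
    have := congrArg (X.presheaf.germ W z hz) hv
    rw [map_mul, map_one] at this
    exact this

end Sections

section Local

variable {X : Scheme.{u}} {L N : X.Modules} (e : CohB1.tensorMod L N ≅ Coh.structureModule X)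

theorem modHom_app_res {M P : X.Modules} (φ : M ⟶ P) {U V : X.Opens} (i : U ⟶ V) (x : Γ(M, V)) :
    φ.app U (M.presheaf.map i.op x) = P.presheaf.map i.op (φ.app V x) := by
  have := congr($(φ.mapPresheaf.naturality i.op) x)
  exact this

theorem exists_isUnit_pairing_tmul (y : X) :
    ∃ (a : L.presheaf.stalk y) (b : N.presheaf.stalk y), IsUnit (stalkPairing e y (a ⊗ₜ b)) := by
  have key : ∀ t : (L.presheaf.stalk y) ⊗[X.presheaf.stalk y] (N.presheaf.stalk y),
      IsUnit (stalkPairing e y t) → ∃ (a : L.presheaf.stalk y) (b : N.presheaf.stalk y),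
        IsUnit (stalkPairing e y (a ⊗ₜ b)) := by
    intro t
    induction t using TensorProduct.induction_on with
    | zero => intro h; rw [map_zero] at h; exact absurd h not_isUnit_zero
    | tmul a b => intro h; exact ⟨a, b, h⟩
    | add t1 t2 h1 h2 =>
      intro h
      rw [map_add] at h
      rcases IsLocalRing.isUnit_or_isUnit_of_isUnit_add h with h | h
      · exact h1 h
      · exact h2 h
  exact key ((stalkPairing e y).symm 1) (by rw [LinearEquiv.apply_symm_apply]; exact isUnit_one)

theorem exists_sections_unit (y : X) :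
    ∃ (U : X.Opens) (_ : y ∈ U) (l : Γ(L, U)) (n : Γ(N, U)) (v : Γ(X, U)),
      v * (show Γ(X, U) from e.hom.app U (tm L N U l n)) = 1 := by
  obtain ⟨a, b, hab⟩ := exists_isUnit_pairing_tmul e y
  obtain ⟨V, hy, s, t, rfl, rfl⟩ := exists_reps y L N a b
  rw [stalkPairing_germ] at hab
  let w : Γ(X, V) := e.hom.app V (tm L N V s t)
  have hyU : y ∈ X.basicOpen w := (X.mem_basicOpen w y hy).mpr hab
  let i : X.basicOpen w ⟶ V := homOfLE (X.basicOpen_le w)
  have hres : (show Γ(X, X.basicOpen w) from e.hom.app (X.basicOpen w)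
      (tm L N (X.basicOpen w) (L.presheaf.map i.op s) (N.presheaf.map i.op t))) =
      X.presheaf.map i.op w := by
    rw [← tm_res]
    exact modHom_app_res e.hom i _
  have hu : IsUnit (X.presheaf.map i.op w) := RingedSpace.isUnit_res_basicOpen _ w
  obtain ⟨v, hv⟩ := hu.exists_left_inv
  exact ⟨X.basicOpen w, hyU, L.presheaf.map i.op s, N.presheaf.map i.op t, v, by rw [hres]; exact hv⟩

theorem isIso_sectionHom_of_bijective {Y : Scheme.{u}} (M : Y.Modules) (σ : Γ(M, (⊤ : Y.Opens)))
    (h : ∀ V : Y.Opens, Function.Bijective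
      (fun r : Γ(Y, V) => r • (Groth.Agent.H18.mres M (le_top : V ≤ ⊤) σ : Γ(M, V)))) :
    IsIso (Groth.Agent.H18.sectionHom M σ) := by
  rw [Scheme.Modules.Hom.isIso_iff_isIso_app]
  intro V
  rw [ConcreteCategory.isIso_iff_bijective]
  have h1 : ⇑(ConcreteCategory.hom ((Groth.Agent.H18.sectionHom M σ).app V)) =
      (fun r : Γ(Y, V) => r • (Groth.Agent.H18.mres M (le_top : V ≤ ⊤) σ : Γ(M, V))) :=
    funext (fun r => Groth.Agent.H18.sectionHom_app M σ V r)
  rw [h1]
  exact h V

theorem unit_res (U : X.Opens) (l : Γ(L, U)) (n : Γ(N, U)) (v : Γ(X, U))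
    (hv : v * (show Γ(X, U) from e.hom.app U (tm L N U l n)) = 1) {W : X.Opens} (i : W ⟶ U) :
    X.presheaf.map i.op v * (show Γ(X, W) from e.hom.app W
      (tm L N W (L.presheaf.map i.op l) (N.presheaf.map i.op n))) = 1 := by
  have h1 : e.hom.app W (tm L N W (L.presheaf.map i.op l) (N.presheaf.map i.op n)) =
      (Coh.structureModule X).presheaf.map i.op (e.hom.app U (tm L N U l n)) := by
    rw [← tm_res]
    exact modHom_app_res e.hom i _
  have h2 : (show Γ(X, W) from e.hom.app W
      (tm L N W (L.presheaf.map i.op l) (N.presheaf.map i.op n))) =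
      X.presheaf.map i.op (show Γ(X, U) from e.hom.app U (tm L N U l n)) := h1
  rw [h2, ← map_mul, hv, map_one]

theorem nonempty_restrict_iso (U : X.Opens) (l : Γ(L, U)) (n : Γ(N, U)) (v : Γ(X, U))
    (hv : v * (show Γ(X, U) from e.hom.app U (tm L N U l n)) = 1) :
    Nonempty (L.restrict U.ι ≅ Coh.structureModule (↑U : Scheme.{u})) := by
  have htop : U.ι ''ᵁ ⊤ = U := U.ι_image_top
  let σ : Γ(L.restrict U.ι, (⊤ : (↑U : Scheme.{u}).Opens)) :=
    L.presheaf.map (homOfLE (le_of_eq htop)).op l
  haveI : IsIso (Groth.Agent.H18.sectionHom (L.restrict U.ι) σ) := by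
    apply isIso_sectionHom_of_bijective
    intro W'
    have hW : U.ι ''ᵁ W' ≤ U := (U.ι.image_mono (le_top : W' ≤ ⊤)).trans htop.le
    let i : U.ι ''ᵁ W' ⟶ U := homOfLE hW
    have hb := smul_section_bijective e (U.ι ''ᵁ W') (L.presheaf.map i.op l)
      (N.presheaf.map i.op n) (X.presheaf.map i.op v) (unit_res e U l n v hv i)
    have hσ : (Groth.Agent.H18.mres (L.restrict U.ι) (le_top : W' ≤ ⊤) σ :
        Γ(L.restrict U.ι, W')) = L.presheaf.map i.op l := by
      have h1 : (Groth.Agent.H18.mres (L.restrict U.ι) (le_top : W' ≤ ⊤) σ :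
          Γ(L.restrict U.ι, W')) =
          L.presheaf.map (U.ι.opensFunctor.map (homOfLE (le_top : W' ≤ ⊤))).op
            (L.presheaf.map (homOfLE (le_of_eq htop)).op l) := rfl
      rw [h1, ← ConcreteCategory.comp_apply, ← Functor.map_comp]
      rfl
    rw [hσ]
    exact hb.comp (ConcreteCategory.bijective_of_isIso (U.ι.appIso W').inv)
  exact ⟨(asIso (Groth.Agent.H18.sectionHom (L.restrict U.ι) σ)).symm⟩


include e in
/-- if `L ⊗ N ≅ O_X` then `L` is invertible -/
theorem isInvertible_of_tensor_iso : PicF.IsInvertible L := by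
  intro y
  obtain ⟨U, hy, l, n, v, hv⟩ := exists_sections_unit e y
  exact ⟨U, hy, nonempty_restrict_iso e U l n v hv⟩

end Local

end Groth.Agent.H71.QCoh
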