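import Groth.Agent.H71.QCoh.FlatOver

/-!
# Flatness over the base for modules on affine schemes

* `flat_iff_of_bijective_algebraMap`, `isFlatOver_iff_flat_top` (morphism of affine schemes: flat over the base iff
  global sections flat over global functions of the base), `flat_top_tilde_iff`, `isFlatOver_tilde_iff`.
-/

set_option autoImplicit false

open CategoryTheory Limits AlgebraicGeometry TopologicalSpace Opposite TensorProduct

namespace Groth.Agent.H71.QCoh

universe u

/-- flatness is insensitive to restriction of scalars along a bijective algebra map -/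
theorem flat_iff_of_bijective_algebraMap {R R' N : Type*} [CommRing R] [CommRing R']
    [Algebra R R'] [AddCommGroup N] [Module R N] [Module R' N] [IsScalarTower R R' N]
    (h : Function.Bijective (algebraMap R R')) : Module.Flat R' N ↔ Module.Flat R N := by
  haveI : IsLocalization (⊥ : Submonoid R) R' :=
    IsLocalization.of_le_isUnit_of_bijective (by
      rw [Algebra.algebraMapSubmonoid, Submonoid.map_bot]
      exact bot_le) h
  exact Module.flat_iff_of_isLocalization R' (⊥ : Submonoid R) N

variable {X Y : Scheme.{u}} (f : X ⟶ Y) (F : X.Modules) [F.IsQuasicoherent]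

/-- for a morphism of affine schemes, flatness of `F` over the base is flatness of the global
sections over the global functions of the base -/
theorem isFlatOver_iff_flat_top (hX : IsAffineOpen (⊤ : X.Opens))
    (hY : IsAffineOpen (⊤ : Y.Opens)) :
    FlatMod.IsFlatOver f F ↔
      (letI : Module Γ(Y, ⊤) Γ(F, ⊤) := Module.compHom _ (f.appLE ⊤ ⊤ le_top).hom
       Module.Flat Γ(Y, ⊤) Γ(F, ⊤)) := by
  constructor
  · intro h
    exact flat_sections_base_of_isFlatOverAt f F hX hY le_top (fun x _ => h x)
  · intro h x
    exact isFlatOverAt_of_flat_sections_base f F hX hY le_top h (Set.mem_univ x)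

section Tilde

variable (A B : Type u) [CommRing A] [CommRing B] [Algebra A B]
  (M : Type u) [AddCommGroup M] [Module B M] [Module A M] [IsScalarTower A B M]

theorem appLE_top_top_eq_appTop {X Y : Scheme.{u}} (f : X ⟶ Y) :
    f.appLE ⊤ ⊤ le_top = f.appTop := by
  rw [Scheme.Hom.appTop, Scheme.Hom.app_eq_appLE]
  rfl

theorem flat_top_tilde_iff :
    (letI : Module Γ(Spec (CommRingCat.of A), ⊤) Γ(tilde (R := CommRingCat.of B) (ModuleCat.of B M), ⊤) :=
      Module.compHom _ ((Spec.map (CommRingCat.ofHom (algebraMap A B))).appLE ⊤ ⊤ le_top).hom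
     Module.Flat Γ(Spec (CommRingCat.of A), ⊤) Γ(tilde (R := CommRingCat.of B) (ModuleCat.of B M), ⊤)) ↔
      Module.Flat A M := by
  letI mY : Module Γ(Spec (CommRingCat.of A), ⊤) Γ(tilde (R := CommRingCat.of B) (ModuleCat.of B M), ⊤) :=
    Module.compHom _ ((Spec.map (CommRingCat.ofHom (algebraMap A B))).appLE ⊤ ⊤ le_top).hom
  letI : Algebra A Γ(Spec (CommRingCat.of A), ⊤) :=
    (Scheme.ΓSpecIso (CommRingCat.of A)).inv.hom.toAlgebra
  letI mA : Module A Γ(tilde (R := CommRingCat.of B) (ModuleCat.of B M), ⊤) :=
    Module.compHom _ (algebraMap A Γ(Spec (CommRingCat.of A), ⊤))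
  haveI : IsScalarTower A Γ(Spec (CommRingCat.of A), ⊤) Γ(tilde (R := CommRingCat.of B) (ModuleCat.of B M), ⊤) :=
    IsScalarTower.of_algebraMap_smul (fun r m => rfl)
  have hbij : Function.Bijective (algebraMap A Γ(Spec (CommRingCat.of A), ⊤)) :=
    ConcreteCategory.bijective_of_isIso (Scheme.ΓSpecIso (CommRingCat.of A)).inv
  rw [flat_iff_of_bijective_algebraMap (R := A) hbij]
  let e : M ≃ₗ[A] Γ(tilde (R := CommRingCat.of B) (ModuleCat.of B M), ⊤) :=
    { toFun := fun m => (tilde.isoTop (R := CommRingCat.of B) (ModuleCat.of B M)).hom.hom m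
      invFun := fun n => (tilde.isoTop (R := CommRingCat.of B) (ModuleCat.of B M)).inv.hom n
      map_add' := fun x y => map_add _ x y
      map_smul' := fun a m => by
        have h1 : a • m = (algebraMap A B a) • m := (algebraMap_smul B a m).symm
        rw [h1]
        have h2 := ((tilde.isoTop (R := CommRingCat.of B) (ModuleCat.of B M)).hom.hom).map_smul (algebraMap A B a) m
        refine h2.trans ?_
        have h3 := Scheme.ΓSpecIso_inv_naturality (CommRingCat.ofHom (algebraMap A B))
        have h4 := congrArg (fun k => k.hom a) h3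
        simp only [CommRingCat.hom_comp, RingHom.coe_comp, Function.comp_apply] at h4
        set n : Γ(tilde (R := CommRingCat.of B) (ModuleCat.of B M), ⊤) :=
          (tilde.isoTop (R := CommRingCat.of B) (ModuleCat.of B M)).hom.hom m with hn
        change (Scheme.ΓSpecIso (CommRingCat.of B)).inv.hom (algebraMap A B a) • n =
          ((Spec.map (CommRingCat.ofHom (algebraMap A B))).appLE ⊤ ⊤ le_top).hom
            ((Scheme.ΓSpecIso (CommRingCat.of A)).inv.hom a) • n
        rw [appLE_top_top_eq_appTop]
        exact congrArg (fun r => r • n) h4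
      left_inv := fun m => by
        change ((tilde.isoTop (R := CommRingCat.of B) (ModuleCat.of B M)).hom ≫ (tilde.isoTop (R := CommRingCat.of B) (ModuleCat.of B M)).inv).hom m = m
        rw [Iso.hom_inv_id]
        rfl
      right_inv := fun n => by
        change ((tilde.isoTop (R := CommRingCat.of B) (ModuleCat.of B M)).inv ≫ (tilde.isoTop (R := CommRingCat.of B) (ModuleCat.of B M)).hom).hom n = n
        rw [Iso.inv_hom_id]
        rfl }
  exact ⟨fun h => Module.Flat.of_linearEquiv e, fun h => Module.Flat.of_linearEquiv e.symm⟩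

theorem isFlatOver_tilde_iff :
    FlatMod.IsFlatOver (Spec.map (CommRingCat.ofHom (algebraMap A B))) (tilde (ModuleCat.of B M)) ↔
      Module.Flat A M := by
  rw [isFlatOver_iff_flat_top _ _ (isAffineOpen_top _) (isAffineOpen_top _)]
  exact flat_top_tilde_iff A B M

end Tilde

end Groth.Agent.H71.QCoh
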