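/-
H71 helper library: a copy of the first half of `H71/QCoh/TensorQCoh.lean` (tensor products of
quasi-coherent modules are quasi-coherent) with lighter imports: it avoids `H44.Retract`, whose
declaration `Groth.Agent.H44.hom_app_res` clashes with the one in `H44.PullUnit` (needed by `H71/CohBC`).
-/
import Groth.Agent.H5.Stalk.Tensor
import Groth.Agent.H5.PullbackTensor
import Groth.Agent.H8.QCohStalk
import Groth.Agent.H18.QCohCriterion
import Groth.Agent.H71.QCoh.UnitKilled
import Groth.Agent.H44.PullbackAffine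

set_option autoImplicit false
universe u
open CategoryTheory CategoryTheory.Limits AlgebraicGeometry TopologicalSpace Opposite TensorProduct

namespace Groth.Agent.H71.QCohLite

open Groth.Agent.H71.QCoh (app_bijective_of_isIso)

section Alg

variable {A : Type*} [CommRing A] (S : Submonoid A) (O : Type*) [CommRing O] [Algebra A O]
  [IsLocalization S O]
  {M N Q M' N' Q' : Type*} [AddCommGroup M] [AddCommGroup N] [AddCommGroup Q]
  [AddCommGroup M'] [AddCommGroup N'] [AddCommGroup Q']
  [Module A M] [Module A N] [Module A Q] [Module A M'] [Module A N'] [Module A Q']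
  [Module O M'] [Module O N'] [Module O Q']
  [IsScalarTower A O M'] [IsScalarTower A O N'] [IsScalarTower A O Q']

/-- the localization map `M ⊗[A] N → M' ⊗[O] N'` -/
noncomputable def tensorLocMap (gM : M →ₗ[A] M') (gN : N →ₗ[A] N') :
    M ⊗[A] N →ₗ[A] M' ⊗[O] N' :=
  ((IsLocalization.moduleTensorEquiv S O M' N').symm.restrictScalars A).toLinearMap ∘ₗ
    TensorProduct.map gM gN

theorem tensorLocMap_tmul (gM : M →ₗ[A] M') (gN : N →ₗ[A] N') (m : M) (n : N) :
    tensorLocMap S O gM gN (m ⊗ₜ n) = gM m ⊗ₜ[O] gN n := by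
  unfold tensorLocMap
  simp only [LinearMap.coe_comp, LinearEquiv.coe_coe, Function.comp_apply, map_tmul,
    LinearEquiv.restrictScalars_apply]
  rw [LinearEquiv.symm_apply_eq]
  rfl

instance isLocalizedModule_tensorLocMap (gM : M →ₗ[A] M') (gN : N →ₗ[A] N')
    [IsLocalizedModule S gM] [IsLocalizedModule S gN] :
    IsLocalizedModule S (tensorLocMap S O gM gN) := by
  unfold tensorLocMap
  exact IsLocalizedModule.of_linearEquiv S (TensorProduct.map gM gN) _

/-- a linear map between localizations compatible with the localization maps is bijective -/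
theorem bijective_of_tensorLoc (gM : M →ₗ[A] M') (gN : N →ₗ[A] N') (gQ : Q →ₗ[A] Q')
    [IsLocalizedModule S gM] [IsLocalizedModule S gN] [IsLocalizedModule S gQ]
    (u : M ⊗[A] N →ₗ[A] Q) (hu : Function.Bijective u)
    (h : Q' →ₗ[O] M' ⊗[O] N')
    (hh : ∀ m n, h (gQ (u (m ⊗ₜ n))) = gM m ⊗ₜ[O] gN n) : Function.Bijective h := by
  let ue : M ⊗[A] N ≃ₗ[A] Q := LinearEquiv.ofBijective u hu
  haveI : IsLocalizedModule S (gQ ∘ₗ ue.toLinearMap) :=
    IsLocalizedModule.of_linearEquiv_right S gQ ue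
  let e := IsLocalizedModule.linearEquiv S (gQ ∘ₗ ue.toLinearMap) (tensorLocMap S O gM gN)
  have he : h.restrictScalars A = e.toLinearMap := by
    apply IsLocalizedModule.linearMap_ext S (gQ ∘ₗ ue.toLinearMap) (tensorLocMap S O gM gN)
    apply TensorProduct.ext'
    intro m n
    simp only [LinearMap.coe_comp, LinearEquiv.coe_coe, Function.comp_apply,
      LinearMap.coe_restrictScalars]
    have h1 : e ((gQ ∘ₗ ue.toLinearMap) (m ⊗ₜ n)) = tensorLocMap S O gM gN (m ⊗ₜ n) :=
      IsLocalizedModule.linearEquiv_apply S _ _ _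
    rw [show gQ (ue (m ⊗ₜ n)) = (gQ ∘ₗ ue.toLinearMap) (m ⊗ₜ n) from rfl, h1, tensorLocMap_tmul]
    exact hh m n
  have : (h : Q' → M' ⊗[O] N') = e := by
    funext q
    exact congrArg (fun k => k q) he
  rw [this]
  exact e.bijective

end Alg

section Sections

variable {X : Scheme.{u}} (F G : X.Modules)

open Groth.Agent.H5.Stalk.Tensor in
/-- the canonical map `F(U) ⊗ G(U) → (F ⊗ G)(U)` -/
noncomputable def tensorSections (U : X.Opens) :
    Γ(F, U) ⊗[Γ(X, U)] Γ(G, U) →ₗ[Γ(X, U)] Γ(CohB1.tensorMod F G, U) :=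
  TensorProduct.lift (LinearMap.mk₂ Γ(X, U) (tm F G U) (tm_add_left F G U)
    (tm_smul_left F G U) (tm_add_right F G U) (tm_smul_right F G U))

open Groth.Agent.H5.Stalk.Tensor in
theorem tensorSections_tmul (U : X.Opens) (s : Γ(F, U)) (t : Γ(G, U)) :
    tensorSections F G U (s ⊗ₜ t) = tm F G U s t := rfl

end Sections

section Spec

variable {R : CommRingCat.{u}} (F G : (Spec R).Modules)

/-- `Γ(F) ⊗ Γ(G)` as an `R`-module -/
noncomputable def tensorΓ : ModuleCat.{u} R :=
  (ModuleCat.restrictScalars (Scheme.ΓSpecIso R).inv.hom).obj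
    (ModuleCat.of Γ(Spec R, ⊤) (Γ(F, ⊤) ⊗[Γ(Spec R, ⊤)] Γ(G, ⊤)))

set_option backward.isDefEq.respectTransparency false in
/-- `Γ(F) ⊗ Γ(G) ⟶ Γ(F ⊗ G)` as a morphism of `R`-modules -/
noncomputable def tensorΓHom : tensorΓ F G ⟶ moduleSpecΓFunctor.obj (CohB1.tensorMod F G) :=
  (ModuleCat.restrictScalars (Scheme.ΓSpecIso R).inv.hom).map
    (ModuleCat.ofHom (tensorSections F G ⊤))

/-- the comparison map `(Γ(F) ⊗ Γ(G))^~ ⟶ F ⊗ G` -/
noncomputable def tildeTensorMap : (tilde.functor R).obj (tensorΓ F G) ⟶ CohB1.tensorMod F G :=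
  (tilde.adjunction.homEquiv _ _).symm (tensorΓHom F G)

set_option backward.isDefEq.respectTransparency false in
theorem tildeTensorMap_app_unit (q : Γ(F, ⊤) ⊗[Γ(Spec R, ⊤)] Γ(G, ⊤)) :
    (tildeTensorMap F G).app ⊤ ((tilde.adjunction.unit.app (tensorΓ F G)).hom q) =
      tensorSections F G ⊤ q := by
  have h := (tilde.adjunction.homEquiv _ _).apply_symm_apply (tensorΓHom F G)
  rw [Adjunction.homEquiv_unit] at h
  exact congr($h q)

set_option backward.isDefEq.respectTransparency false in
/-- the unit `Γ(F) ⊗ Γ(G) → Γ((Γ(F) ⊗ Γ(G))^~)` as a `Γ(Spec R, ⊤)`-linear map -/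
noncomputable def unitTensorΓ :
    Γ(F, ⊤) ⊗[Γ(Spec R, ⊤)] Γ(G, ⊤) →ₗ[Γ(Spec R, ⊤)]
      Γ((tilde.functor R).obj (tensorΓ F G), ⊤) where
  toFun q := (tilde.adjunction.unit.app (tensorΓ F G)).hom q
  map_add' a b := map_add _ a b
  map_smul' a q := by
    have h1 : ∀ (r : R) (q' : tensorΓ F G),
        (tilde.adjunction.unit.app (tensorΓ F G)).hom (r • q') =
          r • (tilde.adjunction.unit.app (tensorΓ F G)).hom q' :=
      fun r q' => map_smul _ r q'
    have h2 : (Scheme.ΓSpecIso R).inv.hom ((Scheme.ΓSpecIso R).hom.hom a) = a := by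
      rw [← CommRingCat.comp_apply, Iso.hom_inv_id]
      rfl
    have h3 : (show Γ((tilde.functor R).obj (tensorΓ F G), ⊤) from
        (tilde.adjunction.unit.app (tensorΓ F G)).hom
          ((Scheme.ΓSpecIso R).inv.hom ((Scheme.ΓSpecIso R).hom.hom a) • q)) =
        (Scheme.ΓSpecIso R).inv.hom ((Scheme.ΓSpecIso R).hom.hom a) •
          (show Γ((tilde.functor R).obj (tensorΓ F G), ⊤) from
            (tilde.adjunction.unit.app (tensorΓ F G)).hom q) :=
      h1 ((Scheme.ΓSpecIso R).hom.hom a) q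
    rw [h2] at h3
    exact h3

theorem unitTensorΓ_bijective : Function.Bijective (unitTensorΓ F G) := by
  have : IsIso (tilde.adjunction.unit.app (tensorΓ F G)) := inferInstance
  exact (ConcreteCategory.bijective_of_isIso (tilde.adjunction.unit.app (tensorΓ F G)))

end Spec

section SpecStalk

variable {R : CommRingCat.{u}} (F G : (Spec R).Modules) [F.IsQuasicoherent] [G.IsQuasicoherent]

open Groth.Agent.H5.Stalk Groth.Agent.H5.Stalk.Tensor in
theorem isIso_stalkFunctor_map_tildeTensorMap (x : Spec R) :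
    IsIso ((stalkFunctor x).map (tildeTensorMap F G)) := by
  have hV : IsAffineOpen (⊤ : (Spec R).Opens) := isAffineOpen_top _
  have hx : x ∈ (⊤ : (Spec R).Opens) := trivial
  let Q : (Spec R).Modules := (tilde.functor R).obj (tensorΓ F G)
  haveI : Q.IsQuasicoherent := inferInstanceAs (tilde (tensorΓ F G)).IsQuasicoherent
  letI : Algebra Γ(Spec R, ⊤) ((Spec R).presheaf.stalk x) :=
    TopCat.Presheaf.algebra_section_stalk (Spec R).presheaf ⟨x, hx⟩
  haveI := hV.isLocalization_stalk ⟨x, hx⟩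
  letI mF := Groth.Agent.H8.stalkModule F hx
  letI mG := Groth.Agent.H8.stalkModule G hx
  letI mQ := Groth.Agent.H8.stalkModule Q hx
  haveI : IsScalarTower Γ(Spec R, ⊤) ((Spec R).presheaf.stalk x) (F.presheaf.stalk x) :=
    IsScalarTower.of_algebraMap_smul (fun r m => rfl)
  haveI : IsScalarTower Γ(Spec R, ⊤) ((Spec R).presheaf.stalk x) (G.presheaf.stalk x) :=
    IsScalarTower.of_algebraMap_smul (fun r m => rfl)
  haveI : IsScalarTower Γ(Spec R, ⊤) ((Spec R).presheaf.stalk x) (Q.presheaf.stalk x) :=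
    IsScalarTower.of_algebraMap_smul (fun r m => rfl)
  haveI := Groth.Agent.H8.isLocalizedModule_germₗ F hV hx
  haveI := Groth.Agent.H8.isLocalizedModule_germₗ G hV hx
  haveI := Groth.Agent.H8.isLocalizedModule_germₗ Q hV hx
  let h : Q.presheaf.stalk x →ₗ[(Spec R).presheaf.stalk x]
      (F.presheaf.stalk x) ⊗[(Spec R).presheaf.stalk x] (G.presheaf.stalk x) :=
    ((stalkFunctor x).map (tildeTensorMap F G) ≫ γ x F G).hom
  have hb : Function.Bijective h :=
    bijective_of_tensorLoc (hV.primeIdealOf ⟨x, hx⟩).asIdeal.primeCompl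
      ((Spec R).presheaf.stalk x) (Groth.Agent.H8.germₗ F hx) (Groth.Agent.H8.germₗ G hx)
      (Groth.Agent.H8.germₗ Q hx) (unitTensorΓ F G) (unitTensorΓ_bijective F G) h (fun m n => by
        change (γ x F G).hom (((stalkFunctor x).map (tildeTensorMap F G)).hom
          (Q.presheaf.germ ⊤ x hx (unitTensorΓ F G (m ⊗ₜ n)))) = _
        rw [stalkFunctor_map_germ]
        have h1 : (tildeTensorMap F G).app ⊤ (unitTensorΓ F G (m ⊗ₜ n)) = tm F G ⊤ m n :=
          tildeTensorMap_app_unit F G (m ⊗ₜ n)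
        rw [h1]
        exact γ_tm x F G ⊤ hx m n)
  have h1 : IsIso ((stalkFunctor x).map (tildeTensorMap F G) ≫ γ x F G) :=
    (ConcreteCategory.isIso_iff_bijective _).mpr hb
  have h2 : IsIso (γ x F G) := (stalkTensorIso x F G).isIso_hom
  exact IsIso.of_isIso_comp_right _ (γ x F G)

instance isIso_tildeTensorMap : IsIso (tildeTensorMap F G) :=
  Groth.Agent.H5.PullbackTensor.isIso_of_isIso_stalkFunctor_map _
    (fun x => isIso_stalkFunctor_map_tildeTensorMap F G x)

/-- on `Spec R`, the tensor product of quasi-coherent modules is `(Γ(F) ⊗ Γ(G))^~` -/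
noncomputable def tildeTensorIso : (tilde.functor R).obj (tensorΓ F G) ≅ CohB1.tensorMod F G :=
  asIso (tildeTensorMap F G)

theorem isQuasicoherent_tensorMod_Spec : (CohB1.tensorMod F G).IsQuasicoherent :=
  (SheafOfModules.isQuasicoherent (Spec R).ringCatSheaf).prop_of_iso (tildeTensorIso F G)
    (inferInstanceAs (tilde (tensorΓ F G)).IsQuasicoherent)

/-- on `Spec R`, global sections of `F ⊗ G` are `Γ(F) ⊗ Γ(G)` -/
theorem tensorSections_top_bijective_Spec : Function.Bijective (tensorSections F G ⊤) := by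
  have h1 : (tensorSections F G ⊤ : _ → _) =
      (tildeTensorMap F G).app ⊤ ∘ unitTensorΓ F G := by
    funext q
    exact (tildeTensorMap_app_unit F G q).symm
  rw [h1]
  exact (app_bijective_of_isIso (tildeTensorMap F G) ⊤).comp (unitTensorΓ_bijective F G)

end SpecStalk

section Global

variable {X : Scheme.{u}} (F G : X.Modules) [F.IsQuasicoherent] [G.IsQuasicoherent]

/-- the pullback of `F ⊗ G` to `Spec Γ(X, U)` is quasi-coherent -/
theorem isQuasicoherent_pullback_fromSpec_tensorMod {U : X.Opens} (hU : IsAffineOpen U) :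
    ((Scheme.Modules.pullback hU.fromSpec).obj (CohB1.tensorMod F G)).IsQuasicoherent := by
  have h1 : (CohB1.tensorMod ((Scheme.Modules.pullback hU.fromSpec).obj F)
      ((Scheme.Modules.pullback hU.fromSpec).obj G)).IsQuasicoherent :=
    isQuasicoherent_tensorMod_Spec _ _
  exact (SheafOfModules.isQuasicoherent (Spec Γ(X, U)).ringCatSheaf).prop_of_iso
    (Groth.Agent.H5.PullbackTensor.pullbackTensorIso hU.fromSpec F G).symm h1

/-- the tensor product of quasi-coherent modules is quasi-coherent -/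
instance isQuasicoherent_tensorMod : (CohB1.tensorMod F G).IsQuasicoherent := by
  refine Groth.Agent.H18.isQuasicoherent_of_isOpenCover _ (fun U : X.affineOpens => (U : X.Opens))
    (iSup_affineOpens_eq_top X) (fun U => ?_)
  obtain ⟨U, hU⟩ := U
  refine Groth.Agent.H18.isQuasicoherent_restrict_ι_of_fromSpec _ hU ?_
  have h1 := isQuasicoherent_pullback_fromSpec_tensorMod F G hU
  haveI : IsOpenImmersion hU.fromSpec := hU.isOpenImmersion_fromSpec
  exact (SheafOfModules.isQuasicoherent (Spec Γ(X, U)).ringCatSheaf).prop_of_iso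
    ((Scheme.Modules.restrictFunctorIsoPullback hU.fromSpec).app (CohB1.tensorMod F G)).symm h1

end Global

end Groth.Agent.H71.QCohLite
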