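import Groth.Agent.H71.QCoh.StalkPullback

/-!
# Flatness over a base and pullback along a flat morphism
-/

set_option autoImplicit false

open CategoryTheory Limits AlgebraicGeometry TopologicalSpace Opposite TensorProduct

namespace Groth.Agent.H71.QCoh

universe u

variable {X Y S : Scheme.{u}} (h : X ⟶ Y) (q : Y ⟶ S) (G : Y.Modules) [G.IsQuasicoherent]

set_option maxHeartbeats 800000 in
/-- if `h` is flat at `x`, then `G` is flat over `S` at `h x` iff `h^*G` is flat over `S` at `x` -/
theorem isFlatOverAt_pullback_iff (x : X) (hflat : (h.stalkMap x).hom.Flat) :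
    FlatMod.IsFlatOverAt q G (h x) ↔
      FlatMod.IsFlatOverAt (h ≫ q) ((Scheme.Modules.pullback h).obj G) x := by
  letI algRAq : Algebra (S.presheaf.stalk (q (h x))) (Y.presheaf.stalk (h x)) :=
    (q.stalkMap (h x)).hom.toAlgebra
  letI algAqBp : Algebra (Y.presheaf.stalk (h x)) (X.presheaf.stalk x) :=
    (h.stalkMap x).hom.toAlgebra
  letI algRBp : Algebra (S.presheaf.stalk (q (h x))) (X.presheaf.stalk x) :=
    ((h ≫ q).stalkMap x).hom.toAlgebra
  haveI : IsScalarTower (S.presheaf.stalk (q (h x))) (Y.presheaf.stalk (h x))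
      (X.presheaf.stalk x) :=
    IsScalarTower.of_algebraMap_eq (fun a => by
      change ((h ≫ q).stalkMap x).hom a = (h.stalkMap x).hom ((q.stalkMap (h x)).hom a)
      rw [Scheme.Hom.stalkMap_comp]
      rfl)
  letI modRNq : Module (S.presheaf.stalk (q (h x))) (G.presheaf.stalk (h x)) :=
    FlatMod.moduleStalkOver q G (h x)
  haveI : IsScalarTower (S.presheaf.stalk (q (h x))) (Y.presheaf.stalk (h x))
      (G.presheaf.stalk (h x)) :=
    IsScalarTower.of_algebraMap_smul (fun r m => rfl)
  letI modRQ : Module (S.presheaf.stalk (q (h x)))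
      (((Scheme.Modules.pullback h).obj G).presheaf.stalk x) :=
    FlatMod.moduleStalkOver (h ≫ q) ((Scheme.Modules.pullback h).obj G) x
  haveI : IsScalarTower (S.presheaf.stalk (q (h x))) (X.presheaf.stalk x)
      (((Scheme.Modules.pullback h).obj G).presheaf.stalk x) :=
    IsScalarTower.of_algebraMap_smul (fun r m => rfl)
  haveI : Module.Flat (Y.presheaf.stalk (h x)) (X.presheaf.stalk x) := hflat
  haveI : IsLocalHom (algebraMap (Y.presheaf.stalk (h x)) (X.presheaf.stalk x)) :=
    inferInstanceAs (IsLocalHom (h.stalkMap x).hom)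
  haveI : Module.FaithfullyFlat (Y.presheaf.stalk (h x)) (X.presheaf.stalk x) :=
    Module.FaithfullyFlat.of_flat_of_isLocalHom
  obtain ⟨e⟩ := exists_stalkPullbackEquiv h G x
  constructor
  · intro hG
    haveI : Module.Flat (S.presheaf.stalk (q (h x))) (G.presheaf.stalk (h x)) := hG
    have key : @Module.Flat (S.presheaf.stalk (q (h x)))
        (((Scheme.Modules.pullback h).obj G).presheaf.stalk x) _ _ modRQ :=
      Groth.Agent.H71.FlatOver.flat_of_equiv_baseChange e
    exact key
  · intro hQ
    haveI : @Module.Flat (S.presheaf.stalk (q (h x)))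
        (((Scheme.Modules.pullback h).obj G).presheaf.stalk x) _ _ modRQ := hQ
    have key : @Module.Flat (S.presheaf.stalk (q (h x))) (G.presheaf.stalk (h x)) _ _ modRNq :=
      Groth.Agent.H71.FlatOver.flat_of_equiv_baseChange_of_faithfullyFlat e
    exact key

omit [G.IsQuasicoherent] in
/-- transitivity: flat over `Y` at `x` and `q` flat at `h x` imply flat over `S` at `x` -/
theorem isFlatOverAt_comp (N : X.Modules) (x : X) (hN : FlatMod.IsFlatOverAt h N x)
    (hq : (q.stalkMap (h x)).hom.Flat) : FlatMod.IsFlatOverAt (h ≫ q) N x := by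
  letI algRAq : Algebra (S.presheaf.stalk (q (h x))) (Y.presheaf.stalk (h x)) :=
    (q.stalkMap (h x)).hom.toAlgebra
  letI modAqN : Module (Y.presheaf.stalk (h x)) (N.presheaf.stalk x) :=
    FlatMod.moduleStalkOver h N x
  letI modRN : Module (S.presheaf.stalk (q (h x))) (N.presheaf.stalk x) :=
    FlatMod.moduleStalkOver (h ≫ q) N x
  haveI : IsScalarTower (S.presheaf.stalk (q (h x))) (Y.presheaf.stalk (h x))
      (N.presheaf.stalk x) :=
    IsScalarTower.of_algebraMap_smul (fun r m => by
      change (h.stalkMap x).hom ((q.stalkMap (h x)).hom r) • m = ((h ≫ q).stalkMap x).hom r • m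
      rw [Scheme.Hom.stalkMap_comp]
      rfl)
  haveI : Module.Flat (S.presheaf.stalk (q (h x))) (Y.presheaf.stalk (h x)) := hq
  haveI : Module.Flat (Y.presheaf.stalk (h x)) (N.presheaf.stalk x) := hN
  have key : @Module.Flat (S.presheaf.stalk (q (h x))) (N.presheaf.stalk x) _ _ modRN :=
    Module.Flat.trans (S.presheaf.stalk (q (h x))) (Y.presheaf.stalk (h x)) (N.presheaf.stalk x)
  exact key

end Groth.Agent.H71.QCoh
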