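import Groth.Agent.H71.QCoh.Thickening

/-!
# Spreading out stalk properties of coherent modules

* `exists_smul_eq_zero_of_subsingleton_stalk`, `exists_opens_subsingleton_stalks_of_subsingleton_stalk`
  : a quasi-coherent module of finite type with zero stalk at `x` vanishes near `x`.
* `subsingleton_stalk_kernel_of_injective`, `subsingleton_stalk_cokernel_of_surjective`.
* `exists_opens_mono_restrict_of_injective`, `exists_opens_epi_restrict_of_surjective`,
  `exists_opens_isIso_restrict_of_bijective`.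
-/

set_option autoImplicit false

open CategoryTheory Limits AlgebraicGeometry TopologicalSpace Opposite

namespace Groth.Agent.H71.QCoh

universe u

variable {X : Scheme.{u}}

theorem exists_smul_eq_zero_of_subsingleton_stalk (C : X.Modules) [C.IsQuasicoherent]
    [SheafOfModules.IsFiniteType (R := X.ringCatSheaf) C] {V : X.Opens} (hV : IsAffineOpen V)
    {x : X} (hxV : x ∈ V) (h : Subsingleton (C.presheaf.stalk x)) :
    ∃ a : Γ(X, V), x ∈ X.basicOpen a ∧ ∀ s : Γ(C, V), a • s = 0 := by
  letI := Groth.Agent.H8.stalkModule C hxV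
  haveI := Groth.Agent.H8.isLocalizedModule_germₗ C hV hxV
  haveI := Groth.Agent.H44.finite_sections_of_isFiniteType C hV
  have h1 : hV.primeIdealOf ⟨x, hxV⟩ ∉ Module.support Γ(X, V) Γ(C, V) := by
    rw [Module.notMem_support_iff']
    intro m
    obtain ⟨r, hr, hrm⟩ := (IsLocalizedModule.subsingleton_iff
      (hV.primeIdealOf ⟨x, hxV⟩).asIdeal.primeCompl (Groth.Agent.H8.germₗ C hxV)).mp h m
    exact ⟨r, hr, hrm⟩
  rw [Module.mem_support_iff_of_finite, SetLike.not_le_iff_exists] at h1
  obtain ⟨a, ha, hap⟩ := h1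
  exact ⟨a, (Groth.Agent.H8.notMem_primeIdealOf_iff hV hxV a).mp hap,
    fun s => Module.mem_annihilator.mp ha s⟩

/-- a quasi-coherent module of finite type with vanishing stalk at `x` has vanishing stalks on an
open neighbourhood of `x` -/
theorem exists_opens_subsingleton_stalks_of_subsingleton_stalk (C : X.Modules)
    [C.IsQuasicoherent] [SheafOfModules.IsFiniteType (R := X.ringCatSheaf) C] (x : X)
    (h : Subsingleton (C.presheaf.stalk x)) :
    ∃ U : X.Opens, x ∈ U ∧ ∀ y ∈ U, Subsingleton (C.presheaf.stalk y) := by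
  obtain ⟨V, hV, hxV, -⟩ := Opens.isBasis_iff_nbhd.mp X.isBasis_affineOpens
    (show x ∈ (⊤ : X.Opens) from trivial)
  obtain ⟨a, hxa, ha⟩ := exists_smul_eq_zero_of_subsingleton_stalk C hV hxV h
  exact ⟨X.basicOpen a, hxa, fun y hy => subsingleton_stalk_of_smul_eq_zero C hV a ha hy⟩

section StalkMaps

variable {F G : X.Modules} (φ : G ⟶ F) (x : X)

open Groth.Agent.H18 Groth.Agent.H12.QCohExt

theorem stalkMap_germ (W : X.Opens) (hxW : x ∈ W) (s : Γ(G, W)) :
    ((TopCat.Presheaf.stalkFunctor _ x).map φ.mapPresheaf).hom (G.presheaf.germ W x hxW s) =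
      F.presheaf.germ W x hxW (φ.app W s) :=
  TopCat.Presheaf.stalkFunctor_map_germ_apply W x hxW φ.mapPresheaf s

theorem germ_mres (M : X.Modules) {W W' : X.Opens} (h : W' ≤ W) (hx : x ∈ W') (s : Γ(M, W)) :
    M.presheaf.germ W' x hx (mres M h s) = M.presheaf.germ W x (h hx) s :=
  TopCat.Presheaf.germ_res_apply M.presheaf (homOfLE h) x hx s

/-- if the stalk map of `φ` at `x` is injective then the kernel of `φ` has zero stalk at `x` -/
theorem subsingleton_stalk_kernel_of_injective
    (h : Function.Injective ((TopCat.Presheaf.stalkFunctor _ x).map φ.mapPresheaf).hom) :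
    Subsingleton ((kernel φ).presheaf.stalk x) := by
  have h0 : ∀ t : (kernel φ).presheaf.stalk x, t = 0 := by
    intro tx
    obtain ⟨W, hxW, t, rfl⟩ := TopCat.Presheaf.exists_germ_eq (kernel φ).presheaf tx
    have h1 : φ.app W ((kernel.ι φ).app W t) = 0 := by
      have : (kernel.ι φ).app W ≫ φ.app W = 0 := by
        rw [← Scheme.Modules.Hom.comp_app, kernel.condition]
        rfl
      exact congrArg (fun k => k.hom t) this
    have h2 : G.presheaf.germ W x hxW ((kernel.ι φ).app W t) = 0 := by
      apply h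
      rw [stalkMap_germ, h1, map_zero]
      exact (map_zero _).symm
    have h3 : G.presheaf.germ W x hxW ((kernel.ι φ).app W t) =
        G.presheaf.germ W x hxW (0 : Γ(G, W)) := by rw [h2, map_zero]
    obtain ⟨W', hxW', i1, i2, hres⟩ := TopCat.Presheaf.germ_eq G.presheaf x hxW hxW _ _ h3
    have hle : W' ≤ W := leOfHom i1
    have h4 : (kernel.ι φ).app W' (mres (kernel φ) hle t) = 0 := by
      rw [← app_mres]
      have : mres G hle ((kernel.ι φ).app W t) = G.presheaf.map i1.op ((kernel.ι φ).app W t) :=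
        rfl
      rw [this, hres, map_zero]
    have hinj : Function.Injective ((kernel.ι φ).app W') :=
      (Groth.Agent.H92.LocFreeRank.mono_iff_app_injective (kernel.ι φ)).mp inferInstance W'
    have h5 : mres (kernel φ) hle t = 0 := hinj (h4.trans (map_zero _).symm)
    rw [← germ_mres x (kernel φ) hle hxW' t, h5, map_zero]
  exact ⟨fun a b => (h0 a).trans (h0 b).symm⟩

/-- if the stalk map of `φ` at `x` is surjective then the cokernel of `φ` has zero stalk at
`x` -/
theorem subsingleton_stalk_cokernel_of_surjective [G.IsQuasicoherent] [F.IsQuasicoherent]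
    (h : Function.Surjective ((TopCat.Presheaf.stalkFunctor _ x).map φ.mapPresheaf).hom) :
    Subsingleton ((cokernel φ).presheaf.stalk x) := by
  have hq : (cokernel φ).IsQuasicoherent :=
    Groth.Agent.H12.QCohAbelian.isQuasicoherent_cokernel φ
  have h0 : ∀ c : (cokernel φ).presheaf.stalk x, c = 0 := by
    intro cx
    obtain ⟨W, hxW, c, rfl⟩ := TopCat.Presheaf.exists_germ_eq (cokernel φ).presheaf cx
    obtain ⟨W₁, hW₁, hxW₁, hW₁W⟩ := Opens.isBasis_iff_nbhd.mp X.isBasis_affineOpens hxW
    obtain ⟨s, hs⟩ := app_surjective_of_epi (cokernel.π φ) hW₁ (mres (cokernel φ) hW₁W c)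
    obtain ⟨gx, hgx⟩ := h (F.presheaf.germ W₁ x hxW₁ s)
    obtain ⟨W₂, hxW₂, g, rfl⟩ := TopCat.Presheaf.exists_germ_eq G.presheaf gx
    rw [stalkMap_germ] at hgx
    obtain ⟨W₃, hxW₃, i1, i2, hres⟩ := TopCat.Presheaf.germ_eq F.presheaf x hxW₂ hxW₁ _ _ hgx
    have hle2 : W₃ ≤ W₂ := leOfHom i1
    have hle1 : W₃ ≤ W₁ := leOfHom i2
    have hres' : mres F hle2 (φ.app W₂ g) = mres F hle1 s := hres
    have h1 : mres (cokernel φ) (hle1.trans hW₁W) c = 0 := by
      rw [← mres_mres (cokernel φ) hW₁W hle1, ← hs, app_mres, ← hres', app_mres]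
      have : φ.app W₃ ≫ (cokernel.π φ).app W₃ = 0 := by
        rw [← Scheme.Modules.Hom.comp_app, cokernel.condition]
        rfl
      exact congrArg (fun k => k.hom (mres G hle2 g)) this
    rw [← germ_mres x (cokernel φ) (hle1.trans hW₁W) hxW₃ c, h1, map_zero]
  exact ⟨fun a b => (h0 a).trans (h0 b).symm⟩

end StalkMaps

section Spread

variable {F G : X.Modules} [F.IsQuasicoherent] [G.IsQuasicoherent] (φ : G ⟶ F) (x : X)

theorem exists_opens_isZero_restrict_of_subsingleton_stalk
    [SheafOfModules.IsFiniteType (R := X.ringCatSheaf) F]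
    (h : Subsingleton (F.presheaf.stalk x)) :
    ∃ U : X.Opens, x ∈ U ∧ IsZero ((Scheme.Modules.restrictFunctor U.ι).obj F) := by
  obtain ⟨U, hxU, hU⟩ := exists_opens_subsingleton_stalks_of_subsingleton_stalk F x h
  exact ⟨U, hxU, isZero_restrict_of_subsingleton_stalks F U hU⟩

/-- stalks of the kernel vanish near `x` if the stalk map at `x` is injective (locally Noetherian,
source of finite type) -/
theorem exists_opens_subsingleton_stalks_kernel [IsLocallyNoetherian X]
    [SheafOfModules.IsFiniteType (R := X.ringCatSheaf) G]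
    (h : Function.Injective ((TopCat.Presheaf.stalkFunctor _ x).map φ.mapPresheaf).hom) :
    ∃ U : X.Opens, x ∈ U ∧ ∀ y ∈ U, Subsingleton ((kernel φ).presheaf.stalk y) := by
  have hk : (kernel φ).IsQuasicoherent := Groth.Agent.H12.QCohAbelian.isQuasicoherent_kernel φ
  have hft := isFiniteType_of_mono (kernel.ι φ)
  exact exists_opens_subsingleton_stalks_of_subsingleton_stalk (kernel φ) x
    (subsingleton_stalk_kernel_of_injective φ x h)

/-- stalks of the cokernel vanish near `x` if the stalk map at `x` is surjective (target of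
finite type) -/
theorem exists_opens_subsingleton_stalks_cokernel
    [SheafOfModules.IsFiniteType (R := X.ringCatSheaf) F]
    (h : Function.Surjective ((TopCat.Presheaf.stalkFunctor _ x).map φ.mapPresheaf).hom) :
    ∃ U : X.Opens, x ∈ U ∧ ∀ y ∈ U, Subsingleton ((cokernel φ).presheaf.stalk y) := by
  have hq : (cokernel φ).IsQuasicoherent :=
    Groth.Agent.H12.QCohAbelian.isQuasicoherent_cokernel φ
  have hft := isFiniteType_of_epi (cokernel.π φ)
  exact exists_opens_subsingleton_stalks_of_subsingleton_stalk (cokernel φ) x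
    (subsingleton_stalk_cokernel_of_surjective φ x h)

omit [F.IsQuasicoherent] [G.IsQuasicoherent] in
theorem mono_restrict_of_subsingleton_stalks_kernel (U : X.Opens)
    (hU : ∀ y ∈ U, Subsingleton ((kernel φ).presheaf.stalk y)) :
    Mono ((Scheme.Modules.restrictFunctor U.ι).map φ) :=
  mono_restrict_of_restrict_map_kernel_ι_eq_zero U φ
    ((isZero_restrict_of_subsingleton_stalks (kernel φ) U hU).eq_of_src _ _)

theorem exists_opens_mono_restrict_of_injective [IsLocallyNoetherian X]
    [SheafOfModules.IsFiniteType (R := X.ringCatSheaf) G]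
    (h : Function.Injective ((TopCat.Presheaf.stalkFunctor _ x).map φ.mapPresheaf).hom) :
    ∃ U : X.Opens, x ∈ U ∧ Mono ((Scheme.Modules.restrictFunctor U.ι).map φ) := by
  obtain ⟨U, hxU, hU⟩ := exists_opens_subsingleton_stalks_kernel φ x h
  exact ⟨U, hxU, mono_restrict_of_subsingleton_stalks_kernel φ U hU⟩

theorem exists_opens_epi_restrict_of_surjective
    [SheafOfModules.IsFiniteType (R := X.ringCatSheaf) F]
    (h : Function.Surjective ((TopCat.Presheaf.stalkFunctor _ x).map φ.mapPresheaf).hom) :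
    ∃ U : X.Opens, x ∈ U ∧ Epi ((Scheme.Modules.restrictFunctor U.ι).map φ) := by
  obtain ⟨U, hxU, hU⟩ := exists_opens_subsingleton_stalks_cokernel φ x h
  exact ⟨U, hxU, epi_restrict_of_isZero_restrict_cokernel U φ
    (isZero_restrict_of_subsingleton_stalks (cokernel φ) U hU)⟩

theorem exists_opens_isIso_restrict_of_bijective [IsLocallyNoetherian X]
    [SheafOfModules.IsFiniteType (R := X.ringCatSheaf) G]
    [SheafOfModules.IsFiniteType (R := X.ringCatSheaf) F]
    (h : Function.Bijective ((TopCat.Presheaf.stalkFunctor _ x).map φ.mapPresheaf).hom) :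
    ∃ U : X.Opens, x ∈ U ∧ IsIso ((Scheme.Modules.restrictFunctor U.ι).map φ) := by
  obtain ⟨U₁, hxU₁, hU₁⟩ := exists_opens_subsingleton_stalks_kernel φ x h.1
  obtain ⟨U₂, hxU₂, hU₂⟩ := exists_opens_subsingleton_stalks_cokernel φ x h.2
  refine ⟨U₁ ⊓ U₂, ⟨hxU₁, hxU₂⟩, ?_⟩
  haveI := mono_restrict_of_subsingleton_stalks_kernel φ (U₁ ⊓ U₂) (fun y hy => hU₁ y hy.1)
  haveI := epi_restrict_of_isZero_restrict_cokernel (U₁ ⊓ U₂) φ
    (isZero_restrict_of_subsingleton_stalks (cokernel φ) (U₁ ⊓ U₂) (fun y hy => hU₂ y hy.2))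
  exact isIso_of_mono_of_epi _

end Spread

end Groth.Agent.H71.QCoh
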