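/-
`isZero_iff_support_eq_empty`, `isZero_pullback_iff` (f^*C = 0 iff f misses Supp C, C qcoh f.t.),
`epi_pullback_map_iff`, `exists_open_epi_pullback` (the open locus where f^*v is an epimorphism).
-/
import Groth.Agent.S4357
import Groth.Agent.H5.Stalk.Acyclic
import Groth.Agent.H71.QCoh.ExactSections
import Groth.Agent.H71.QCoh.SupportProper
import Groth.Agent.H44.PullbackFT

set_option autoImplicit false
universe u
open CategoryTheory CategoryTheory.Limits AlgebraicGeometry TopologicalSpace Opposite

namespace Groth.Agent.H71.QCoh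

/-- a module is zero iff its support is empty -/
theorem isZero_iff_support_eq_empty {X : Scheme.{u}} (M : X.Modules) :
    IsZero M ↔ CohB1.support M = ∅ := by
  constructor
  · intro h
    rw [Set.eq_empty_iff_forall_notMem]
    intro x hx
    apply hx
    have h1 : IsZero ((Groth.Agent.H5.Stalk.stalkFunctor x).obj M) :=
      (Groth.Agent.H5.Stalk.stalkFunctor x).map_isZero h
    exact ModuleCat.subsingleton_of_isZero h1
  · intro h
    refine Groth.Agent.H5.Stalk.isZero_of_isZero_stalks M (fun x => ?_)
    have hx : x ∉ CohB1.support M := by rw [h]; exact Set.notMem_empty x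
    have h1 : Subsingleton (M.presheaf.stalk x) := not_not.mp hx
    exact @ModuleCat.isZero_of_subsingleton _ _ ((Groth.Agent.H5.Stalk.stalkFunctor x).obj M) h1

/-- the pullback of a quasi-coherent module of finite type vanishes iff the map misses its support -/
theorem isZero_pullback_iff {S T : Scheme.{u}} (f : T ⟶ S) (C : S.Modules) [C.IsQuasicoherent]
    [SheafOfModules.IsFiniteType (R := S.ringCatSheaf) C] :
    IsZero ((Scheme.Modules.pullback f).obj C) ↔ Set.range f.base ⊆ (CohB1.support C)ᶜ := by
  rw [isZero_iff_support_eq_empty, Groth.Agent.S4357.result f C inferInstance,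
    Set.eq_empty_iff_forall_notMem]
  constructor
  · rintro h _ ⟨t, rfl⟩
    exact h t
  · intro h t ht
    exact h ⟨t, rfl⟩ ht

theorem epi_pullback_map_iff {S T : Scheme.{u}} (f : T ⟶ S) {E F : S.Modules} (v : E ⟶ F) :
    Epi ((Scheme.Modules.pullback f).map v) ↔
      IsZero ((Scheme.Modules.pullback f).obj (cokernel v)) := by
  rw [(PreservesCokernel.iso (Scheme.Modules.pullback f) v).isZero_iff]
  constructor
  · intro h
    exact isZero_cokernel_of_epi _
  · intro h
    exact Preadditive.epi_of_isZero_cokernel _ h

/-- the open locus over which `v` becomes an epimorphism after pullback -/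
theorem exists_open_epi_pullback {S : Scheme.{u}} {E F : S.Modules} [E.IsQuasicoherent]
    [F.IsQuasicoherent] (hF : CohB1.IsFT F) (v : E ⟶ F) :
    ∃ U : S.Opens, ∀ (T : Scheme.{u}) (f : T ⟶ S),
      Set.range f.base ⊆ (U : Set S) ↔ Epi ((Scheme.Modules.pullback f).map v) := by
  haveI : SheafOfModules.IsFiniteType (R := S.ringCatSheaf) F := hF
  have hq := Groth.Agent.H12.QCohAbelian.isQuasicoherent_cokernel v
  have hft := @isFiniteType_of_epi _ _ _ _ hq _ (cokernel.π v) _
  have hcl := @isClosed_support _ _ hq hft
  refine ⟨⟨_, hcl.isOpen_compl⟩, fun T f => ?_⟩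
  exact (@isZero_pullback_iff _ _ f _ hq hft).symm.trans (epi_pullback_map_iff f v).symm

end Groth.Agent.H71.QCoh
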