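import Groth.Agent.H71.QCoh.ExactSections
import Groth.Prelude.Def_Coh

/-!
# ACC for quasi-coherent submodules of a coherent module on a Noetherian scheme
-/

set_option autoImplicit false

open CategoryTheory Limits AlgebraicGeometry TopologicalSpace Opposite

namespace Groth.Agent.H71.QCoh

universe u

variable {X : Scheme.{u}}

open Groth.Agent.H92.LocFreeRank in
theorem acc_subobject [IsNoetherian X] (M : X.Modules) [M.IsQuasicoherent]
    [SheafOfModules.IsFiniteType (R := X.ringCatSheaf) M] (F : ℕ →o Subobject M)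
    (hF : ∀ n, ((F n : Subobject M) : X.Modules).IsQuasicoherent) :
    ∃ n : ℕ, ∀ m : ℕ, n ≤ m → F m = F n := by
  classical
  -- a finite affine cover
  have hnhd : ∀ x : X, ∃ V : X.Opens, IsAffineOpen V ∧ x ∈ V := by
    intro x
    obtain ⟨_, ⟨V, hV, rfl⟩, hxV, -⟩ :=
      X.isBasis_affineOpens.exists_subset_of_mem_open (Set.mem_univ x) isOpen_univ
    exact ⟨V, hV, hxV⟩
  choose V hVa hxV using hnhd
  obtain ⟨t, ht⟩ := CompactSpace.elim_nhds_subcover (fun x => (V x : Set X))
    (fun x => (V x).2.mem_nhds (hxV x))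
  -- the section submodules
  let N : ∀ x : X, ℕ → Submodule Γ(X, V x) Γ(M, V x) :=
    fun x n => LinearMap.range (appLin (F n).arrow (V x))
  have hNmono : ∀ x, Monotone (N x) := by
    intro x n m hnm
    rintro _ ⟨a, rfl⟩
    refine ⟨appLin ((F n).ofLE (F m) (F.monotone hnm)) (V x) a, ?_⟩
    rw [← LinearMap.comp_apply, ← appLin_comp, Subobject.ofLE_arrow]
  have hstab : ∀ x : X, ∃ n, ∀ m, n ≤ m → N x n = N x m := by
    intro x
    haveI : IsNoetherianRing Γ(X, V x) :=
      IsLocallyNoetherian.component_noetherian ⟨V x, hVa x⟩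
    haveI := Groth.Agent.H44.finite_sections_of_isFiniteType M (hVa x)
    haveI : IsNoetherian Γ(X, V x) Γ(M, V x) := isNoetherian_of_isNoetherianRing_of_finite _ _
    exact monotone_stabilizes_iff_noetherian.mpr inferInstance ⟨N x, hNmono x⟩
  choose n₁ hn₁ using hstab
  refine ⟨t.sup n₁, fun m hm => ?_⟩
  have hle : F (t.sup n₁) ≤ F m := F.monotone hm
  haveI := hF (t.sup n₁)
  haveI := hF m
  let j := (F (t.sup n₁)).ofLE (F m) hle
  have hj : j ≫ (F m).arrow = (F (t.sup n₁)).arrow := Subobject.ofLE_arrow hle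
  haveI : Mono j := inferInstance
  have hiso : IsIso j := by
    refine isIso_of_mono_of_app_surjective_cover j (ι := ↥t) (fun i => V i.1) ?_
      (fun i => hVa i.1) ?_
    · intro x
      have : x ∈ ⋃ y ∈ t, (V y : Set X) := by rw [ht]; trivial
      simp only [Set.mem_iUnion] at this
      obtain ⟨y, hy, hxy⟩ := this
      exact ⟨⟨y, hy⟩, hxy⟩
    · rintro ⟨x, hx⟩ b
      have h1 : n₁ x ≤ t.sup n₁ := Finset.le_sup hx
      have hN : N x m = N x (t.sup n₁) := by
        rw [← hn₁ x m (h1.trans hm), ← hn₁ x _ h1]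
      have hb : appLin (F m).arrow (V x) b ∈ N x (t.sup n₁) := by
        rw [← hN]
        exact ⟨b, rfl⟩
      obtain ⟨a, ha⟩ := hb
      refine ⟨a, ?_⟩
      have hinj := Groth.Agent.H12.QCohAbelian.app_injective_of_mono (F m).arrow (V x)
      apply hinj
      have : appLin (j ≫ (F m).arrow) (V x) a = appLin (F m).arrow (V x) b := by
        rw [hj]; exact ha
      rw [appLin_comp] at this
      exact this
  apply le_antisymm
  · exact Subobject.le_of_comm (inv j) (by rw [IsIso.inv_comp_eq, hj])
  · exact hle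

end Groth.Agent.H71.QCoh
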