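import Groth.Agent.H71.QCoh.ClosedPush
import Groth.Agent.H71.QCoh.StalkLocal

/-!
# The annihilator ideal sheaf (scheme-theoretic support) of a quasi-coherent module of finite type

* `map_annihilator_basicOpen`, `annIdeal F : X.IdealSheafData`, `mem_support_iff_annihilator_le`,
  `support_annIdeal` (its support is `CohB1.support F`), `isIso_unit_app_annIdeal` (`F ≅ j_*j^*F`).
-/

set_option autoImplicit false

open CategoryTheory Limits AlgebraicGeometry TopologicalSpace Opposite TensorProduct

namespace Groth.Agent.H71.QCoh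

universe u

variable {X : Scheme.{u}} (F : X.Modules) [F.IsQuasicoherent]
  [SheafOfModules.IsFiniteType (R := X.ringCatSheaf) F]

/-- the annihilator of the sections of a quasi-coherent module of finite type localizes -/
theorem map_annihilator_basicOpen {U : X.Opens} (hU : IsAffineOpen U) (f : Γ(X, U)) :
    (Module.annihilator Γ(X, U) Γ(F, U)).map
        (X.presheaf.map (homOfLE <| X.basicOpen_le f).op).hom =
      Module.annihilator Γ(X, X.basicOpen f) Γ(F, X.basicOpen f) := by
  set ρ := (X.presheaf.map (homOfLE <| X.basicOpen_le f).op).hom with hρ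
  have hsm : ∀ (a : Γ(X, U)) (s : Γ(F, U)),
      F.presheaf.map (homOfLE <| X.basicOpen_le f).op (a • s) =
        ρ a • F.presheaf.map (homOfLE <| X.basicOpen_le f).op s :=
    fun a s => Scheme.Modules.map_smul F (homOfLE <| X.basicOpen_le f) a s
  have hunit : IsUnit (ρ f) := X.toRingedSpace.isUnit_res_basicOpen f
  apply le_antisymm
  · rw [Ideal.map_le_iff_le_comap]
    intro a ha
    rw [Ideal.mem_comap, Module.mem_annihilator]
    intro t
    obtain ⟨n, s, hs⟩ := Groth.Agent.H8.exists_res_eq_pow_smul F hU f t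
    have h1 : ρ a • (ρ f ^ n • t) = 0 := by
      change ρ a • ((X.presheaf.map (homOfLE (X.basicOpen_le f)).op).hom f ^ n • t) = 0
      rw [← hs, ← hsm, Module.mem_annihilator.mp ha s, map_zero]
    rw [smul_comm] at h1
    exact (hunit.pow n).smul_left_cancel.mp (h1.trans (smul_zero _).symm)
  · intro r' hr'
    haveI := hU.isLocalization_basicOpen f
    obtain ⟨⟨a, ⟨_, n, rfl⟩⟩, ha⟩ := IsLocalization.surj (Submonoid.powers f) r'
    -- ha : r' * algebraMap (f^n) = algebraMap a
    have ha' : r' * ρ (f ^ n) = ρ a := ha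
    haveI := Groth.Agent.H44.finite_sections_of_isFiniteType F hU
    obtain ⟨S, hS⟩ := (Module.Finite.fg_top : (⊤ : Submodule Γ(X, U) Γ(F, U)).FG)
    have hkill : ∀ m ∈ S, ∃ k : ℕ, f ^ k • (a • m) = 0 := by
      intro m _
      apply Groth.Agent.H8.exists_pow_smul_eq_zero_of_res_basicOpen_eq_zero F hU f (a • m)
      rw [hsm, ← ha', Module.mem_annihilator.mp (Ideal.mul_mem_right _ _ hr')]
    choose! k hk using hkill
    let K := S.sup k
    have hK : ∀ m ∈ S, f ^ K • (a • m) = 0 := by
      intro m hm
      have hle : k m ≤ K := Finset.le_sup hm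
      rw [← Nat.sub_add_cancel hle, pow_add, mul_smul, hk m hm, smul_zero]
    have hmem : f ^ K * a ∈ Module.annihilator Γ(X, U) Γ(F, U) := by
      rw [← Submodule.annihilator_top, ← hS, Submodule.mem_annihilator_span]
      intro m
      rw [mul_smul]
      exact hK m.1 m.2
    have hmap : ρ (f ^ K * a) ∈ (Module.annihilator Γ(X, U) Γ(F, U)).map ρ :=
      Ideal.mem_map_of_mem ρ hmem
    have hu : IsUnit (ρ (f ^ (K + n))) := by
      rw [map_pow]
      exact hunit.pow _
    have heq : r' * ρ (f ^ (K + n)) = ρ (f ^ K * a) := by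
      rw [pow_add, map_mul, map_mul, ← ha']
      ring
    obtain ⟨v, hv⟩ := hu
    have : r' = ρ (f ^ K * a) * (v⁻¹ : (Γ(X, X.basicOpen f))ˣ) := by
      rw [← heq, ← hv, mul_assoc, Units.mul_inv, mul_one]
    rw [this]
    exact Ideal.mul_mem_right _ _ hmap

/-- the annihilator ideal sheaf of a quasi-coherent module of finite type -/
noncomputable def annIdeal : X.IdealSheafData where
  ideal U := Module.annihilator Γ(X, U.1) Γ(F, U.1)
  map_ideal_basicOpen U f := map_annihilator_basicOpen F U.2 f

theorem mem_support_iff_annihilator_le {V : X.Opens} (hV : IsAffineOpen V) {x : X}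
    (hxV : x ∈ V) :
    x ∈ CohB1.support F ↔
      Module.annihilator Γ(X, V) Γ(F, V) ≤ (hV.primeIdealOf ⟨x, hxV⟩).asIdeal := by
  letI := Groth.Agent.H8.stalkModule F hxV
  haveI := Groth.Agent.H8.isLocalizedModule_germₗ F hV hxV
  haveI := Groth.Agent.H44.finite_sections_of_isFiniteType F hV
  rw [← Module.mem_support_iff_of_finite]
  change ¬ Subsingleton (F.presheaf.stalk x) ↔ _
  rw [← not_iff_not, not_not, Module.notMem_support_iff',
    IsLocalizedModule.subsingleton_iff (hV.primeIdealOf ⟨x, hxV⟩).asIdeal.primeCompl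
      (Groth.Agent.H8.germₗ F hxV)]
  constructor
  · intro h m
    obtain ⟨r, hr, hrm⟩ := h m
    exact ⟨r, hr, hrm⟩
  · intro h m
    obtain ⟨r, hr, hrm⟩ := h m
    exact ⟨r, hr, hrm⟩

theorem support_annIdeal : ((annIdeal F).support : Set X) = CohB1.support F := by
  ext x
  obtain ⟨V, hV, hxV, -⟩ := Opens.isBasis_iff_nbhd.mp X.isBasis_affineOpens
    (show x ∈ (⊤ : X.Opens) from trivial)
  rw [mem_support_iff_annihilator_le F hV hxV]
  change x ∈ (annIdeal F).support ↔ _
  rw [Scheme.IdealSheafData.mem_support_iff_of_mem (U := ⟨V, hV⟩) hxV, X.mem_zeroLocus_iff]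
  constructor
  · intro h g hg
    by_contra hgp
    exact h g hg ((Groth.Agent.H8.notMem_primeIdealOf_iff hV hxV g).mp hgp)
  · intro h g hg hxg
    exact (Groth.Agent.H8.notMem_primeIdealOf_iff hV hxV g).mpr hxg (h hg)

/-- a quasi-coherent module of finite type is the pushforward of its pullback to the closed
subscheme defined by its annihilator -/
theorem isIso_unit_app_annIdeal :
    IsIso ((Scheme.Modules.pullbackPushforwardAdjunction (annIdeal F).subschemeι).unit.app F) := by
  refine isIso_unit_app_of_killed (annIdeal F).subschemeι F (fun V a ha m => ?_)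
  rw [Scheme.IdealSheafData.ker_subschemeι_app] at ha
  exact Module.mem_annihilator.mp ha m

end Groth.Agent.H71.QCoh
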