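/-
Flat base change of annihilators: `annihilator_baseChange_of_flat` (algebra) and
`comap_annIdeal_eq` (for flat f, Ann(f^*F) = f⁻¹(Ann F)·O_Y).
-/
import Groth.Agent.H71.QCoh.AnnIdeal
import Mathlib.LinearAlgebra.TensorProduct.Pi
import Groth.Agent.H44.ComapAffine
import Groth.Agent.H44.PullbackFT
import Mathlib.RingTheory.Flat.Equalizer
import Mathlib.AlgebraicGeometry.Morphisms.Flat

set_option autoImplicit false
universe u
open CategoryTheory CategoryTheory.Limits AlgebraicGeometry TopologicalSpace Opposite TensorProduct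

namespace Groth.Agent.H71.QCoh

/-- flat base change of the annihilator of a finite module -/
theorem annihilator_baseChange_of_flat (A B : Type u) [CommRing A] [CommRing B] [Algebra A B]
    [Module.Flat A B] (M : Type u) [AddCommGroup M] [Module A M] [Module.Finite A M] :
    Module.annihilator B (B ⊗[A] M) = (Module.annihilator A M).map (algebraMap A B) := by
  apply le_antisymm
  · intro b hb
    obtain ⟨n, m, hm⟩ := Module.Finite.exists_fin (R := A) (M := M)
    let φ : A →ₗ[A] (Fin n → M) := LinearMap.pi (fun i => LinearMap.toSpanSingleton A M (m i))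
    have hker : ∀ a : A, a ∈ LinearMap.ker φ → a ∈ Module.annihilator A M := by
      intro a ha
      rw [Module.mem_annihilator]
      have ha' : ∀ i, a • m i = 0 := fun i => by
        have := congrFun (LinearMap.mem_ker.mp ha) i
        simpa [φ] using this
      intro x
      have hx : x ∈ Submodule.span A (Set.range m) := by rw [hm]; trivial
      induction hx using Submodule.span_induction with
      | mem y hy => obtain ⟨i, rfl⟩ := hy; exact ha' i
      | zero => simp
      | add y z _ _ hy hz => rw [smul_add, hy, hz, add_zero]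
      | smul c y _ hy => rw [smul_comm, hy, smul_zero]
    -- the element b ⊗ 1 is in the kernel of the base change of φ
    have h1 : (b ⊗ₜ[A] (1 : A)) ∈ LinearMap.ker (AlgebraTensorModule.lTensor B B φ) := by
      rw [LinearMap.mem_ker]
      change b ⊗ₜ[A] φ 1 = 0
      apply (TensorProduct.piRight A B B (fun _ : Fin n => M)).injective
      rw [map_zero]
      funext i
      rw [TensorProduct.piRight_apply, TensorProduct.piRightHom_tmul]
      change b ⊗ₜ[A] ((1 : A) • m i) = 0
      rw [one_smul]
      have := Module.mem_annihilator.mp hb ((1 : B) ⊗ₜ[A] m i)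
      rwa [TensorProduct.smul_tmul', smul_eq_mul, mul_one] at this
    rw [Module.Flat.ker_lTensor_eq] at h1
    obtain ⟨y, hy⟩ := h1
    -- multiplication map
    let μ : B ⊗[A] A →ₗ[B] B := (AlgebraTensorModule.rid A B B).toLinearMap
    have hμ : μ (b ⊗ₜ[A] (1 : A)) = b := by simp [μ]
    have key : ∀ y : B ⊗[A] (LinearMap.ker φ),
        μ (AlgebraTensorModule.lTensor B B (LinearMap.ker φ).subtype y) ∈
          (Module.annihilator A M).map (algebraMap A B) := by
      intro y
      induction y using TensorProduct.induction_on with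
      | zero => simp
      | tmul c k =>
        change μ (c ⊗ₜ[A] (k : A)) ∈ _
        have : μ (c ⊗ₜ[A] (k : A)) = algebraMap A B k * c := by
          simp [μ, Algebra.smul_def]
        rw [this]
        exact Ideal.mul_mem_right _ _ (Ideal.mem_map_of_mem _ (hker _ k.2))
      | add y z hy hz => rw [map_add, map_add]; exact Ideal.add_mem _ hy hz
    rw [← hμ, ← hy]
    exact key y
  · rw [Ideal.map_le_iff_le_comap]
    intro a ha
    rw [Ideal.mem_comap, Module.mem_annihilator]
    intro t
    induction t using TensorProduct.induction_on with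
    | zero => simp
    | tmul c x =>
      have h1 : algebraMap A B a • (c ⊗ₜ[A] x) = (a • c) ⊗ₜ[A] x := by
        rw [TensorProduct.smul_tmul', smul_eq_mul, Algebra.smul_def]
      rw [h1, TensorProduct.smul_tmul, Module.mem_annihilator.mp ha x, tmul_zero]
    | add y z hy hz => rw [smul_add, hy, hz, add_zero]

/-- for flat `f`, the annihilator ideal of `f^*F` is the inverse image of the annihilator ideal -/
theorem comap_annIdeal_eq {Y X : Scheme.{u}} (f : Y ⟶ X) [Flat f] (F : X.Modules)
    [F.IsQuasicoherent] [SheafOfModules.IsFiniteType (R := X.ringCatSheaf) F] :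
    (annIdeal F).comap f = annIdeal ((Scheme.Modules.pullback f).obj F) := by
  let ι := { p : Y.affineOpens × X.affineOpens // p.1.1 ≤ f ⁻¹ᵁ p.2.1 }
  refine Scheme.IdealSheafData.ext_of_iSup_eq_top (fun p : ι => p.1.1) ?_ ?_
  · rw [eq_top_iff]
    intro y _
    obtain ⟨_, ⟨V, hV, rfl⟩, hyV, -⟩ :=
      X.isBasis_affineOpens.exists_subset_of_mem_open (Set.mem_univ (f y)) isOpen_univ
    obtain ⟨_, ⟨U, hU, rfl⟩, hyU, hUV⟩ :=
      Y.isBasis_affineOpens.exists_subset_of_mem_open (show y ∈ (f ⁻¹ᵁ V : Set Y) from hyV)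
        (f ⁻¹ᵁ V).isOpen
    exact Opens.mem_iSup.mpr ⟨⟨(⟨U, hU⟩, ⟨V, hV⟩), hUV⟩, hyU⟩
  · rintro ⟨⟨U, V⟩, e⟩
    change ((annIdeal F).comap f).ideal U = _
    rw [Groth.Agent.H44.ideal_comap_of_le _ f U V e]
    change (Module.annihilator Γ(X, V.1) Γ(F, V.1)).map (f.appLE V.1 U.1 e).hom =
      Module.annihilator Γ(Y, U.1) Γ((Scheme.Modules.pullback f).obj F, U.1)
    letI := (f.appLE V.1 U.1 e).hom.toAlgebra
    haveI : Module.Flat Γ(X, V.1) Γ(Y, U.1) := Flat.flat_appLE f V.2 U.2 e
    haveI : Module.Finite Γ(X, V.1) Γ(F, V.1) :=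
      Groth.Agent.H44.finite_sections_of_isFiniteType F V.2
    have h1 := annihilator_baseChange_of_flat Γ(X, V.1) Γ(Y, U.1) Γ(F, V.1)
    rw [LinearEquiv.annihilator_eq (Groth.Agent.H44.pullbackSectionsEquiv f F U.2 V.2 e), h1]
    rfl

end Groth.Agent.H71.QCoh
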