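/-
Ideals of definition killing a finite-type quasi-coherent module:
`le_annIdeal_iff`, `support_subset_of_le_annIdeal`, `exists_pow_le_annIdeal` (quasi-compact X, f.g. ideal
with zero locus containing Supp F has a power killing F), `support_subset_iff_exists_ideal`.
-/
import Groth.Agent.H71.QCoh.AnnIdeal

set_option autoImplicit false
universe u
open CategoryTheory CategoryTheory.Limits AlgebraicGeometry TopologicalSpace Opposite

namespace Groth.Agent.H71.QCoh

variable {X : Scheme.{u}} (F : X.Modules) [F.IsQuasicoherent]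
  [SheafOfModules.IsFiniteType (R := X.ringCatSheaf) F]

/-- an ideal sheaf killing `F` is contained in the annihilator ideal -/
theorem le_annIdeal_iff (I : X.IdealSheafData) :
    I ≤ annIdeal F ↔ ∀ (V : X.affineOpens) (a : Γ(X, V)), a ∈ I.ideal V →
      ∀ m : Γ(F, V.1), a • m = 0 := by
  constructor
  · intro h V a ha m
    exact Module.mem_annihilator.mp (h V ha) m
  · intro h V a ha
    exact Module.mem_annihilator.mpr (h V a ha)

theorem support_subset_of_le_annIdeal (I : X.IdealSheafData) (h : I ≤ annIdeal F) :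
    CohB1.support F ⊆ (I.support : Set X) := by
  rw [← support_annIdeal F]
  exact Scheme.IdealSheafData.support_antitone h

/-- on a quasi-compact scheme, a finite-type ideal whose zero locus contains `Supp F` has a power
killing `F` -/
theorem exists_pow_le_annIdeal [CompactSpace X] (I₀ : X.IdealSheafData)
    (hI₀ : ∀ V : X.affineOpens, (I₀.ideal V).FG)
    (hs : CohB1.support F ⊆ (I₀.support : Set X)) :
    ∃ n : ℕ, I₀ ^ (n + 1) ≤ annIdeal F := by
  have h1 : I₀ ≤ (annIdeal F).radical := by
    rw [← Scheme.IdealSheafData.vanishingIdeal_support,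
      ← Scheme.IdealSheafData.le_support_iff_le_vanishingIdeal]
    intro x hx
    apply hs
    rw [← support_annIdeal F]
    exact hx
  have h2 : ∀ V : X.affineOpens, ∃ n : ℕ, (I₀.ideal V) ^ n ≤ (annIdeal F).ideal V := fun V =>
    Ideal.exists_pow_le_of_le_radical_of_fg (h1 V) (hI₀ V)
  choose n hn using h2
  -- finite affine cover
  obtain ⟨t, ht⟩ := isCompact_univ.elim_finite_subcover (fun V : X.affineOpens => (V.1 : Set X))
    (fun V => V.1.isOpen) (by
      intro x _
      obtain ⟨_, ⟨U, hU, rfl⟩, hxU, -⟩ :=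
        X.isBasis_affineOpens.exists_subset_of_mem_open (Set.mem_univ x) isOpen_univ
      exact Set.mem_iUnion.mpr ⟨⟨U, hU⟩, hxU⟩)
  refine ⟨t.sup n, ?_⟩
  refine Scheme.IdealSheafData.le_of_iSup_eq_top (fun V : t => V.1) ?_ (fun V => ?_)
  · rw [eq_top_iff]
    intro x _
    have := ht (Set.mem_univ x)
    simp only [Set.mem_iUnion] at this
    obtain ⟨V, hV, hx⟩ := this
    exact Opens.mem_iSup.mpr ⟨⟨V, hV⟩, hx⟩
  · rw [Scheme.IdealSheafData.ideal_pow]
    change (I₀.ideal V.1) ^ (t.sup n + 1) ≤ _
    refine le_trans (Ideal.pow_le_pow_right ?_) (hn V.1)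
    exact (Finset.le_sup V.2).trans (Nat.le_succ _)

theorem support_subset_iff_exists_ideal [CompactSpace X] (I₀ : X.IdealSheafData)
    (hI₀ : ∀ V : X.affineOpens, (I₀.ideal V).FG) :
    CohB1.support F ⊆ (I₀.support : Set X) ↔
      ∃ I : X.IdealSheafData, (∀ V : X.affineOpens, (I.ideal V).FG) ∧
        (I.support : Set X) = (I₀.support : Set X) ∧
        ∀ (V : X.affineOpens) (a : Γ(X, V)), a ∈ I.ideal V → ∀ m : Γ(F, V.1), a • m = 0 := by
  constructor
  · intro hs
    obtain ⟨n, hn⟩ := exists_pow_le_annIdeal F I₀ hI₀ hs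
    refine ⟨I₀ ^ (n + 1), fun V => ?_, ?_, (le_annIdeal_iff F _).mp hn⟩
    · rw [Scheme.IdealSheafData.ideal_pow]
      exact (hI₀ V).pow
    · rw [Scheme.IdealSheafData.support_pow_succ]
  · rintro ⟨I, -, hsupp, hkill⟩
    rw [← hsupp]
    exact support_subset_of_le_annIdeal F I ((le_annIdeal_iff F I).mpr hkill)

end Groth.Agent.H71.QCoh
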