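import Groth.Agent.H71.QCoh.StalkFree
import Groth.Agent.H71.QCoh.FPCriterion

set_option autoImplicit false

open CategoryTheory Limits AlgebraicGeometry TopologicalSpace Opposite TensorProduct

namespace Groth.Agent.H71.QCoh

universe u

/-- a finitely presented module all of whose localizations at primes are free is projective -/
theorem projective_of_finitePresentation_of_free_localizations {R : Type u} [CommRing R]
    {N : Type u} [AddCommGroup N] [Module R N] [Module.FinitePresentation R N]
    (h : ∀ q : PrimeSpectrum R, Module.Free (Localization.AtPrime q.asIdeal)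
      (LocalizedModule q.asIdeal.primeCompl N)) : Module.Projective R N := by
  haveI : Module.Flat R N := by
    apply Module.flat_of_localized_maximal
    intro P hP
    haveI := h ⟨P, hP.isPrime⟩
    exact Module.Flat.trans R (Localization.AtPrime P) _
  exact Module.Flat.projective_of_finitePresentation

variable {X : Scheme.{u}} (M : X.Modules) [M.IsQuasicoherent]

theorem isFinLocFree_of_isFinitePresentation_of_free_stalks
    (hFP : SheafOfModules.IsFinitePresentation (R := X.ringCatSheaf) M)
    (hfree : ∀ x : X, Module.Free (X.presheaf.stalk x) (M.presheaf.stalk x)) :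
    FlatMod.IsFinLocFree M := by
  rw [Groth.Agent.H44.isFinLocFree_iff]
  intro V
  haveI := Groth.Agent.H44.finitePresentation_sections_of_isFinitePresentation M V.2
  exact ⟨inferInstance, projective_of_finitePresentation_of_free_localizations
    (free_localizedModule_of_free_stalks M V.2 hfree)⟩

theorem isFinitePresentation_of_isFinLocFree (h : FlatMod.IsFinLocFree M) :
    SheafOfModules.IsFinitePresentation (R := X.ringCatSheaf) M :=
  isFinitePresentation_of_finitePresentation_sections M (fun V : X.affineOpens => V.1)
    (iSup_affineOpens_eq_top X) (fun V => V.2) (fun V => by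
      obtain ⟨h1, h2⟩ := Groth.Agent.H44.finite_projective_of_isFinLocFree M h V.2
      exact Module.finitePresentation_of_projective _ _)

/-- a flat stalk of a quasi-coherent module of finite type is free -/
theorem free_stalk_of_flat_of_isFiniteType
    [SheafOfModules.IsFiniteType (R := X.ringCatSheaf) M] (x : X)
    (hflat : Module.Flat (X.presheaf.stalk x) (M.presheaf.stalk x)) :
    Module.Free (X.presheaf.stalk x) (M.presheaf.stalk x) := by
  obtain ⟨_, ⟨V, hV, rfl⟩, hxV, -⟩ :=
    X.isBasis_affineOpens.exists_subset_of_mem_open (Set.mem_univ x) isOpen_univ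
  haveI := Groth.Agent.H44.finite_sections_of_isFiniteType M hV
  letI := Groth.Agent.H8.stalkModule M hxV
  letI : Algebra Γ(X, V) (X.presheaf.stalk x) :=
    TopCat.Presheaf.algebra_section_stalk X.presheaf ⟨x, hxV⟩
  haveI : IsScalarTower Γ(X, V) (X.presheaf.stalk x) (M.presheaf.stalk x) :=
    IsScalarTower.of_algebraMap_smul (fun r m => rfl)
  haveI := hV.isLocalization_stalk ⟨x, hxV⟩
  haveI := Groth.Agent.H8.isLocalizedModule_germₗ M hV hxV
  haveI : Module.Finite (X.presheaf.stalk x) (M.presheaf.stalk x) :=
    Module.Finite.of_isLocalizedModule (hV.primeIdealOf ⟨x, hxV⟩).asIdeal.primeCompl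
      (Groth.Agent.H8.germₗ M hxV)
  exact Module.free_of_flat_of_isLocalRing

end Groth.Agent.H71.QCoh
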