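import Groth.Agent.H71.QCoh.ExactSections
import Groth.Agent.H71.QCoh.PullbackProps

/-!
# Surjective closed immersions (nil-immersions) and quasi-coherent modules of finite type

* `isNilpotent_of_app_eq_zero` : for a surjective morphism, sections over an affine open killed by
  `i.app V` are nilpotent.
* `isZero_of_isZero_pullback` : a quasi-coherent module of finite type with zero pullback along a
  surjective closed immersion is zero.
* `epi_iff_epi_pullback` : a map into a quasi-coherent module of finite type is an epimorphism iff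
  its pullback is.
-/

set_option autoImplicit false

open CategoryTheory Limits AlgebraicGeometry TopologicalSpace Opposite TensorProduct

namespace Groth.Agent.H71.QCoh

universe u

section Alg

variable {A A₀ N : Type u} [CommRing A] [CommRing A₀] [Algebra A A₀] [AddCommGroup N] [Module A N]

theorem subsingleton_of_tensor_nil (hsurj : Function.Surjective (algebraMap A A₀))
    (hnil : ∀ a ∈ RingHom.ker (algebraMap A A₀), IsNilpotent a) [Module.Finite A N]
    [Subsingleton (A₀ ⊗[A] N)] : Subsingleton N := by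
  set I := RingHom.ker (algebraMap A A₀) with hI
  have hsurj' : Function.Surjective (Algebra.ofId A A₀) := hsurj
  let e1 : (A ⧸ RingHom.ker (Algebra.ofId A A₀)) ≃ₐ[A] A₀ :=
    Ideal.quotientKerAlgEquivOfSurjective hsurj'
  let e2 : (A ⧸ RingHom.ker (Algebra.ofId A A₀)) ⊗[A] N ≃ₗ[A] A₀ ⊗[A] N :=
    TensorProduct.congr e1.toLinearEquiv (LinearEquiv.refl A N)
  let e3 := TensorProduct.quotTensorEquivQuotSMul N (RingHom.ker (Algebra.ofId A A₀))
  haveI : Subsingleton (N ⧸ (RingHom.ker (Algebra.ofId A A₀) • (⊤ : Submodule A N))) :=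
    (e3.symm.trans e2).toEquiv.subsingleton
  have htop : (⊤ : Submodule A N) ≤ RingHom.ker (Algebra.ofId A A₀) • (⊤ : Submodule A N) := by
    intro n _
    rw [← Submodule.Quotient.mk_eq_zero]
    exact Subsingleton.elim _ _
  have hjac : RingHom.ker (Algebra.ofId A A₀) ≤ Ideal.jacobson ⊥ := by
    intro a ha
    have : a ∈ nilradical A := mem_nilradical.mpr (hnil a ha)
    rw [Ideal.jacobson_bot]
    exact nilradical_le_jacobson A this
  have := Submodule.eq_bot_of_le_smul_of_le_jacobson_bot _ (⊤ : Submodule A N)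
    Module.Finite.fg_top htop hjac
  exact (Submodule.subsingleton_iff A).mp (subsingleton_of_bot_eq_top this.symm)

end Alg

variable {X X₀ : Scheme.{u}} (i : X₀ ⟶ X)

theorem isNilpotent_of_app_eq_zero [Surjective i] {V : X.Opens} (hV : IsAffineOpen V)
    (a : Γ(X, V)) (ha : (i.app V).hom a = 0) : IsNilpotent a := by
  rw [Scheme.isNilpotent_iff_basicOpen_eq_bot_of_isCompact hV.isCompact]
  rw [eq_bot_iff]
  intro x hx
  exfalso
  have hxV : x ∈ V := X.basicOpen_le a hx
  rw [Scheme.mem_basicOpen _ _ _ hxV] at hx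
  obtain ⟨x₀, rfl⟩ := i.surjective x
  have h1 := Scheme.Hom.germ_stalkMap_apply i V x₀ hxV a
  have h2 : IsUnit ((i.stalkMap x₀).hom ((X.presheaf.germ V (i x₀) hxV).hom a)) :=
    hx.map (i.stalkMap x₀).hom
  rw [show (i.stalkMap x₀).hom ((X.presheaf.germ V (i x₀) hxV).hom a) =
    (X₀.presheaf.germ (i ⁻¹ᵁ V) x₀ hxV).hom ((i.app V).hom a) from h1, ha, map_zero] at h2
  exact not_isUnit_zero h2

variable [IsClosedImmersion i] [Surjective i]

theorem isZero_of_isZero_pullback (C : X.Modules) [C.IsQuasicoherent]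
    [SheafOfModules.IsFiniteType (R := X.ringCatSheaf) C]
    (h : IsZero ((Scheme.Modules.pullback i).obj C)) : IsZero C := by
  refine isZero_of_subsingleton_sections_affine C (fun V => ?_)
  have hV := V.2
  have hU : IsAffineOpen (i ⁻¹ᵁ V.1) := hV.preimage i
  letI : Algebra Γ(X, V.1) Γ(X₀, i ⁻¹ᵁ V.1) := (i.appLE V.1 (i ⁻¹ᵁ V.1) le_rfl).hom.toAlgebra
  have happ : i.appLE V.1 (i ⁻¹ᵁ V.1) le_rfl = i.app V.1 := (Scheme.Hom.app_eq_appLE i).symm
  haveI := Groth.Agent.H44.finite_sections_of_isFiniteType C hV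
  haveI : Subsingleton Γ((Scheme.Modules.pullback i).obj C, i ⁻¹ᵁ V.1) :=
    subsingleton_sections_of_isZero h _
  haveI : Subsingleton (Γ(X₀, i ⁻¹ᵁ V.1) ⊗[Γ(X, V.1)] Γ(C, V.1)) :=
    (Groth.Agent.H44.pullbackSectionsEquiv i C hU hV le_rfl).symm.toEquiv.subsingleton
  refine subsingleton_of_tensor_nil (A := Γ(X, V.1)) (A₀ := Γ(X₀, i ⁻¹ᵁ V.1)) ?_ ?_
  · change Function.Surjective (i.appLE V.1 (i ⁻¹ᵁ V.1) le_rfl).hom
    rw [happ]
    exact i.app_surjective V.1 hV
  · intro a ha
    refine isNilpotent_of_app_eq_zero i hV a ?_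
    change (i.appLE V.1 (i ⁻¹ᵁ V.1) le_rfl).hom a = 0 at ha
    rw [happ] at ha
    exact ha

theorem epi_iff_epi_pullback {F G : X.Modules} [F.IsQuasicoherent] [G.IsQuasicoherent]
    [SheafOfModules.IsFiniteType (R := X.ringCatSheaf) G] (u : F ⟶ G) :
    Epi u ↔ Epi ((Scheme.Modules.pullback i).map u) := by
  constructor
  · intro h
    haveI : PreservesColimitsOfSize.{0, 0} (Scheme.Modules.pullback i) :=
      (Scheme.Modules.pullbackPushforwardAdjunction i).leftAdjoint_preservesColimits
    infer_instance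
  · intro h
    have hq : (cokernel u).IsQuasicoherent :=
      Groth.Agent.H12.QCohAbelian.isQuasicoherent_cokernel u
    have hft := isFiniteType_of_epi (cokernel.π u)
    have hC : IsZero (cokernel u) := by
      refine isZero_of_isZero_pullback i (cokernel u) ?_
      haveI : PreservesColimitsOfSize.{0, 0} (Scheme.Modules.pullback i) :=
        (Scheme.Modules.pullbackPushforwardAdjunction i).leftAdjoint_preservesColimits
      haveI : (Scheme.Modules.pullback i).Additive :=
        (Scheme.Modules.pullbackPushforwardAdjunction i).left_adjoint_additive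
      refine IsZero.of_iso ?_ (PreservesCokernel.iso (Scheme.Modules.pullback i) u)
      exact isZero_cokernel_of_epi _
    exact Preadditive.epi_of_isZero_cokernel u hC

end Groth.Agent.H71.QCoh
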