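import Groth.Agent.H71.QCoh.Thickening

/-!
# Projectivity of sections of quasi-coherent modules on affine schemes

* `projective_gammaSpec_iff`, `projective_sections_of_projective_top`, `tilde_projective_sections_iff`.
-/

set_option autoImplicit false

open CategoryTheory Limits AlgebraicGeometry TopologicalSpace Opposite TensorProduct

namespace Groth.Agent.H71.QCoh

universe u

variable {A : CommRingCat.{u}}

theorem projective_gammaSpec_iff (N : (Spec A).Modules) :
    Module.Projective A (Groth.Agent.H44.gammaSpec N : Type u) ↔
      Module.Projective Γ(Spec A, ⊤) Γ(N, ⊤) := by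
  let e : Γ(Spec A, ⊤) ≃+* A := (Scheme.ΓSpecIso A).commRingCatIsoToRingEquiv
  letI i1 : RingHomInvPair (e : Γ(Spec A, ⊤) →+* A) (e.symm : A →+* Γ(Spec A, ⊤)) :=
    RingHomInvPair.of_ringEquiv e
  letI i2 : RingHomInvPair (e.symm : A →+* Γ(Spec A, ⊤)) (e : Γ(Spec A, ⊤) →+* A) :=
    RingHomInvPair.of_ringEquiv_symm e
  let e₂ : Γ(N, ⊤) ≃ₛₗ[(e : Γ(Spec A, ⊤) →+* A)] (Groth.Agent.H44.gammaSpec N : Type u) :=
    { toFun := fun m => m
      invFun := fun m => m
      map_add' := fun _ _ => rfl
      map_smul' := fun r m => by
        change r • m = (Scheme.ΓSpecIso A).inv.hom ((Scheme.ΓSpecIso A).hom.hom r) • m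
        rw [← CommRingCat.comp_apply, Iso.hom_inv_id]
        rfl
      left_inv := fun _ => rfl
      right_inv := fun _ => rfl }
  constructor
  · intro h
    exact Module.Projective.of_equiv e₂.symm
  · intro h
    exact Module.Projective.of_equiv e₂

/-- a quasi-coherent module on an affine scheme with projective global sections has projective
sections over every affine open -/
theorem projective_sections_of_projective_top {X : Scheme.{u}} (hX : IsAffineOpen (⊤ : X.Opens))
    (G : X.Modules) [G.IsQuasicoherent] (h : Module.Projective Γ(X, ⊤) Γ(G, ⊤)) {U : X.Opens}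
    (hU : IsAffineOpen U) : Module.Projective Γ(X, U) Γ(G, U) := by
  have h1 : Module.Projective Γ(X, U) Γ((Scheme.Modules.pullback (𝟙 X)).obj G, U) :=
    projective_sections_pullback (𝟙 X) G hU hX le_top h
  exact Module.Projective.of_equiv' (sectionsEquivOfIso ((Scheme.Modules.pullbackId X).app G) U)

theorem tilde_projective_sections_iff (M : ModuleCat.{u} A) :
    (∀ U : (Spec A).Opens, IsAffineOpen U → Module.Projective Γ(Spec A, U) Γ(tilde M, U)) ↔
      Module.Projective A M := by
  constructor
  · intro h
    have h1 := (projective_gammaSpec_iff (tilde M)).mpr (h ⊤ (isAffineOpen_top _))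
    exact Module.Projective.of_equiv' (tilde.isoTop M).symm.toLinearEquiv
  · intro h U hU
    have h1 : Module.Projective A (Groth.Agent.H44.gammaSpec (tilde M) : Type u) :=
      Module.Projective.of_equiv' (tilde.isoTop M).toLinearEquiv
    exact projective_sections_of_projective_top (isAffineOpen_top _) (tilde M)
      ((projective_gammaSpec_iff (tilde M)).mp h1) hU

end Groth.Agent.H71.QCoh
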